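import Cfsg.Agent.Lib.LyGTwo.TableOne

/-! The check of stage 1 of the bound. -/

set_option autoImplicit false
set_option maxRecDepth 200000

namespace CfsgLib.LyGTwo

theorem checkOne : CosetCert.check certOne (edgesOf (entriesOf 17 treeOne)) (stepsOf (entriesOf 24 stepsOne)) = true := by
  decide +kernel

end CfsgLib.LyGTwo
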