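import Cfsg.Agent.Lib.LyGTwo.TableThree

/-! The check of stage 3 of the bound. -/

set_option autoImplicit false
set_option maxRecDepth 200000

namespace CfsgLib.LyGTwo

theorem checkThree : CosetCert.check certThree (edgesOf (entriesOf 17 treeThree)) (stepsOf (entriesOf 24 stepsThree)) = true := by
  decide +kernel

end CfsgLib.LyGTwo
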