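import Cfsg.Agent.Lib.LyGTwo.TableTwo

/-! The check of stage 2 of the bound. -/

set_option autoImplicit false
set_option maxRecDepth 200000

namespace CfsgLib.LyGTwo

theorem checkTwo : CosetCert.check certTwo (edgesOf (entriesOf 17 treeTwo)) (stepsOf (entriesOf 24 stepsTwo)) = true := by
  decide +kernel

end CfsgLib.LyGTwo
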