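import Cfsg.Agent.Lib.LyGTwo.WordData
import Mathlib.GroupTheory.FreeGroup.Reduce
import Mathlib.GroupTheory.PresentedGroup

/-!
# Evaluation of words in five generators
-/

set_option autoImplicit false

namespace CfsgLib.LyGTwo

open Cfsg.Spor

variable {M : Type*} [Group M]

/-- The value of a letter. -/
def letV (f : ℕ → M) (g : ℕ) : M := if g % 10 < 5 then f (g % 10) else (f (g % 10 - 5))⁻¹

/-- The inverse letter. -/
def iv10 (g : ℕ) : ℕ := (g % 10 + 5) % 10

/-- The value of a word. -/
def prodV (f : ℕ → M) (w : List ℕ) : M := (w.map (letV f)).prod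

/-- The inverse word. -/
def invW (w : List ℕ) : List ℕ := w.reverse.map iv10

/-- Free reduction. -/
def fred : List ℕ → List ℕ
  | [] => []
  | g :: w => match fred w with
    | [] => [g]
    | h :: t => if Nat.beq h (iv10 g) then t else g :: h :: t

theorem letV_iv (f : ℕ → M) (g : ℕ) : letV f (iv10 g) = (letV f g)⁻¹ := by
  simp only [letV, iv10, Nat.mod_mod]
  rcases lt_or_ge (g % 10) 5 with h | h
  · rw [if_neg (by omega), if_pos h, show (g % 10 + 5) % 10 - 5 = g % 10 by omega]
  · rw [if_pos (by omega), if_neg (by omega), inv_inv,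
      show (g % 10 + 5) % 10 = g % 10 - 5 by omega]

@[simp] theorem prodV_nil (f : ℕ → M) : prodV f [] = 1 := rfl

theorem prodV_cons (f : ℕ → M) (g : ℕ) (w : List ℕ) : prodV f (g :: w) = letV f g * prodV f w := by
  simp [prodV]

theorem prodV_append (f : ℕ → M) (u w : List ℕ) : prodV f (u ++ w) = prodV f u * prodV f w := by
  simp [prodV, List.prod_append]

theorem prodV_flatMap (f : ℕ → M) (e : ℕ → List ℕ) (w : List ℕ) :
    prodV f (w.flatMap e) = (w.map fun g => prodV f (e g)).prod := by
  induction w with
  | nil => simp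
  | cons g w ih => simp [List.flatMap_cons, prodV_append, ih]

theorem prodV_invW (f : ℕ → M) : ∀ w : List ℕ, prodV f (invW w) = (prodV f w)⁻¹
  | [] => by simp [invW]
  | g :: w => by
    have h : invW (g :: w) = invW w ++ [iv10 g] := by simp [invW]
    rw [h, prodV_append, prodV_invW f w, prodV_cons f g w, prodV_cons, prodV_nil, mul_one, letV_iv,
      mul_inv_rev]

theorem prodV_fred (f : ℕ → M) : ∀ w : List ℕ, prodV f (fred w) = prodV f w
  | [] => rfl
  | g :: w => by
    rw [fred, prodV_cons f g w, ← prodV_fred f w]
    cases hh : fred w with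
    | nil => simp [prodV_cons]
    | cons h t =>
      dsimp only
      split
      · rename_i hb
        rw [prodV_cons f h t, Nat.eq_of_beq_eq_true hb, letV_iv, mul_inv_cancel_left]
      · rw [prodV_cons]

theorem map_prodV {N : Type*} [Group N] (φ : M →* N) (f : ℕ → M) (w : List ℕ) :
    φ (prodV f w) = prodV (fun g => φ (f g)) w := by
  induction w with
  | nil => simp
  | cons g w ih =>
    rw [prodV_cons, prodV_cons, map_mul, ih, letV, letV]
    split <;> simp

/-- A generator, or its inverse, as a word. -/
def expand (p : Ly.Gen × Bool) : List ℕ := if p.2 then defW p.1 else invW (defW p.1)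

/-- The images of all generators. -/
def genV (f : ℕ → M) (g : Ly.Gen) : M := prodV f (defW g)

theorem lift_genV (f : ℕ → M) (r : FreeGroup Ly.Gen) :
    FreeGroup.lift (genV f) r = prodV f (fred (r.toWord.flatMap expand)) := by
  conv_lhs => rw [← FreeGroup.mk_toWord (x := r)]
  rw [prodV_fred, FreeGroup.lift_mk]
  induction r.toWord with
  | nil => simp
  | cons p l ih =>
    rw [List.map_cons, List.prod_cons, List.flatMap_cons, prodV_append, ih]
    congr 1
    rcases p with ⟨g, _ | _⟩
    · simp [expand, genV, prodV_invW]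
    · simp [expand, genV]

end CfsgLib.LyGTwo
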