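import Cfsg.Agent.Lib.LyGTwo.Coset
import Cfsg.Agent.Lib.LyGTwo.Words
import Cfsg.Agent.Lib.LyGTwo.TableOneCheck
import Cfsg.Agent.Lib.LyGTwo.TableTwoCheck
import Cfsg.Agent.Lib.LyGTwo.TableThreeCheck
import Mathlib.GroupTheory.OrderOfElement

/-!
# At most 5859000000 elements from the relations 1 to 44
-/

set_option autoImplicit false
set_option maxRecDepth 100000

namespace CfsgLib.LyGTwo

/-- The first 44 relators. -/
def rel44 (j : ℕ) : List ℕ := (relW.take 44).getD j []

/-- A letter of a stage as a word. -/
def stW (ix : List ℕ) (g : ℕ) : List ℕ := letW.getD (ix.getD g 0) []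

/-- A word follows from the relators by conjugation and free reduction. -/
def relChk (ix : List ℕ) : List (List ℕ) → List (List ℕ × ℕ) → Bool
  | [], [] => true
  | w :: ws, (u, j) :: us =>
    decide (fred (w.flatMap (stW ix)) = fred (u ++ rel44 j ++ invW u)) && relChk ix ws us
  | _, _ => false

/-- The inverse letters match. -/
def invChk (C : CosetCert.Data) (ix : List ℕ) : Bool :=
  (List.range C.ng).all fun g =>
    Nat.blt (C.iv g) C.ng && decide (fred (stW ix (C.iv g)) = fred (invW (stW ix g)))

theorem chks_ok :
    relChk ixOne certOne.rels witOne = true ∧ relChk ixTwo certTwo.rels witTwo = true ∧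
      relChk ixThree certThree.rels witThree = true ∧ invChk certOne ixOne = true ∧
      invChk certTwo ixTwo = true ∧ invChk certThree ixThree = true := by
  refine ⟨?_, ?_, ?_, ?_, ?_, ?_⟩ <;> decide +kernel

variable {M : Type*} [Group M] (f : ℕ → M)

/-- The value of a stage letter. -/
def stE (ix : List ℕ) (g : ℕ) : M := prodV f (stW ix g)

theorem relChk_sound (h44 : ∀ j, prodV f (rel44 j) = 1) (ix : List ℕ) :
    ∀ {ws : List (List ℕ)} {us : List (List ℕ × ℕ)}, relChk ix ws us = true →
      ∀ w ∈ ws, (w.map (stE f ix)).prod = 1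
  | [], _, _ => by simp
  | _ :: _, [], h => by simp [relChk] at h
  | w :: ws, (u, j) :: us, h => by
    simp only [relChk, Bool.and_eq_true, decide_eq_true_eq] at h
    intro x hx
    rcases List.mem_cons.1 hx with rfl | hx
    · have e := congrArg (prodV f) h.1
      rw [prodV_fred, prodV_fred, prodV_flatMap, prodV_append, prodV_append, prodV_invW, h44, mul_one,
        mul_inv_cancel] at e
      exact e
    · exact relChk_sound h44 ix h.2 x hx

theorem invChk_sound {C : CosetCert.Data} {ix : List ℕ} (h : invChk C ix = true) {g : ℕ} (hg : g < C.ng) :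
    C.iv g < C.ng ∧ stE f ix (C.iv g) = (stE f ix g)⁻¹ := by
  have h1 := List.all_eq_true.1 h g (List.mem_range.2 hg)
  simp only [Bool.and_eq_true, Nat.blt_eq, decide_eq_true_eq] at h1
  refine ⟨h1.1, ?_⟩
  have e := congrArg (prodV f) h1.2
  rwa [prodV_fred, prodV_fred, prodV_invW] at e

theorem card_le (h44 : ∀ j, prodV f (rel44 j) = 1) :
    Finite ↥(Subgroup.closure (f '' {g | g < 4})) ∧
      Nat.card ↥(Subgroup.closure (f '' {g | g < 4})) ≤ 5859000000 := by
  obtain ⟨r1, r2, r3, i1, i2, i3⟩ := chks_ok
  set K0 := Subgroup.zpowers (stE f ixOne 4)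
  have hfive : (stE f ixOne 4) ^ 5 = 1 := by
    have := relChk_sound f h44 ixOne r1 [4, 4, 4, 4, 4] (by decide +kernel)
    simpa [pow_succ, mul_assoc] using this
  have hfin : IsOfFinOrder (stE f ixOne 4) := isOfFinOrder_iff_pow_eq_one.2 ⟨5, by norm_num, hfive⟩
  haveI : Finite ↥K0 := hfin.finite_zpowers.to_subtype
  have c0 : Nat.card ↥K0 ≤ 5 := by
    rw [Nat.card_zpowers]
    exact orderOf_le_of_pow_eq_one (by norm_num) hfive
  obtain ⟨f1, c1⟩ := stage_bound certOne checkOne (by decide +kernel) (stE f ixOne)
    (fun g hg => (invChk_sound f i1 hg).2) (fun g hg => (invChk_sound f i1 hg).1)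
    (relChk_sound f h44 ixOne r1) K0 (by
      intro w hw
      obtain rfl : w = [4] := by
        have hs : certOne.subs = [[4]] := by decide +kernel
        rw [hs] at hw
        simpa using hw
      simp [K0])
  set K1 := Subgroup.closure (stE f ixOne '' {g | g < certOne.ng})
  haveI := f1
  obtain ⟨f2, c2⟩ := stage_bound certTwo checkTwo (by decide +kernel) (stE f ixTwo)
    (fun g hg => (invChk_sound f i2 hg).2) (fun g hg => (invChk_sound f i2 hg).1)
    (relChk_sound f h44 ixTwo r2) K1 (by
      have hs : certTwo.subs.all (fun w => match w with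
          | [g] => (List.range certOne.ng).any fun h => decide (stW ixTwo g = stW ixOne h)
          | _ => false) = true := by decide +kernel
      intro w hw
      have h := List.all_eq_true.1 hs w hw
      split at h
      · rename_i g
        obtain ⟨k, hk, e⟩ := List.any_eq_true.1 h
        refine Subgroup.subset_closure ⟨k, List.mem_range.1 hk, ?_⟩
        simp [stE, of_decide_eq_true e]
      · simp at h)
  set K2 := Subgroup.closure (stE f ixTwo '' {g | g < certTwo.ng})
  haveI := f2
  obtain ⟨f3, c3⟩ := stage_bound certThree checkThree (by decide +kernel) (stE f ixThree)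
    (fun g hg => (invChk_sound f i3 hg).2) (fun g hg => (invChk_sound f i3 hg).1)
    (relChk_sound f h44 ixThree r3) K2 (by
      have hs : certThree.subs.all (fun w => match w with
          | [g] => (List.range certTwo.ng).any fun h => decide (stW ixThree g = stW ixTwo h)
          | _ => false) = true := by decide +kernel
      intro w hw
      have h := List.all_eq_true.1 hs w hw
      split at h
      · rename_i g
        obtain ⟨k, hk, e⟩ := List.any_eq_true.1 h
        refine Subgroup.subset_closure ⟨k, List.mem_range.1 hk, ?_⟩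
        simp [stE, of_decide_eq_true e]
      · simp at h)
  set K3 := Subgroup.closure (stE f ixThree '' {g | g < certThree.ng})
  have hle : Subgroup.closure (f '' {g | g < 4}) ≤ K3 := by
    have hs : (List.range 4).all (fun g => decide (g < certThree.ng) && decide (stW ixThree g = [g])) = true := by
      decide +kernel
    rw [Subgroup.closure_le]
    rintro x ⟨g, hg, rfl⟩
    have h := List.all_eq_true.1 hs g (List.mem_range.2 hg)
    simp only [Bool.and_eq_true, decide_eq_true_eq] at h
    refine Subgroup.subset_closure ⟨g, h.1, ?_⟩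
    have hg' : g < 4 := hg
    simp [stE, h.2, prodV, letV, Nat.mod_eq_of_lt (show g < 10 by omega), show g < 5 by omega]
  haveI := f3
  refine ⟨Finite.of_injective (Subgroup.inclusion hle) (Subgroup.inclusion_injective hle), ?_⟩
  have hn : certOne.n = 625 ∧ certTwo.n = 480 ∧ certThree.n = 3906 := by decide +kernel
  have h4 : Nat.card ↥(Subgroup.closure (f '' {g | g < 4})) ≤ Nat.card ↥K3 :=
    Nat.card_le_card_of_injective _ (Subgroup.inclusion_injective hle)
  rw [hn.1] at c1
  rw [hn.2.1] at c2
  rw [hn.2.2] at c3
  omega

end CfsgLib.LyGTwo
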