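import Cfsg.Agent.Lib.CosetCert.Basic
import Mathlib.GroupTheory.GroupAction.Quotient
import Mathlib.Algebra.BigOperators.Group.List.Basic
import Mathlib.SetTheory.Cardinal.Finite

/-!
# Orders of generated subgroups from coset tables
-/

set_option autoImplicit false

namespace CfsgLib.LyGTwo

open CfsgLib.CosetCert

variable {M : Type*} [Group M]

theorem act_inv (e : ℕ → M) : ∀ w : List ℕ, act (fun g => (e g)⁻¹) w = ((w.map e).prod)⁻¹
  | [] => by simp
  | g :: w => by rw [act_cons, act_inv e w, List.map_cons, List.prod_cons, mul_inv_rev]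

/-- One step of a chain of subgroups. -/
theorem stage_bound (C : Data) {tree : List (ℕ × ℕ)} {steps : List (ℕ × ℕ × ℕ)}
    (hc : check C tree steps = true) (hn : 0 < C.n) (e : ℕ → M)
    (hiv : ∀ g, g < C.ng → e (C.iv g) = (e g)⁻¹)
    (hlt : ∀ g, g < C.ng → C.iv g < C.ng)
    (hrel : ∀ w ∈ C.rels, (w.map e).prod = 1) (K : Subgroup M) [Finite ↥K]
    (hsub : ∀ w ∈ C.subs, (w.map e).prod ∈ K) :
    Finite ↥(Subgroup.closure (e '' {g | g < C.ng})) ∧
      Nat.card ↥(Subgroup.closure (e '' {g | g < C.ng})) ≤ C.n * Nat.card ↥K := by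
  obtain ⟨h0, hT⟩ := check_sound (gen := fun g => (e g)⁻¹) (x₀ := ((1 : M) : M ⧸ K)) hc
    (fun g hg => by rw [hiv g hg])
    (fun w hw => by rw [act_inv, hrel w hw, inv_one])
    (fun w hw => by
      rw [act_inv, MulAction.Quotient.smul_coe, smul_eq_mul, mul_one, QuotientGroup.eq]
      simpa using hsub w hw)
  set H := Subgroup.closure (e '' {g | g < C.ng})
  set p : ℕ → M := fun i => act (fun g => (e g)⁻¹) (C.rep i)
  have hp : ∀ i, pt C (fun g => (e g)⁻¹) ((1 : M) : M ⧸ K) i = ((p i : M) : M ⧸ K) := fun i => by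
    simp [pt, p, MulAction.Quotient.smul_coe]
  let S : M → Prop := fun h => ∀ i < C.n,
    ∃ j < C.n, h • ((p i : M) : M ⧸ K) = ((p j : M) : M ⧸ K)
  have key : ∀ h ∈ H, S h ∧ S h⁻¹ := by
    intro h hh
    induction hh using Subgroup.closure_induction with
    | mem x hx =>
      obtain ⟨g, hg, rfl⟩ := hx
      refine ⟨fun i hi => ?_, fun i hi => ?_⟩
      · obtain ⟨h1, h2⟩ := hT i (C.iv g) hi (hlt g hg)
        simp only [hp, hiv g hg, inv_inv] at h2
        exact ⟨_, h1, h2⟩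
      · obtain ⟨h1, h2⟩ := hT i g hi hg
        simp only [hp] at h2
        exact ⟨_, h1, h2⟩
    | one => exact ⟨fun i hi => ⟨i, hi, one_smul _ _⟩, fun i hi => ⟨i, hi, by rw [inv_one, one_smul]⟩⟩
    | mul x y _ _ hx hy =>
      refine ⟨fun i hi => ?_, fun i hi => ?_⟩
      · obtain ⟨j, hj, e1⟩ := hy.1 i hi
        obtain ⟨k, hk, e2⟩ := hx.1 j hj
        exact ⟨k, hk, by rw [mul_smul, e1, e2]⟩
      · obtain ⟨j, hj, e1⟩ := hx.2 i hi
        obtain ⟨k, hk, e2⟩ := hy.2 j hj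
        exact ⟨k, hk, by rw [mul_inv_rev, mul_smul, e1, e2]⟩
    | inv x _ hx => exact ⟨hx.2, by rw [inv_inv]; exact hx.1⟩
  have hcov : ∀ h : ↥H, ∃ j : Fin C.n, (p j)⁻¹ * (h : M) ∈ K := fun h => by
    obtain ⟨j, hj, e1⟩ := (key h h.2).1 0 hn
    rw [← hp 0, h0, MulAction.Quotient.smul_coe, smul_eq_mul, mul_one, QuotientGroup.eq] at e1
    refine ⟨⟨j, hj⟩, ?_⟩
    have := K.inv_mem e1
    simpa using this
  choose j hj using hcov
  let f : ↥H → Fin C.n × ↥K := fun h => (j h, ⟨_, hj h⟩)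
  have hf : Function.Injective f := fun a b h => by
    simp only [f, Prod.mk.injEq, Subtype.mk.injEq] at h
    rw [h.1] at h
    exact Subtype.ext (mul_left_cancel h.2)
  refine ⟨Finite.of_injective f hf, ?_⟩
  calc Nat.card ↥H ≤ Nat.card (Fin C.n × ↥K) := Nat.card_le_card_of_injective f hf
    _ = C.n * Nat.card ↥K := by rw [Nat.card_prod, Nat.card_fin]

end CfsgLib.LyGTwo
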