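import Mathlib.Init
import Mathlib.Data.Nat.Notation

/-! Sparse matrices over five elements (generated by tools_ly/genm.py). -/

set_option autoImplicit false
set_option maxRecDepth 100000

namespace CfsgLib.LyGTwo

/-- Sparse rows. -/
def gTwoA : List (List (ℕ × ℕ)) := [
  [(0, 3), (0, 4), (4, 2), (2, 4)],
  [(1, 1)],
  [(2, 2)],
  [(3, 3), (0, 3), (0, 4), (1, 4)],
  [(3, 3), (0, 4), (2, 3)],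
  [(3, 2), (1, 1), (1, 4)],
  [(0, 3), (0, 1), (4, 3), (2, 3)],
  [(3, 3), (0, 1), (0, 1), (1, 2)],
  [(8, 4), (1, 4), (0, 3), (0, 3)],
  [(0, 4), (0, 3), (4, 2), (2, 3)],
  [(8, 4), (1, 2), (1, 1)],
  [(8, 4), (2, 3), (0, 2)],
  [(8, 1), (1, 2), (0, 3), (0, 1)],
  [(13, 3)]]

/-- Sparse rows. -/
def gTwoB : List (List (ℕ × ℕ)) := [
  [(0, 1), (5, 1)],
  [(1, 1)],
  [(2, 1)],
  [(3, 1)],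
  [(3, 4), (0, 1)],
  [(3, 4), (0, 2), (0, 1)],
  [(6, 1)],
  [(3, 4), (0, 3), (0, 3), (1, 1)],
  [(8, 1)],
  [(0, 3), (0, 1), (4, 4), (2, 1)],
  [(8, 4), (1, 1)],
  [(8, 1), (1, 3), (0, 1)],
  [(8, 1), (1, 2), (0, 3), (0, 1)],
  [(13, 1)]]

/-- Sparse rows. -/
def gTwoC : List (List (ℕ × ℕ)) := [
  [(0, 1), (1, 4), (0, 2), (0, 4), (0, 1)],
  [(1, 1), (1, 2), (0, 1), (0, 3)],
  [(2, 1)],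
  [(3, 1)],
  [(2, 4), (1, 1)],
  [(2, 2), (2, 1)],
  [(2, 1), (0, 2), (0, 3), (1, 1)],
  [(2, 2), (4, 1)],
  [(2, 1), (0, 3), (0, 2), (1, 3), (1, 1)],
  [(2, 4), (1, 2), (0, 1), (1, 4), (1, 1)],
  [(0, 1), (0, 4), (0, 1), (0, 4), (1, 4), (0, 4), (3, 1)],
  [(0, 3), (1, 1), (0, 1), (2, 3), (0, 4), (1, 2), (1, 1)],
  [(0, 4), (0, 2), (0, 4), (0, 1), (0, 3), (0, 2), (1, 3), (1, 4), (2, 1)],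
  [(0, 4), (0, 3), (1, 1), (0, 2), (0, 2), (0, 2), (0, 4), (0, 3), (0, 3), (0, 4), (0, 3), (1, 1)]]

/-- Sparse rows. -/
def gTwoD : List (List (ℕ × ℕ)) := [
  [(0, 1), (0, 4)],
  [(1, 4)],
  [(13, 4)],
  [(8, 1)],
  [(10, 1)],
  [(11, 4)],
  [(6, 1)],
  [(12, 4)],
  [(3, 4)],
  [(9, 1)],
  [(4, 4)],
  [(5, 1)],
  [(7, 1)],
  [(2, 4)]]

/-- Sparse rows. -/
def gTwoE : List (List (ℕ × ℕ)) := [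
  [(0, 1)],
  [(1, 1)],
  [(2, 1)],
  [(3, 1)],
  [(4, 1)],
  [(5, 1)],
  [(6, 1)],
  [(7, 1)],
  [(8, 1)],
  [(9, 1)],
  [(10, 1)],
  [(11, 1)],
  [(12, 1)],
  [(13, 1)]]

/-- Sparse rows. -/
def gTwoF : List (List (ℕ × ℕ)) := [
  [(0, 3), (0, 4), (4, 2), (2, 4)],
  [(1, 1)],
  [(2, 3)],
  [(3, 1), (0, 1), (0, 3), (1, 3)],
  [(3, 1), (0, 3), (2, 1)],
  [(3, 4), (1, 2), (1, 3)],
  [(0, 3), (0, 1), (4, 3), (2, 3)],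
  [(3, 1), (0, 2), (0, 2), (1, 4)],
  [(8, 2), (1, 2), (0, 4), (0, 4)],
  [(0, 4), (0, 3), (4, 2), (2, 3)],
  [(8, 2), (1, 1), (1, 3)],
  [(8, 2), (2, 4), (0, 1)],
  [(8, 3), (1, 1), (0, 4), (0, 3)],
  [(13, 2)]]

/-- Sparse rows. -/
def gTwoG : List (List (ℕ × ℕ)) := [
  [(0, 1), (5, 4)],
  [(1, 1)],
  [(2, 1)],
  [(3, 1)],
  [(3, 1), (0, 1)],
  [(3, 4), (0, 3), (0, 1)],
  [(6, 1)],
  [(3, 1), (0, 3), (0, 2), (1, 1)],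
  [(8, 1)],
  [(0, 2), (0, 4), (4, 4), (2, 1)],
  [(8, 1), (1, 1)],
  [(8, 1), (1, 2), (0, 1)],
  [(8, 4), (1, 2), (0, 2), (0, 1)],
  [(13, 1)]]

/-- Sparse rows. -/
def gTwoH : List (List (ℕ × ℕ)) := [
  [(0, 1), (1, 4), (0, 3), (0, 1), (0, 4)],
  [(1, 1), (1, 3), (0, 4), (0, 2)],
  [(2, 1)],
  [(3, 1)],
  [(2, 1), (1, 1)],
  [(2, 3), (2, 1)],
  [(2, 1), (0, 3), (0, 2), (1, 1)],
  [(2, 3), (4, 1)],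
  [(2, 4), (0, 3), (0, 2), (1, 2), (1, 1)],
  [(2, 4), (1, 3), (0, 4), (1, 1), (1, 1)],
  [(0, 4), (0, 1), (0, 4), (0, 4), (1, 4), (0, 1), (3, 1)],
  [(0, 2), (1, 4), (0, 1), (2, 2), (0, 4), (1, 3), (1, 1)],
  [(0, 1), (0, 3), (0, 1), (0, 1), (0, 3), (0, 2), (1, 3), (1, 1), (2, 1)],
  [(0, 4), (0, 3), (1, 4), (0, 3), (0, 3), (0, 2), (0, 1), (0, 2), (0, 3), (0, 1), (0, 2), (1, 1)]]

/-- Sparse rows. -/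
def gTwoI : List (List (ℕ × ℕ)) := [
  [(0, 1), (0, 4)],
  [(1, 4)],
  [(13, 4)],
  [(8, 4)],
  [(10, 4)],
  [(11, 1)],
  [(6, 1)],
  [(12, 1)],
  [(3, 1)],
  [(9, 1)],
  [(4, 1)],
  [(5, 4)],
  [(7, 4)],
  [(2, 4)]]

/-- Sparse rows. -/
def gTwoJ : List (List (ℕ × ℕ)) := [
  [(0, 1)],
  [(1, 1)],
  [(2, 1)],
  [(3, 1)],
  [(4, 1)],
  [(5, 1)],
  [(6, 1)],
  [(7, 1)],
  [(8, 1)],
  [(9, 1)],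
  [(10, 1)],
  [(11, 1)],
  [(12, 1)],
  [(13, 1)]]

/-- Sparse rows. -/
def rootA : List (List (ℕ × ℕ)) := [
  [(0, 1), (12, 4)],
  [(1, 1), (11, 3)],
  [(1, 1), (0, 1), (10, 4)],
  [(3, 1), (4, 1)],
  [(4, 1), (5, 1)],
  [(5, 1), (5, 4)],
  [(6, 1)],
  [(7, 1), (4, 4)],
  [(8, 1)],
  [(9, 1)],
  [(10, 1)],
  [(11, 1)],
  [(12, 1)],
  [(13, 1)]]

/-- Sparse rows. -/
def rootB : List (List (ℕ × ℕ)) := [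
  [(0, 1), (11, 4)],
  [(1, 1), (10, 4)],
  [(2, 1), (4, 1)],
  [(0, 3), (0, 4), (1, 1), (8, 4)],
  [(4, 1), (4, 1)],
  [(5, 1)],
  [(6, 1), (4, 4)],
  [(7, 1)],
  [(8, 1), (4, 4)],
  [(9, 1)],
  [(10, 1)],
  [(11, 1)],
  [(12, 1)],
  [(13, 1)]]

/-- Sparse rows. -/
def rootC : List (List (ℕ × ℕ)) := [
  [(0, 1), (10, 3)],
  [(1, 1), (9, 2)],
  [(2, 1), (2, 3), (3, 2), (2, 1)],
  [(3, 1), (2, 3), (3, 3), (2, 4)],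
  [(0, 1), (3, 1), (6, 4)],
  [(5, 1), (3, 3), (2, 1)],
  [(6, 1), (3, 2), (2, 4)],
  [(7, 1)],
  [(8, 1)],
  [(9, 1), (2, 4)],
  [(10, 1), (2, 4)],
  [(11, 1)],
  [(12, 1)],
  [(13, 1)]]

/-- Sparse rows. -/
def rootD : List (List (ℕ × ℕ)) := [
  [(0, 1), (9, 4)],
  [(1, 1), (8, 2)],
  [(2, 1), (1, 2), (1, 3), (1, 1)],
  [(3, 1)],
  [(4, 1), (1, 3), (1, 4)],
  [(0, 4), (0, 1), (3, 1), (4, 4)],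
  [(6, 1), (1, 1)],
  [(7, 1), (1, 2), (1, 2), (1, 4)],
  [(8, 1)],
  [(9, 1), (1, 2), (1, 1)],
  [(10, 1)],
  [(11, 1), (1, 1)],
  [(12, 1)],
  [(13, 1)]]

/-- Sparse rows. -/
def rootE : List (List (ℕ × ℕ)) := [
  [(0, 1), (8, 4)],
  [(1, 1)],
  [(2, 1)],
  [(3, 1), (0, 2), (0, 2), (1, 4)],
  [(4, 1), (0, 2), (1, 1)],
  [(5, 1), (1, 1)],
  [(0, 2), (0, 4), (4, 1), (2, 4)],
  [(7, 1)],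
  [(8, 1), (1, 2), (0, 3), (0, 1)],
  [(9, 1)],
  [(10, 1), (0, 3), (0, 4)],
  [(11, 1), (0, 1)],
  [(12, 1)],
  [(13, 1)]]

/-- Sparse rows. -/
def rootF : List (List (ℕ × ℕ)) := [
  [(0, 1)],
  [(1, 1), (6, 4)],
  [(2, 1), (0, 4)],
  [(3, 1)],
  [(4, 1)],
  [(5, 1), (0, 4)],
  [(6, 1)],
  [(0, 2), (0, 2), (5, 1), (0, 4)],
  [(8, 1)],
  [(9, 1), (0, 1)],
  [(10, 1)],
  [(11, 1)],
  [(12, 1), (0, 1)],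
  [(13, 1)]]

/-- Sparse rows. -/
def rootG : List (List (ℕ × ℕ)) := [
  [(0, 1)],
  [(1, 1), (5, 1)],
  [(2, 1)],
  [(2, 4), (0, 1)],
  [(4, 1)],
  [(5, 1)],
  [(5, 4), (0, 1)],
  [(7, 1)],
  [(0, 3), (0, 3), (5, 4), (0, 1)],
  [(9, 1)],
  [(9, 1), (0, 1)],
  [(11, 1)],
  [(12, 1)],
  [(12, 1), (0, 1)]]

/-- Sparse rows. -/
def rootH : List (List (ℕ × ℕ)) := [
  [(0, 1), (5, 1)],
  [(1, 1)],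
  [(2, 1)],
  [(3, 1)],
  [(3, 4), (0, 1)],
  [(3, 4), (0, 2), (0, 1)],
  [(6, 1)],
  [(3, 4), (0, 3), (0, 3), (1, 1)],
  [(8, 1)],
  [(0, 3), (0, 1), (4, 4), (2, 1)],
  [(8, 4), (1, 1)],
  [(8, 1), (1, 3), (0, 1)],
  [(8, 1), (1, 2), (0, 3), (0, 1)],
  [(13, 1)]]

/-- Sparse rows. -/
def rootI : List (List (ℕ × ℕ)) := [
  [(0, 1), (4, 1)],
  [(1, 1), (3, 3)],
  [(2, 1)],
  [(3, 1)],
  [(2, 4), (1, 1)],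
  [(5, 1)],
  [(2, 1), (1, 3), (1, 1)],
  [(7, 1)],
  [(2, 1), (1, 2), (1, 3), (1, 1)],
  [(7, 4), (1, 1)],
  [(0, 1), (0, 4), (3, 4), (4, 1)],
  [(7, 4), (1, 2), (1, 1)],
  [(12, 1)],
  [(7, 4), (1, 3), (1, 3), (1, 1)]]

/-- Sparse rows. -/
def rootJ : List (List (ℕ × ℕ)) := [
  [(0, 1), (3, 2)],
  [(1, 1), (2, 3)],
  [(2, 1)],
  [(3, 1)],
  [(4, 1)],
  [(2, 1), (2, 1)],
  [(3, 1), (2, 1)],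
  [(7, 1)],
  [(8, 1)],
  [(2, 4), (2, 3), (3, 1)],
  [(3, 1), (2, 2), (3, 1)],
  [(0, 4), (3, 4), (6, 1)],
  [(2, 1), (2, 3), (3, 2), (2, 1)],
  [(3, 4), (2, 2), (3, 2), (2, 1)]]

/-- Sparse rows. -/
def rootK : List (List (ℕ × ℕ)) := [
  [(0, 1), (2, 1)],
  [(1, 1), (1, 1)],
  [(2, 1)],
  [(3, 1)],
  [(4, 1)],
  [(5, 1)],
  [(6, 1)],
  [(2, 1), (4, 1)],
  [(8, 1)],
  [(4, 1), (4, 1)],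
  [(10, 1)],
  [(6, 4), (4, 1)],
  [(0, 2), (0, 1), (1, 4), (8, 1)],
  [(8, 4), (4, 1)]]

/-- Sparse rows. -/
def rootL : List (List (ℕ × ℕ)) := [
  [(0, 1), (1, 1)],
  [(1, 1), (0, 2)],
  [(2, 1)],
  [(3, 1)],
  [(4, 1)],
  [(5, 1)],
  [(6, 1)],
  [(7, 1)],
  [(3, 1), (4, 1)],
  [(9, 1)],
  [(4, 1), (5, 1)],
  [(5, 4), (5, 1)],
  [(7, 4), (4, 1)],
  [(1, 4), (0, 4), (10, 1)]]

/-- The four generators as words in root elements. -/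
def genRootW : List (List ℕ) := [
  [6, 6, 5, 5, 6, 6, 6, 6, 6, 6, 5, 6, 6, 6, 6, 6, 6, 5, 5, 6, 6, 6, 6, 6, 6, 5, 6, 6, 6, 6, 7, 4, 6, 6, 5, 5, 6, 6, 6, 6, 6, 6, 5, 6, 6, 6, 6],
  [7],
  [9, 8, 9, 10, 10],
  [0, 11, 11, 11, 11, 0]]

/-- The root elements as words in the generators. -/
def rootGenW : List (List ℕ) := [
  [8, 7, 5, 7, 0, 2, 5, 2, 0, 3, 8, 7, 5, 7, 0, 2, 5, 2, 0, 3],
  [8, 5, 2, 0, 3, 8, 5, 2, 0, 3, 8, 5, 2, 0, 3, 8, 1, 2, 6, 3, 8, 1, 2, 6, 3, 8, 1, 2, 6, 3, 8, 1, 2, 6, 3],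
  [8, 1, 2, 6, 3, 8, 1, 2, 6, 3, 8, 1, 2, 6, 3, 8, 1, 2, 6, 3],
  [8, 2, 3, 8, 1, 2, 6, 3, 8, 1, 2, 6, 3, 8, 6, 2, 1, 3, 8, 1, 2, 6, 3],
  [0, 1, 0, 1, 1, 0, 1, 0, 1],
  [8, 2, 3, 8, 2, 3, 8, 6, 2, 1, 3, 8, 6, 2, 1, 3, 8, 6, 2, 1, 3, 8, 1, 2, 6, 3, 8, 1, 2, 6, 3, 8, 1, 2, 6, 3, 8, 6, 2, 1, 3, 8, 1, 2, 6, 3],
  [5, 2, 0, 5, 2, 0, 1, 2, 6],
  [1],
  [1, 2, 6],
  [2, 1, 2, 6, 1, 2, 6, 6, 2, 1, 1, 2, 6],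
  [2, 2, 6, 2, 1, 6, 2, 1, 6, 2, 1, 1, 2, 6, 1, 2, 6, 1, 2, 6, 6, 2, 1, 1, 2, 6],
  [7, 5, 7, 0, 2, 5, 2, 0, 7, 5, 7, 0, 2, 5, 2, 0, 7, 5, 7, 0, 2, 5, 2, 0]]

end CfsgLib.LyGTwo
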