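import Cfsg.Agent.Lib.LyGTwo.SparseEq
import Cfsg.Agent.Lib.LyGTwo.Words
import Mathlib.LinearAlgebra.Matrix.GeneralLinearGroup.Defs

/-!
# Invertible matrices from ten sparse letters
-/

set_option autoImplicit false

namespace CfsgLib.LyGTwo

open Matrix

variable {n : ℕ}

/-- The ten letters are invertible matrices in pairs. -/
structure Pairs (n : ℕ) (G : List (List (List (ℕ × ℕ)))) : Prop where
  len : G.length = 10
  ok : G.all (SF.okGen n) = true
  idEq : SF.idP n = (SF.idL n).map SF.pk
  inv : ∀ g, g < 10 → SF.wordMat n G [iv10 g, g] = 1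

theorem pairs_of_chk {G : List (List (List (ℕ × ℕ)))} (hl : G.length = 10) (hok : G.all (SF.okGen n) = true)
    (hid : SF.idP n = (SF.idL n).map SF.pk)
    (h : ((List.range 10).all fun g => SF.sameW n G G [iv10 g, g] []) = true) : Pairs n G :=
  ⟨hl, hok, hid, fun g hg => SF.sameW_sound hok hok hid (List.all_eq_true.1 h g (List.mem_range.2 hg))⟩

variable {G : List (List (List (ℕ × ℕ)))}

theorem wordMat_pair (G : List (List (List (ℕ × ℕ)))) (g h : ℕ) :
    SF.wordMat n G [g, h] = SF.genMat n (G.getD g []) * SF.genMat n (G.getD h []) := by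
  simp [SF.wordMat]

/-- The five units. -/
noncomputable def Pairs.unit (P : Pairs n G) (g : ℕ) : GL (Fin n) (ZMod 5) :=
  if h : g < 5 then
    ⟨SF.genMat n (G.getD g []), SF.genMat n (G.getD (g + 5) []),
      by
        have := P.inv (g + 5) (by omega)
        rwa [wordMat_pair, show iv10 (g + 5) = g by simp only [iv10]; omega] at this,
      by
        have := P.inv g (by omega)
        rwa [wordMat_pair, show iv10 g = g + 5 by simp only [iv10]; omega] at this⟩
  else 1

theorem Pairs.letV_val (P : Pairs n G) {g : ℕ} (hg : g < 10) :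
    ((letV P.unit g : GL (Fin n) (ZMod 5)) : Matrix (Fin n) (Fin n) (ZMod 5)) = SF.genMat n (G.getD g []) := by
  rcases lt_or_ge g 5 with h | h
  · rw [letV, if_pos (by omega), Nat.mod_eq_of_lt hg, Pairs.unit, dif_pos h]
  · rw [letV, if_neg (by omega), Nat.mod_eq_of_lt hg, Pairs.unit, dif_pos (show g - 5 < 5 by omega)]
    show SF.genMat n (G.getD (g - 5 + 5) []) = _
    rw [Nat.sub_add_cancel h]

theorem Pairs.word_val (P : Pairs n G) : ∀ {w : List ℕ}, (∀ g ∈ w, g < 10) →
    ((prodV P.unit w : GL (Fin n) (ZMod 5)) : Matrix (Fin n) (Fin n) (ZMod 5)) = SF.wordMat n G w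
  | [], _ => by simp [SF.wordMat]
  | g :: w, hw => by
    rw [prodV_cons, Units.val_mul, P.letV_val (hw g (List.mem_cons_self ..)),
      P.word_val fun x hx => hw x (List.mem_cons_of_mem _ hx)]
    simp [SF.wordMat]

/-- A word whose check succeeds has value one. -/
theorem Pairs.word_one (P : Pairs n G) {w : List ℕ} (hw : (w.all fun g => Nat.blt g 10) = true)
    (h : SF.beqL (SF.evalP n G w) (SF.idP n) = true) : prodV P.unit w = 1 := by
  simp only [List.all_eq_true, Nat.blt_eq] at hw
  refine Units.ext ?_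
  rw [P.word_val hw, Units.val_one]
  refine SF.prod_eq_one P.idEq (fun g hg => ?_) h
  have := hw g hg
  rw [List.getD_eq_getElem _ _ (by rw [P.len]; exact this)]
  exact List.all_eq_true.1 P.ok _ (List.getElem_mem _)

end CfsgLib.LyGTwo
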