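import Cfsg.Agent.Lib.LyGTwo.GData
import Cfsg.Agent.Lib.LyGTwo.Letters
import Cfsg.Agent.Lib.LyGTwo.Bound
import Cfsg.Agent.Lib.Chev.All
import Cfsg.Agent.Lib.Chev.Perfect
import Cfsg.Agent.Lib.Chev.Orders
import Cfsg.Prelude.Def_ChevG2

/-!
# Four generators of G₂(5) satisfying the relations 1 to 44
-/

set_option autoImplicit false
set_option maxRecDepth 100000

namespace CfsgLib.LyGTwo

open Cfsg.Lie Matrix CfsgLib.Chev

local instance : Fact (Nat.Prime 5) := ⟨by norm_num⟩

/-- The letters in degree fourteen. -/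
def gTwoAll : List (List (List (ℕ × ℕ))) :=
  [gTwoA, gTwoB, gTwoC, gTwoD, gTwoE, gTwoF, gTwoG, gTwoH, gTwoI, gTwoJ]

/-- The root elements at one. -/
def rootAll : List (List (List (ℕ × ℕ))) :=
  [rootA, rootB, rootC, rootD, rootE, rootF, rootG, rootH, rootI, rootJ, rootK, rootL]

theorem gTwoPairs : Pairs 14 gTwoAll :=
  pairs_of_chk (by rfl) (by decide +kernel) (SF.eq_of_beqL (by decide +kernel)) (by decide +kernel)

theorem gTwo_rels : ((relW.take 44).all fun w =>
    (w.all fun g => Nat.blt g 10) && SF.beqL (SF.evalP 14 gTwoAll w) (SF.idP 14)) = true := by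
  decide +kernel

theorem gTwo_words : rootAll.all (SF.okGen 14) = true ∧
    ((List.range 4).all fun g => SF.sameW 14 gTwoAll rootAll [g] (genRootW.getD g [])) = true ∧
    ((List.range 12).all fun r => SF.sameW 14 gTwoAll rootAll (rootGenW.getD r []) [r]) = true ∧
    SF.sameW 14 gTwoAll gTwoAll [4] [] = true := by
  refine ⟨?_, ?_, ?_, ?_⟩ <;> decide +kernel

/-- The coordinates of the adjoint module in a row. -/
def idxE : chevG2.Idx ≃ Fin 14 := finSumFinEquiv

theorem root_eq : ∀ (r : Fin 12) (i j : Fin 14), SF.genMat 14 (rootAll.getD r.val []) i j =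
    (chevG2.xMat (ZMod 5) r 1 (idxE.symm i) (idxE.symm j) : ZMod 5) := by
  intro r i j
  revert r i j
  exact fun r i j => (decide_eq_true_iff (p := (_ : ZMod 5) = _)).1 (List.all_eq_true.1 (show ((List.finRange 12).all fun r : Fin 12 => (List.finRange 14).all fun i => (List.finRange 14).all fun j => decide ((SF.genMat 14 (rootAll.getD r.val []) i j : ZMod 5) = (chevG2.xMat (ZMod 5) r 1 (idxE.symm i) (idxE.symm j) : ZMod 5))) = true by decide +kernel) r (List.mem_finRange r) |> fun h => List.all_eq_true.1 (List.all_eq_true.1 h i (List.mem_finRange i)) j (List.mem_finRange j))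

/-- Passing to coordinates in a row. -/
noncomputable def toRow : GL chevG2.Idx (ZMod 5) →* GL (Fin 14) (ZMod 5) :=
  Units.map (Matrix.reindexAlgEquiv (ZMod 5) (ZMod 5) idxE).toRingEquiv.toRingHom.toMonoidHom

theorem toRow_injective : Function.Injective toRow :=
  Units.map_injective (Matrix.reindexAlgEquiv (ZMod 5) (ZMod 5) idxE).injective

theorem toRow_apply (x : GL chevG2.Idx (ZMod 5)) (i j : Fin 14) :
    (toRow x : Matrix (Fin 14) (Fin 14) (ZMod 5)) i j =
      (x : Matrix chevG2.Idx chevG2.Idx (ZMod 5)) (idxE.symm i) (idxE.symm j) := rfl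

theorem gTwo_facts : ∃ co, Facts chevG2 co := (good_G2.{0}).facts

theorem xOne_val {r : ℕ} (hr : r < 12) :
    (toRow (xU chevG2 r (1 : ZMod 5)) : Matrix (Fin 14) (Fin 14) (ZMod 5)) =
      SF.genMat 14 (rootAll.getD r []) := by
  obtain ⟨co, hF⟩ := gTwo_facts
  ext i j
  rw [toRow_apply, hF.xU_val (show r < chevG2.nroots from hr), root_eq ⟨r, hr⟩ i j,
    Cfsg.Lie.ChevalleyDatum.x, dif_pos (show r < chevG2.nroots from hr)]
  rfl

theorem xWord_val : ∀ {w : List ℕ}, (∀ r ∈ w, r < 12) →
    (toRow ((w.map fun r => xU chevG2 r (1 : ZMod 5)).prod) : Matrix (Fin 14) (Fin 14) (ZMod 5)) =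
      SF.wordMat 14 rootAll w
  | [], _ => by simp [SF.wordMat]
  | r :: w, hw => by
    rw [List.map_cons, List.prod_cons, map_mul, Units.val_mul, xOne_val (hw r (List.mem_cons_self ..)),
      xWord_val fun x hx => hw x (List.mem_cons_of_mem _ hx)]
    simp [SF.wordMat]

theorem xWord_mem : ∀ {w : List ℕ}, (∀ r ∈ w, r < 12) →
    (w.map fun r => xU chevG2 r (1 : ZMod 5)).prod ∈ chevG2.group (ZMod 5)
  | [], _ => by simp
  | r :: w, hw => by
    obtain ⟨co, hF⟩ := gTwo_facts
    rw [List.map_cons, List.prod_cons]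
    exact mul_mem (hF.xU_mem_group (show r < chevG2.nroots from hw r (List.mem_cons_self ..)) _)
      (xWord_mem fun x hx => hw x (List.mem_cons_of_mem _ hx))

theorem genRootW_lt {g : ℕ} : ∀ r ∈ genRootW.getD g [], r < 12 := by
  intro r hr
  have h : genRootW.all (fun w => w.all fun r => Nat.blt r 12) = true := by decide +kernel
  rw [List.getD_eq_getElem?_getD] at hr
  cases e : genRootW[g]? with
  | none => simp [e] at hr
  | some w =>
    rw [e] at hr
    exact Nat.le_of_ble_eq_true (List.all_eq_true.1 (List.all_eq_true.1 h w (List.mem_of_getElem? e)) r hr)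

/-- The four generators, padded by one. -/
noncomputable def gG (g : ℕ) : ↥(chevG2.group (ZMod 5)) :=
  ⟨((genRootW.getD g []).map fun r => xU chevG2 r (1 : ZMod 5)).prod, xWord_mem genRootW_lt⟩

theorem gG_row {g : ℕ} (hg : g < 5) : toRow (gG g : GL chevG2.Idx (ZMod 5)) = gTwoPairs.unit g := by
  obtain ⟨hok, hf, -, hz⟩ := gTwo_words
  have h : SF.sameW 14 gTwoAll rootAll [g] (genRootW.getD g []) = true := by
    rcases lt_or_ge g 4 with h | h
    · exact List.all_eq_true.1 hf g (List.mem_range.2 h)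
    · obtain rfl : g = 4 := by omega
      decide +kernel
  have e := SF.sameW_sound gTwoPairs.ok hok gTwoPairs.idEq h
  refine Units.ext ?_
  rw [gG, xWord_val genRootW_lt, ← e, Pairs.unit, dif_pos hg]
  simp [SF.wordMat]

theorem gG_word : ∀ {w : List ℕ}, (∀ g ∈ w, g < 10) →
    toRow (prodV (fun g => (gG g : GL chevG2.Idx (ZMod 5))) w) = prodV gTwoPairs.unit w
  | [], _ => by simp
  | g :: w, hw => by
    rw [prodV_cons, prodV_cons, map_mul, gG_word fun x hx => hw x (List.mem_cons_of_mem _ hx)]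
    have := hw g (List.mem_cons_self ..)
    congr 1
    simp only [letV]
    split <;> rename_i h
    · exact gG_row h
    · rw [map_inv, gG_row (by omega)]

theorem gG_rels (j : ℕ) : prodV gG (rel44 j) = 1 := by
  rw [rel44, List.getD_eq_getElem?_getD]
  cases e : (relW.take 44)[j]? with
  | none => simp
  | some w =>
    have h := List.all_eq_true.1 gTwo_rels w (List.mem_of_getElem? e)
    simp only [Bool.and_eq_true] at h
    have hw : ∀ g ∈ w, g < 10 := fun g hg => Nat.le_of_ble_eq_true (List.all_eq_true.1 h.1 g hg)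
    refine Subtype.ext (toRow_injective ?_)
    rw [Option.getD_some, ← Subgroup.coe_subtype, map_prodV, map_one, map_one]
    show toRow (prodV (fun g => (gG g : GL chevG2.Idx (ZMod 5))) w) = 1
    rw [gG_word hw, gTwoPairs.word_one h.1 h.2]

theorem gG_top : Subgroup.closure (gG '' {g | g < 4}) = ⊤ := by
  obtain ⟨hok, -, hr, -⟩ := gTwo_words
  set Y := Subgroup.closure (gG '' {g | g < 4})
  have hgen : ∀ r < 12, ∀ h, (⟨xU chevG2 r (1 : ZMod 5), h⟩ : ↥(chevG2.group (ZMod 5))) ∈ Y := by
    intro r hr' h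
    have h1 := List.all_eq_true.1 hr r (List.mem_range.2 hr')
    have hw : ((List.range 12).all fun r => (rootGenW.getD r []).all fun g =>
        Nat.blt (g % 5) 4 && Nat.blt g 10) = true := by decide +kernel
    have hw' := List.all_eq_true.1 hw r (List.mem_range.2 hr')
    simp only [List.all_eq_true, Bool.and_eq_true, Nat.blt_eq] at hw'
    have he : (⟨xU chevG2 r (1 : ZMod 5), h⟩ : ↥(chevG2.group (ZMod 5))) = prodV gG (rootGenW.getD r []) := by
      refine Subtype.ext (toRow_injective (Units.ext ?_))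
      rw [← Subgroup.coe_subtype, map_prodV]
      show _ = ((toRow (prodV (fun g => (gG g : GL chevG2.Idx (ZMod 5))) _) : GL (Fin 14) (ZMod 5)) : Matrix (Fin 14) (Fin 14) (ZMod 5))
      rw [gG_word fun g hg => (hw' g hg).2, gTwoPairs.word_val fun g hg => (hw' g hg).2,
        SF.sameW_sound gTwoPairs.ok hok gTwoPairs.idEq h1]
      simp only [Subgroup.coe_subtype, xOne_val hr']
      simp [SF.wordMat]
    rw [he]
    refine list_prod_mem fun x hx => ?_
    obtain ⟨g, hg, rfl⟩ := List.mem_map.1 hx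
    obtain ⟨h4, h10⟩ := hw' g hg
    simp only [letV]
    split <;> rename_i h5
    · exact Subgroup.subset_closure ⟨_, show g % 10 < 4 by omega, rfl⟩
    · exact inv_mem (Subgroup.subset_closure ⟨_, show g % 10 - 5 < 4 by omega, rfl⟩)
  obtain ⟨co, hF⟩ := gTwo_facts
  have hle : chevG2.group (ZMod 5) ≤ Y.map (chevG2.group (ZMod 5)).subtype := by
    refine (Subgroup.closure_le _).2 ?_
    rintro x ⟨r, t, hx⟩
    have hx' : x = xU chevG2 r.val t := Units.ext (by
      rw [hx, hF.xU_val r.isLt, Cfsg.Lie.ChevalleyDatum.x, dif_pos r.isLt])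
    have hpow : ∀ k : ℕ, xU chevG2 r.val (1 : ZMod 5) ^ k = xU chevG2 r.val (k : ZMod 5) := by
      intro k
      induction k with
      | zero => rw [pow_zero, Nat.cast_zero, hF.xU_zero r.isLt]
      | succ k ih => rw [pow_succ, ih, hF.xU_add r.isLt, Nat.cast_succ]
    obtain ⟨k, rfl⟩ : ∃ k : ℕ, (k : ZMod 5) = t := ⟨t.val, ZMod.natCast_zmod_val t⟩
    rw [hx', ← hpow k]
    exact pow_mem (Subgroup.mem_map_of_mem _ (hgen r.val r.isLt (hF.xU_mem_group r.isLt _))) k
  refine eq_top_iff.2 fun x _ => ?_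
  obtain ⟨y, hy, e⟩ := hle x.2
  obtain rfl : y = x := Subtype.ext e
  exact hy

theorem gTwo_card : Nat.card ↥(chevG2.group (ZMod 5)) = 5859000000 := by
  have h := CfsgLib.Chev.order_G2 (F := ZMod 5)
  rw [one_mul, Nat.card_zmod] at h
  rw [h]; norm_num

theorem gTwo_simple : IsSimpleGroup ↥(chevG2.group (ZMod 5)) :=
  (simple_of_perfect good_G2 linked_G2
    (perfect_of_unitPairing good_G2 unitPairing_G2 ⟨2, by decide, by decide⟩)).1

end CfsgLib.LyGTwo
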