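import Cfsg.Agent.Lib.LyGTwo.Words

/-!
# The generators of the presented Lyons group as words in a, b, c, d, z
-/

set_option autoImplicit false
set_option maxRecDepth 100000

namespace CfsgLib.LyGTwo

open Cfsg.Spor

theorem relW_eq : (Ly.extra.map fun r => fred (r.toWord.flatMap expand)) = relW := by
  decide +kernel

/-- A homomorphism from values satisfying the reduced relators. -/
theorem lift_rels {M : Type*} [Group M] (f : ℕ → M) (h : ∀ w ∈ relW, prodV f w = 1) :
    ∀ r ∈ coxRelators Ly.edges ∪ {r | r ∈ Ly.extra}, FreeGroup.lift (genV f) r = 1 := by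
  rintro r (hr | hr)
  · obtain ⟨x, hx, -⟩ := hr
    simp [coxNodes, Ly.edges] at hx
  · rw [lift_genV]
    exact h _ (relW_eq ▸ List.mem_map_of_mem hr)

/-- The five generators in the presented group. -/
def fLy (g : ℕ) : Cfsg.Spor.Ly :=
  PresentedGroup.of (([Ly.Gen.a, Ly.Gen.b, Ly.Gen.c, Ly.Gen.d, Ly.Gen.z] : List Ly.Gen).getD g Ly.Gen.a)

/-- One step of the elimination. -/
def defStep (done : List Ly.Gen) (i : ℕ) (g : Ly.Gen) : Bool :=
  match Ly.extra[i]? with
  | none => false
  | some r => match r.toWord with
    | [] => false
    | (x, b) :: rest =>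
      decide (x = g) && b && (rest.all fun q => decide (q.1 ∈ done)) &&
        (fred (defW g ++ rest.flatMap expand)).isEmpty

/-- The elimination. -/
def defRun : List Ly.Gen → List (ℕ × Ly.Gen) → Option (List Ly.Gen)
  | done, [] => some done
  | done, (i, g) :: l => if defStep done i g then defRun (g :: done) l else none

/-- The generators known at the start. -/
def baseGens : List Ly.Gen := [.a, .b, .c, .d, .z]

/-- All generators are reached. -/
def defAllOK : Bool :=
  match defRun baseGens defOrder with
  | some done => ([.a, .b, .c, .d, .z, .e, .a1, .a2, .a3, .a4, .c1, .c2, .c3, .c4, .c5, .u, .x23, .x24, .x25,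
      .x29, .x47, .x96, .x129, .x162, .x163, .x164, .x165, .x166, .x167, .x168, .x169, .x364, .x365, .x366,
      .x367, .x368, .x369, .x370, .x371] : List Ly.Gen).all fun g => decide (g ∈ done)
  | none => false

theorem defAll_ok : defAllOK = true := by decide +kernel

theorem extra_one {r : FreeGroup Ly.Gen} (hr : r ∈ Ly.extra) :
    PresentedGroup.mk (coxRelators Ly.edges ∪ {r | r ∈ Ly.extra}) r = 1 :=
  PresentedGroup.one_of_mem (Set.mem_union_right _ hr)

theorem expand_val {q : Ly.Gen × Bool}
    (h : (PresentedGroup.of q.1 : Cfsg.Spor.Ly) = genV fLy q.1) :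
    prodV fLy (expand q) =
      cond q.2 (PresentedGroup.of q.1 : Cfsg.Spor.Ly) (PresentedGroup.of q.1 : Cfsg.Spor.Ly)⁻¹ := by
  rcases q with ⟨g, _ | _⟩
  · simp [expand, h, genV, prodV_invW]
  · simp [expand, h, genV]

theorem mk_word : ∀ l : List (Ly.Gen × Bool),
    (PresentedGroup.mk (coxRelators Ly.edges ∪ {r | r ∈ Ly.extra}) (FreeGroup.mk l) : Cfsg.Spor.Ly) =
      (l.map fun q => cond q.2 (PresentedGroup.of q.1 : Cfsg.Spor.Ly) (PresentedGroup.of q.1)⁻¹).prod := by
  intro l
  have h : (PresentedGroup.mk (coxRelators Ly.edges ∪ {r | r ∈ Ly.extra}) : FreeGroup Ly.Gen →* Cfsg.Spor.Ly) =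
      FreeGroup.lift fun g => (PresentedGroup.of g : Cfsg.Spor.Ly) := by
    ext g
    rw [FreeGroup.lift_apply_of]
    rfl
  rw [h, FreeGroup.lift_mk]

theorem defRun_sound : ∀ {l : List (ℕ × Ly.Gen)} {done out : List Ly.Gen},
    (∀ g ∈ done, (PresentedGroup.of g : Cfsg.Spor.Ly) = genV fLy g) → defRun done l = some out →
      ∀ g ∈ out, (PresentedGroup.of g : Cfsg.Spor.Ly) = genV fLy g
  | [], done, out, h, he => by
    simp only [defRun, Option.some.injEq] at he
    exact he ▸ h
  | (i, g) :: l, done, out, h, he => by
    simp only [defRun] at he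
    split at he
    · rename_i hs
      refine defRun_sound ?_ he
      intro x hx
      rcases List.mem_cons.1 hx with rfl | hx
      · simp only [defStep] at hs
        split at hs
        · simp at hs
        · rename_i r hr
          split at hs
          · simp at hs
          · rename_i y b rest hw
            simp only [Bool.and_eq_true, decide_eq_true_eq, List.all_eq_true, List.isEmpty_iff] at hs
            obtain ⟨⟨⟨rfl, rfl⟩, hd⟩, hz⟩ := hs
            have e1 := extra_one (List.mem_of_getElem? hr)
            rw [← FreeGroup.mk_toWord (x := r), hw, mk_word, List.map_cons, List.prod_cons] at e1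
            have e2 := congrArg (prodV fLy) hz
            rw [prodV_fred, prodV_append, prodV_nil] at e2
            have e3 : prodV fLy (rest.flatMap expand) =
                (rest.map fun q => cond q.2 (PresentedGroup.of q.1 : Cfsg.Spor.Ly)
                  (PresentedGroup.of q.1)⁻¹).prod := by
              clear hw e1 e2 hz
              induction rest with
              | nil => simp
              | cons q rest ih =>
                rw [List.flatMap_cons, prodV_append, expand_val (h _ (hd q (List.mem_cons_self ..))),
                  ih fun p hp => hd p (List.mem_cons_of_mem _ hp), List.map_cons, List.prod_cons]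
            rw [e3] at e2
            simp only [cond_true] at e1
            exact mul_right_cancel (e1.trans e2.symm)
      · exact h x hx
    · simp at he

theorem of_eq_genV (g : Ly.Gen) : (PresentedGroup.of g : Cfsg.Spor.Ly) = genV fLy g := by
  have h := defAll_ok
  simp only [defAllOK] at h
  split at h
  · rename_i done hdone
    refine defRun_sound ?_ hdone g ?_
    · intro x hx
      simp only [baseGens, List.mem_cons, List.not_mem_nil, or_false] at hx
      rcases hx with rfl | rfl | rfl | rfl | rfl <;> simp [genV, defW, prodV, letV, fLy]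
    · have := List.all_eq_true.1 h g (by cases g <;> simp)
      simpa using this
  · simp at h

theorem relW_one {w : List ℕ} (hw : w ∈ relW) : prodV fLy w = 1 := by
  rw [← relW_eq, List.mem_map] at hw
  obtain ⟨r, hr, rfl⟩ := hw
  rw [← lift_genV]
  have h : FreeGroup.lift (genV fLy) = PresentedGroup.mk (coxRelators Ly.edges ∪ {r | r ∈ Ly.extra}) := by
    ext g
    rw [FreeGroup.lift_apply_of]
    exact (of_eq_genV g).symm
  rw [h]
  exact extra_one hr

end CfsgLib.LyGTwo
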