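import Cfsg.Agent.Lib.LyGTwo.RepCore

/-! Relators of the presented Lyons group in degree 111. -/

set_option autoImplicit false
set_option maxRecDepth 200000
set_option Elab.async false

namespace CfsgLib.LyGTwo

theorem repChk14 : repChk 14 2 = true := by
  decide +kernel

theorem repChk25 : repChk 25 3 = true := by
  decide +kernel

theorem repChk33 : repChk 33 1 = true := by
  decide +kernel

theorem repChk38 : repChk 38 1 = true := by
  decide +kernel

theorem repChk76 : repChk 76 3 = true := by
  decide +kernel

theorem repChk85 : repChk 85 1 = true := by
  decide +kernel

end CfsgLib.LyGTwo
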