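import Cfsg.Agent.Lib.LyGTwo.RepCore

/-! Relators of the presented Lyons group in degree 111. -/

set_option autoImplicit false
set_option maxRecDepth 200000
set_option Elab.async false

namespace CfsgLib.LyGTwo

theorem repChk0 : repChk 0 11 = true := by
  decide +kernel

theorem repChk18 : repChk 18 2 = true := by
  decide +kernel

theorem repChk30 : repChk 30 1 = true := by
  decide +kernel

theorem repChk35 : repChk 35 1 = true := by
  decide +kernel

theorem repChk42 : repChk 42 1 = true := by
  decide +kernel

theorem repChk82 : repChk 82 1 = true := by
  decide +kernel

end CfsgLib.LyGTwo
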