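import Cfsg.Agent.Lib.LyGTwo.RepCore

/-! Relators of the presented Lyons group in degree 111. -/

set_option autoImplicit false
set_option maxRecDepth 200000
set_option Elab.async false

namespace CfsgLib.LyGTwo

theorem repChk12 : repChk 12 2 = true := by
  decide +kernel

theorem repChk23 : repChk 23 2 = true := by
  decide +kernel

theorem repChk32 : repChk 32 1 = true := by
  decide +kernel

theorem repChk37 : repChk 37 1 = true := by
  decide +kernel

theorem repChk73 : repChk 73 3 = true := by
  decide +kernel

theorem repChk84 : repChk 84 1 = true := by
  decide +kernel

end CfsgLib.LyGTwo
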