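import Cfsg.Agent.Lib.LyGTwo.RepCore

/-! Relators of the presented Lyons group in degree 111. -/

set_option autoImplicit false
set_option maxRecDepth 200000
set_option Elab.async false

namespace CfsgLib.LyGTwo

theorem repChk11 : repChk 11 1 = true := by
  decide +kernel

theorem repChk20 : repChk 20 3 = true := by
  decide +kernel

theorem repChk31 : repChk 31 1 = true := by
  decide +kernel

theorem repChk36 : repChk 36 1 = true := by
  decide +kernel

theorem repChk43 : repChk 43 30 = true := by
  decide +kernel

theorem repChk83 : repChk 83 1 = true := by
  decide +kernel

end CfsgLib.LyGTwo
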