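import Cfsg.Agent.Lib.LyGTwo.Letters
import Cfsg.Agent.Lib.LyGTwo.LySide
import Cfsg.Agent.Lib.LyGTwo.RepCheckOne
import Cfsg.Agent.Lib.LyGTwo.RepCheckTwo
import Cfsg.Agent.Lib.LyGTwo.RepCheckThree
import Cfsg.Agent.Lib.LyGTwo.RepCheckFour
import Cfsg.Agent.Lib.LyGTwo.RepCheckFive

/-!
# A representation of the presented Lyons group in degree 111 over five elements
-/

set_option autoImplicit false
set_option maxRecDepth 100000

namespace CfsgLib.LyGTwo

open Cfsg.Spor Matrix

theorem repPairs_ok : repAll.all (SF.okGen 111) = true ∧ SF.beqL (SF.idP 111) ((SF.idL 111).map SF.pk) = true ∧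
    ((List.range 10).all fun g => SF.sameW 111 repAll repAll [iv10 g, g] []) = true := by
  refine ⟨?_, ?_, ?_⟩ <;> decide +kernel

theorem repPairs : Pairs 111 repAll :=
  pairs_of_chk (by rfl) repPairs_ok.1 (SF.eq_of_beqL repPairs_ok.2.1) repPairs_ok.2.2

/-- The checked spans. -/
def repSpans : List (ℕ × ℕ) := [(0, 11), (11, 1), (12, 2), (14, 2), (16, 2), (18, 2), (20, 3), (23, 2), (25, 3), (29, 1), (30, 1), (31, 1), (32, 1), (33, 1), (34, 1), (35, 1), (36, 1), (37, 1), (38, 1), (39, 3), (42, 1), (43, 30), (73, 3), (76, 3), (79, 3), (82, 1), (83, 1), (84, 1), (85, 1)]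

theorem repSpans_all : ∀ s ∈ repSpans, repChk s.1 s.2 = true := by
  simp only [repSpans, List.forall_mem_cons]
  exact ⟨repChk0, repChk11, repChk12, repChk14, repChk16, repChk18, repChk20, repChk23, repChk25, repChk29, repChk30, repChk31, repChk32, repChk33, repChk34, repChk35, repChk36, repChk37, repChk38, repChk39, repChk42, repChk43, repChk73, repChk76, repChk79, repChk82, repChk83, repChk84, repChk85, List.forall_mem_nil _⟩

theorem repSpans_cover : ((List.range 86).all fun i =>
    decide (relW.getD i [] = []) || repSpans.any fun s => decide (s.1 ≤ i ∧ i < s.1 + s.2)) = true ∧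
    relW.length = 86 := by
  constructor <;> decide +kernel

theorem rep_rels {w : List ℕ} (hw : w ∈ relW) : prodV repPairs.unit w = 1 := by
  obtain ⟨i, hi, rfl⟩ := List.getElem_of_mem hw
  obtain ⟨hc, hl⟩ := repSpans_cover
  have h := List.all_eq_true.1 hc i (List.mem_range.2 (hl ▸ hi))
  rw [List.getD_eq_getElem _ _ hi, Bool.or_eq_true, decide_eq_true_eq] at h
  rcases h with h | h
  · rw [h, prodV_nil]
  · obtain ⟨⟨a, k⟩, hs, hb⟩ := List.any_eq_true.1 h
    simp only [decide_eq_true_eq] at hb
    have hm : relW[i] ∈ (relW.drop a).take k := by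
      rw [List.mem_iff_getElem]
      refine ⟨i - a, by simp [List.length_take, List.length_drop]; omega, ?_⟩
      simp [List.getElem_take, List.getElem_drop, Nat.add_sub_cancel' hb.1]
    have h2 := List.all_eq_true.1 (repSpans_all _ hs) _ hm
    simp only [Bool.and_eq_true] at h2
    exact repPairs.word_one h2.1 h2.2

/-- The representation. -/
noncomputable def repHom : Cfsg.Spor.Ly →* GL (Fin 111) (ZMod 5) :=
  PresentedGroup.toGroup (lift_rels repPairs.unit fun _ hw => rep_rels hw)

theorem repA_entry : SF.genMat 111 repA 0 1 ≠ 0 := by decide +kernel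

theorem fLy_ne_one : fLy 0 ≠ 1 := by
  intro h
  have h1 := congrArg repHom h
  rw [map_one] at h1
  change repHom (PresentedGroup.of Ly.Gen.a) = 1 at h1
  rw [repHom, PresentedGroup.toGroup.of] at h1
  have h2 : prodV repPairs.unit [0] = 1 := h1
  have h3 := congrArg (fun x : GL (Fin 111) (ZMod 5) => (x : Matrix (Fin 111) (Fin 111) (ZMod 5))) h2
  simp only [Units.val_one] at h3
  rw [repPairs.word_val (by simp)] at h3
  have h4 : SF.genMat 111 repA = 1 := by simpa [SF.wordMat, repAll] using h3
  exact repA_entry (by rw [h4]; exact Matrix.one_apply_ne (by decide))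

end CfsgLib.LyGTwo
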