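import Cfsg.Agent.Lib.LyGTwo.GSide
import Cfsg.Agent.Lib.LyGTwo.Rep

/-!
# The subgroup generated by a, b, c, d of the presented Lyons group is G₂(5)
-/

set_option autoImplicit false
set_option maxRecDepth 100000

namespace CfsgLib.LyGTwo

open Cfsg.Spor Cfsg.Lie

local instance : Fact (Nat.Prime 5) := ⟨by norm_num⟩

/-- The pairs. -/
noncomputable def pairF (g : ℕ) : ↥(chevG2.group (ZMod 5)) × Cfsg.Spor.Ly := (gG g, fLy g)

theorem fLy_rel44 (j : ℕ) : prodV fLy (rel44 j) = 1 := by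
  rw [rel44, List.getD_eq_getElem?_getD]
  cases e : (relW.take 44)[j]? with
  | none => simp
  | some w => exact relW_one (List.mem_of_mem_take (List.mem_of_getElem? e))

theorem pairF_rels (j : ℕ) : prodV pairF (rel44 j) = 1 := by
  refine Prod.ext ?_ ?_
  · rw [show (prodV pairF (rel44 j)).1 = MonoidHom.fst _ _ (prodV pairF (rel44 j)) from rfl, map_prodV]
    exact gG_rels j
  · rw [show (prodV pairF (rel44 j)).2 = MonoidHom.snd _ _ (prodV pairF (rel44 j)) from rfl, map_prodV]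
    exact fLy_rel44 j

theorem abcd_image : ((Subgroup.closure ({Ly.a, Ly.b, Ly.c, Ly.d} : Set (FreeGroup Ly.Gen))).map
      (PresentedGroup.mk (coxRelators Ly.edges ∪ {r | r ∈ Ly.extra}))) =
    Subgroup.closure (fLy '' {g | g < 4}) := by
  rw [MonoidHom.map_closure]
  congr 1
  ext x
  constructor
  · rintro ⟨y, hy, rfl⟩
    simp only [Set.mem_insert_iff, Set.mem_singleton_iff] at hy
    rcases hy with rfl | rfl | rfl | rfl
    exacts [⟨0, by decide, rfl⟩, ⟨1, by decide, rfl⟩, ⟨2, by decide, rfl⟩, ⟨3, by decide, rfl⟩]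
  · rintro ⟨g, hg, rfl⟩
    have hg' : g < 4 := hg
    rcases g with _ | _ | _ | _ | g
    exacts [⟨Ly.a, by simp, rfl⟩, ⟨Ly.b, by simp, rfl⟩, ⟨Ly.c, by simp, rfl⟩, ⟨Ly.d, by simp, rfl⟩, absurd hg' (by omega)]

theorem abcd_iso :
    Nonempty (↥((Subgroup.closure ({Ly.a, Ly.b, Ly.c, Ly.d} : Set (FreeGroup Ly.Gen))).map
      (PresentedGroup.mk (coxRelators Ly.edges ∪ {r | r ∈ Ly.extra}))) ≃* ↥(chevG2.group (ZMod 5))) := by
  obtain ⟨hfin, hcard⟩ := card_le pairF pairF_rels
  set Y := Subgroup.closure (pairF '' {g | g < 4})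
  let p : ↥Y →* ↥(chevG2.group (ZMod 5)) := (MonoidHom.fst _ _).comp Y.subtype
  have hp : Function.Surjective p := by
    intro x
    have hx : x ∈ Y.map (MonoidHom.fst _ _) := by
      rw [MonoidHom.map_closure, Set.image_image]
      exact gG_top.symm ▸ Subgroup.mem_top x
    obtain ⟨y, hy, e⟩ := hx
    exact ⟨⟨y, hy⟩, e⟩
  have hb : Function.Bijective p := by
    have h := Nat.card_le_card_of_surjective p hp
    exact (Nat.bijective_iff_surjective_and_card p).2
      ⟨hp, le_antisymm (hcard.trans_eq gTwo_card.symm) h⟩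
  let e : ↥Y ≃* ↥(chevG2.group (ZMod 5)) := MulEquiv.ofBijective p hb
  let q : ↥(chevG2.group (ZMod 5)) →* Cfsg.Spor.Ly :=
    ((MonoidHom.snd _ _).comp Y.subtype).comp e.symm.toMonoidHom
  have hq : q.range = Subgroup.closure (fLy '' {g | g < 4}) := by
    have h1 : q.range = Y.map (MonoidHom.snd _ _) := by
      ext x
      constructor
      · rintro ⟨t, rfl⟩
        exact ⟨_, (e.symm t).2, rfl⟩
      · rintro ⟨y, hy, rfl⟩
        exact ⟨e ⟨y, hy⟩, by simp [q]⟩
    rw [h1, MonoidHom.map_closure, Set.image_image]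
    rfl
  have := gTwo_simple
  have hker : q.ker = ⊥ := by
    rcases IsSimpleGroup.eq_bot_or_eq_top_of_normal q.ker (MonoidHom.normal_ker q) with h | h
    · exact h
    · exfalso
      have hm : fLy 0 ∈ q.range := hq ▸ Subgroup.subset_closure ⟨0, by decide, rfl⟩
      obtain ⟨t, ht⟩ := hm
      have ht1 : t ∈ q.ker := h ▸ Subgroup.mem_top t
      exact fLy_ne_one (ht.symm.trans ht1)
  rw [abcd_image, ← hq]
  exact ⟨(MonoidHom.ofInjective ((MonoidHom.ker_eq_bot_iff q).1 hker)).symm⟩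

end CfsgLib.LyGTwo
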