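import Mathlib.Init
import Mathlib.Data.Nat.Notation

/-! Sparse matrices over five elements (generated by tools_ly/genm.py). -/

set_option autoImplicit false
set_option maxRecDepth 100000

namespace CfsgLib.LyGTwo

/-- Sparse rows. -/
def repG : List (List (ℕ × ℕ)) := [
  [(0, 1), (0, 1), (2, 1), (0, 4), (0, 4), (0, 3), (2, 3), (2, 2), (0, 1), (1, 3), (0, 2), (0, 4), (0, 4), (0, 3), (0, 1), (0, 3), (0, 4), (0, 3), (3, 3), (0, 3), (0, 4), (2, 2), (0, 1), (0, 1), (0, 2), (0, 4), (0, 2), (0, 3), (1, 2), (0, 3), (0, 3), (0, 1), (0, 3), (2, 3), (0, 1), (0, 1), (0, 4), (0, 4), (0, 1), (0, 1), (0, 2), (0, 4), (0, 4), (2, 2), (1, 2), (0, 1), (0, 4), (4, 1), (0, 2), (1, 2), (0, 1), (0, 2), (2, 1), (0, 1), (3, 2), (0, 1), (0, 3), (0, 1), (1, 3), (0, 3), (0, 4), (1, 1), (1, 1), (0, 1), (0, 3), (0, 3),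 (0, 3), (0, 2), (0, 3), (0, 4), (0, 1), (0, 1), (0, 3), (1, 3), (2, 3), (0, 2)],
  [(1, 1), (3, 3), (0, 2), (0, 4), (0, 4), (1, 4), (1, 4), (0, 2), (0, 1), (0, 4), (1, 1), (0, 1), (0, 2), (0, 2), (0, 3), (0, 3), (0, 4), (1, 4), (0, 1), (0, 4), (0, 3), (0, 2), (0, 3), (0, 3), (0, 2), (1, 4), (0, 2), (0, 1), (0, 4), (0, 2), (0, 3), (0, 4), (0, 1), (2, 3), (0, 3), (0, 1), (0, 1), (1, 4), (1, 3), (0, 3), (0, 3), (0, 3), (0, 1), (0, 3), (1, 3), (0, 4), (1, 1), (0, 3), (0, 3), (0, 3), (0, 3), (0, 1), (0, 4), (1, 4), (0, 1), (1, 2), (1, 2), (0, 1), (0, 2), (0, 3), (0, 2), (1, 1), (0, 2), (1, 3), (1, 1), (0, 4), (0, 3), (0, 2), (0, 3), (0, 2), (0, 4), (0, 3), (0, 4), (0, 2), (0, 4), (0, 3), (0, 3), (0, 1), (0, 4), (1, 2), (1, 2), (0, 1), (0, 1), (2, 1)],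
  [(2, 1), (0, 1), (2, 4), (2, 3), (1, 1), (0, 4), (0, 4), (0, 3), (0, 4), (0, 3), (2, 2), (0, 1), (1, 1), (0, 3), (0, 1), (0, 1), (0, 4), (1, 4), (0, 3), (0, 4), (1, 1), (0, 2), (0, 3), (0, 1), (0, 1), (0, 3), (0, 4), (0, 1), (0, 4), (0, 1), (0, 1), (0, 3), (0, 2), (0, 2), (0, 2), (1, 2), (1, 3), (0, 1), (0, 2), (0, 4), (0, 2), (0, 3), (1, 1), (0, 3), (0, 2), (0, 3), (0, 1), (0, 1), (0, 4), (0, 1), (0, 1), (0, 2), (0, 2), (2, 2), (0, 2), (0, 1), (0, 3), (0, 4), (0, 2), (0, 4), (0, 1), (0, 4), (1, 3), (0, 1), (0, 2), (0, 1), (0, 2), (0, 3), (0, 4), (0, 4), (0, 2), (0, 2), (1, 2), (0, 4), (0, 3), (0, 3), (0, 4), (0, 2), (0, 2), (0, 2), (0, 3), (0, 3), (0, 3), (0, 1), (0, 4)],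
  [(3, 1), (5, 4), (1, 4), (1, 3), (0, 4), (0, 2), (0, 4), (1, 4), (0, 3), (0, 4), (0, 4), (0, 4), (1, 2), (1, 4), (1, 3), (0, 2), (0, 3), (0, 1), (0, 1), (0, 3), (0, 4), (0, 4), (0, 3), (0, 4), (0, 2), (0, 4), (0, 2), (0, 4), (0, 1), (1, 3), (0, 3), (1, 1), (0, 1), (0, 4), (0, 3), (0, 4), (0, 3), (1, 3), (0, 3), (0, 2), (0, 1), (1, 1), (0, 4), (0, 3), (0, 4), (0, 1), (0, 4), (0, 3), (0, 1), (0, 1), (0, 4), (1, 4), (0, 4), (0, 4), (2, 3), (0, 4), (0, 1), (0, 4), (1, 3), (0, 4), (1, 4), (0, 2), (0, 1), (0, 4), (0, 3), (0, 3), (0, 4), (0, 1), (1, 1), (0, 4), (2, 3), (0, 3), (0, 1), (0, 1), (0, 1), (1, 4), (0, 3), (3, 3)],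
  [(4, 1), (0, 2), (0, 4)],
  [(5, 1), (0, 1)],
  [(6, 1)],
  [(7, 1), (0, 4), (6, 4), (2, 3), (0, 2), (1, 4), (2, 4), (0, 2), (0, 2), (1, 1), (1, 4), (0, 2), (0, 1), (2, 1), (6, 2), (3, 1), (2, 3), (0, 2), (0, 1), (0, 4), (1, 2), (0, 2), (1, 4), (2, 1), (0, 2), (2, 1), (1, 3), (1, 4), (0, 4), (1, 1), (2, 1), (0, 2), (0, 2), (0, 3), (0, 3), (2, 3), (1, 4), (0, 2), (2, 4), (0, 3), (1, 2), (0, 4), (1, 1), (0, 3), (0, 3), (0, 2), (0, 4), (1, 2), (0, 4), (0, 2), (0, 2), (0, 1), (0, 3), (0, 2), (0, 2), (0, 4), (0, 2), (0, 4), (0, 2)],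
  [(8, 1), (4, 3), (1, 1), (2, 2), (0, 1), (1, 4), (2, 1), (1, 4), (1, 1), (0, 4), (0, 2), (0, 1), (0, 4), (2, 3), (0, 1), (5, 4), (0, 3), (1, 1), (0, 3), (2, 1), (0, 4), (0, 2), (0, 2), (1, 3), (1, 2), (0, 3), (3, 1), (6, 4), (0, 3), (1, 3), (2, 2), (0, 2), (0, 1), (0, 4), (0, 2), (0, 4), (1, 3), (1, 1), (0, 3), (1, 4), (1, 1), (0, 1), (0, 1), (0, 2), (0, 3), (0, 2), (0, 1), (0, 2), (0, 1), (0, 4), (1, 2), (0, 4), (1, 3), (1, 3), (0, 2), (0, 2), (0, 4), (0, 3), (0, 3), (0, 1)],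
  [(9, 1), (1, 4), (2, 1), (4, 4), (6, 4), (1, 4), (0, 3), (1, 4), (0, 3), (0, 3), (1, 4), (1, 1), (0, 1), (5, 1), (0, 1), (0, 3), (4, 2), (0, 1), (2, 4), (0, 3), (2, 4), (0, 1), (1, 1), (2, 3), (0, 2), (0, 3), (1, 4), (1, 3), (0, 2), (1, 1), (1, 3), (0, 2), (0, 1), (0, 1), (1, 3), (1, 1), (0, 3), (1, 1), (0, 4), (0, 4), (0, 4), (1, 1), (0, 4), (0, 4), (0, 1), (0, 4), (0, 1), (0, 4), (1, 4), (0, 2), (0, 4), (1, 2), (0, 3), (0, 4), (0, 3), (0, 4), (0, 3), (0, 2), (0, 1)],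
  [(10, 1), (1, 4), (0, 2), (4, 3), (0, 1), (4, 2), (0, 4), (0, 4), (3, 1), (0, 4), (0, 1), (2, 3), (0, 1), (6, 2), (1, 2), (0, 3), (2, 2), (1, 1), (0, 1), (1, 2), (0, 2), (0, 4), (0, 4), (2, 1), (0, 2), (2, 3), (1, 2), (1, 3), (0, 4), (1, 3), (2, 2), (1, 4), (0, 3), (1, 4), (1, 4), (4, 2), (1, 2), (0, 2), (0, 1), (0, 2), (0, 2), (1, 2), (0, 4), (0, 4), (0, 3), (1, 3), (0, 4), (0, 1), (0, 2), (0, 3), (0, 1), (0, 4), (0, 2), (0, 1), (0, 2)],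
  [(11, 1), (1, 2), (0, 3), (4, 2), (0, 1), (5, 4), (1, 2), (0, 3), (1, 1), (0, 1), (0, 1), (1, 1), (1, 4), (0, 4), (2, 4), (1, 3), (1, 3), (0, 1), (7, 3), (0, 4), (0, 2), (0, 1), (0, 4), (0, 2), (0, 4), (4, 2), (0, 1), (1, 2), (2, 2), (2, 4), (0, 4), (0, 3), (0, 1), (0, 2), (0, 3), (1, 1), (2, 1), (1, 4), (0, 3), (0, 4), (0, 2), (0, 3), (0, 1), (0, 4), (1, 4), (0, 2), (0, 3), (0, 2), (1, 4), (0, 1), (0, 1), (0, 3), (0, 4), (1, 1), (0, 1), (1, 4), (1, 2)],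
  [(12, 1), (0, 1), (4, 1), (0, 4), (1, 1), (2, 4), (1, 3), (1, 4), (1, 1), (1, 3), (2, 2), (0, 1), (6, 3), (2, 2), (2, 4), (1, 1), (2, 3), (0, 4), (0, 3), (0, 4), (0, 3), (1, 1), (0, 2), (2, 2), (3, 1), (0, 2), (1, 2), (2, 4), (0, 4), (0, 3), (0, 3), (0, 3), (0, 2), (1, 1), (2, 2), (1, 1), (1, 1), (0, 2), (1, 2), (0, 3), (0, 1), (0, 1), (0, 4), (0, 1), (0, 4), (1, 4), (1, 3), (1, 1), (0, 4), (0, 1), (0, 2), (0, 4), (0, 1), (0, 1)],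
  [(13, 2), (5, 3), (6, 2), (0, 1), (0, 2), (0, 2), (0, 4), (0, 3), (0, 1), (2, 3), (7, 1), (1, 3), (0, 4), (5, 2), (1, 3), (0, 2), (0, 3), (0, 1), (0, 1), (1, 4), (5, 1), (1, 2), (0, 1), (1, 3), (3, 4), (0, 1), (0, 1), (1, 3), (1, 1), (1, 1), (2, 2), (1, 2), (0, 3), (0, 3), (0, 3), (0, 2), (1, 3), (0, 2), (0, 2), (0, 1), (1, 4), (0, 1), (1, 2), (0, 2), (0, 4), (1, 3), (0, 2), (0, 3), (1, 1)],
  [(13, 2), (0, 3), (4, 4), (0, 3), (5, 2), (2, 2), (0, 4), (1, 4), (0, 1), (0, 1), (3, 1), (2, 4), (1, 3), (0, 1), (1, 2), (0, 2), (3, 3), (0, 3), (1, 4), (0, 1), (0, 2), (1, 1), (0, 3), (0, 4), (1, 2), (2, 2), (0, 3), (0, 3), (0, 3), (0, 2), (1, 1), (2, 2), (0, 3), (0, 3), (1, 1), (0, 1), (3, 2), (0, 3), (1, 4), (0, 1), (0, 2), (0, 4), (1, 4), (0, 2), (0, 3), (0, 1), (0, 3), (0, 2), (0, 4), (1, 1), (0,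 4), (0, 2), (0, 2), (0, 2), (0, 3), (0, 1), (1, 4), (1, 4), (0, 3)],
  [(13, 2), (4, 1), (0, 4), (4, 4), (3, 1), (0, 4), (0, 1), (0, 3), (3, 1), (3, 1), (3, 2), (1, 2), (3, 4), (1, 2), (0, 3), (1, 2), (0, 1), (1, 3), (0, 1), (1, 1), (0, 3), (2, 4), (1, 3), (1, 3), (0, 1), (1, 3), (2, 4), (0, 3), (0, 3), (1, 1), (0, 2), (3, 4), (0, 3), (1, 2), (0, 1), (0, 4), (0, 3), (0, 4), (0, 2), (0, 4), (0, 2), (0, 4), (1, 1), (0, 1), (1, 2), (0, 3), (1, 2), (0, 3), (0, 3), (1, 3), (0, 4), (0, 3), (0, 3), (0, 2)],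
  [(14, 2), (1, 1), (2, 1), (0, 1), (1, 4), (3, 4), (1, 3), (0, 4), (0, 1), (0, 3), (0, 3), (0, 2), (1, 4), (1, 1), (0, 1), (5, 1), (0, 2), (0, 1), (4, 4), (0, 4), (1, 4), (1, 1), (1, 4), (0, 1), (0, 4), (1, 3), (2, 1), (1, 1), (0, 2), (0, 1), (1, 3), (0, 4), (1, 1), (1, 3), (0, 2), (0, 2), (0, 2), (1, 2), (2, 4), (1, 1), (0, 2), (0, 3), (0, 1), (0, 2), (1, 4), (1, 1), (0, 2), (3, 2), (0, 2), (0, 3), (0, 1), (0, 3), (0, 1), (0, 2), (0, 3), (0, 4), (0, 3), (1, 4)],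
  [(13, 3), (3, 1), (0, 1), (0, 1), (1, 1), (1, 3), (0, 1), (0, 2), (2, 2), (1, 1), (0, 3), (0, 3), (2, 4), (0, 3), (6, 2), (2, 2), (2, 4), (2, 4), (1, 1), (0, 4), (0, 3), (0, 2), (0, 4), (1, 3), (0, 1), (2, 1), (1, 3), (2, 3), (1, 2), (2, 1), (1, 1), (0, 1), (0, 1), (0, 1), (1, 4), (1, 3), (0, 3), (2, 1), (0, 2), (0, 2), (0, 1), (0, 1), (0, 4), (0, 2), (0, 4), (0, 4), (1, 4), (2, 4), (0, 4), (0, 3), (0, 1), (1, 4), (0, 1), (0, 2), (0, 1), (0, 1), (0, 2)],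
  [(13, 2), (4, 4), (0, 3), (1, 2), (2, 1), (1, 3), (1, 1), (0, 4), (0, 3), (1, 3), (2, 3), (0, 2), (5, 2), (2, 3), (0, 3), (2, 1), (0, 3), (0, 1), (0, 1), (1, 2), (0, 2), (0, 2), (0, 3), (2, 3), (0, 4), (4, 4), (1, 3), (0, 4), (1, 1), (2, 1), (0, 4), (0, 1), (0, 3), (0, 2), (0, 2), (1, 2), (2, 4), (1, 3), (0, 1), (1, 1), (0, 4), (1, 2), (0, 4), (0, 1), (0, 1), (0, 3), (0, 1), (1, 1), (0, 2), (0, 1), (0, 2), (0, 3), (0, 2), (0, 4), (0, 2), (0, 3), (0, 4), (0, 1)],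
  [(26, 1), (1, 2), (0, 3), (0, 2), (1, 2), (2, 4), (7, 4), (1, 4), (0, 3), (4, 2), (0, 1), (0, 1), (1, 3), (0, 1), (3, 1), (5, 1), (1, 2), (5, 4), (0, 3), (0, 1), (0, 4), (0, 3), (0, 2), (1, 2), (1, 1), (0, 4), (1, 2), (2, 4), (0, 1), (0, 3), (0, 2), (0, 2), (0, 4), (0, 1), (0, 4), (2, 4), (0, 1), (0, 3), (0, 1), (0, 3), (0, 3), (0, 3), (0, 2), (0, 3), (0, 2), (0, 2), (0, 1)],
  [(13, 1), (0, 2), (4, 2), (0, 4), (5, 4), (1, 3), (0, 3), (0, 2), (0, 2), (0, 3), (0, 1), (1, 1), (1, 3), (3, 2), (1, 1), (0, 1), (0, 4), (0, 1), (0, 1), (3, 3), (0, 1), (3, 4), (1, 3), (0, 3), (0, 4), (1, 3), (2, 1), (0, 3), (0, 3), (0, 2), (0, 1), (1, 3), (2, 1), (0, 2), (0, 2), (2, 4), (1, 3), (1, 3), (0, 4), (1, 1), (0, 2), (0, 2), (0, 2), (1, 2), (0, 3), (0, 1), (1, 1), (0, 1), (0, 4), (1, 4), (0, 4), (0, 1), (0,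 1), (0, 2), (0, 4), (0, 2), (0, 2), (0, 2), (0, 4), (0, 1), (0, 3)],
  [(13, 4), (5, 2), (1, 3), (2, 2), (3, 1), (0, 3), (0, 4), (1, 4), (3, 2), (6, 2), (1, 3), (0, 2), (4, 1), (0, 2), (2, 2), (1, 4), (0, 1), (1, 3), (0, 1), (1, 1), (0, 2), (1, 2), (1, 3), (0, 1), (1, 4), (2, 2), (0, 2), (0, 2), (0, 2), (0, 4), (0, 2), (1, 4), (1, 3), (0, 1), (1, 4), (0, 1), (0, 4), (1, 1), (0, 3), (4, 3), (0, 4), (1, 4), (0, 1), (0, 2), (0, 3), (1, 3), (0, 2), (0, 2), (0, 3), (1, 3), (0, 2)],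
  [(13, 4), (0, 4), (4, 2), (0, 1), (1, 1), (3, 4), (1, 2), (0, 3), (0, 4), (0, 2), (1, 4), (1, 2), (1, 2), (0, 2), (2, 1), (1, 2), (0, 4), (1, 1), (4, 4), (0, 3), (1, 1), (1, 1), (0, 3), (0, 4), (0, 2), (2, 3), (2, 3), (0, 4), (1, 3), (2, 1), (3, 4), (0, 3), (0, 3), (0, 3), (4, 1), (0, 2), (1, 3), (0, 2), (0, 3), (0, 3), (1, 3), (0, 4), (0, 3), (0, 2), (0, 3), (0, 1), (0, 3), (2, 3), (0, 3), (0, 4), (0, 3), (0, 1), (1, 2), (0, 4), (0, 2), (0, 1), (0, 2)],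
  [(18, 3), (0, 1), (1, 1), (1, 1), (0, 3), (1, 1), (2, 2), (0, 1), (0, 2), (0, 2), (2, 4), (0, 1), (6, 4), (2, 3), (2, 2), (1, 4), (2, 4), (0, 1), (0, 3), (0, 3), (0, 2), (1, 1), (3, 3), (1, 4), (1, 1), (0, 2), (4, 1), (0, 1), (0, 3), (0, 1), (0, 1), (0, 4), (1, 4), (1, 3), (0, 2), (1, 3), (0, 2), (0, 3), (0, 2), (0, 4), (0, 1), (0, 4), (0, 4), (0, 2), (0, 3), (0, 4), (0, 2), (2, 3), (0, 2), (2, 4), (0, 2), (0, 1), (0, 1), (0, 2), (0, 1), (0, 2)],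
  [(13, 2), (5, 3), (1, 2), (4, 2), (1, 4), (0, 2), (0, 1), (0, 4), (3, 2), (7, 2), (1, 2), (0, 4), (4, 3), (0, 2), (1, 1), (0, 2), (0, 1), (1, 4), (1, 2), (3, 2), (3, 3), (0, 4), (1, 1), (2, 3), (0, 2), (0, 1), (0, 4), (0, 1), (0, 2), (1, 1), (1, 1), (0, 2), (1, 4), (0, 1), (1, 4), (0, 3), (0, 2), (0, 1), (1, 2), (0, 2), (1, 3), (1, 4), (0, 4), (0, 3), (0, 4), (0, 4), (1, 1), (0, 1), (0, 3), (0, 1), (1, 2)],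
  [(13, 3), (4, 2), (5, 1), (0, 1), (0, 4), (2, 2), (0, 4), (0, 4), (3, 3), (0, 1), (8, 4), (0, 1), (2, 3), (1, 3), (0, 3), (1, 3), (0, 4), (0, 3), (0, 3), (0, 1), (1, 4), (0, 1), (2, 4), (1, 4), (1, 3), (0, 4), (1, 4), (2, 1), (0, 1), (0, 1), (2, 1), (3, 4), (0, 3), (1, 3), (0, 1), (2, 2), (0, 1), (0, 4), (0, 3), (0, 1), (0, 2), (0, 4), (2, 1), (0, 2), (2, 4), (0, 3), (0, 4), (0, 3), (0, 3), (0, 1), (0, 2)],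
  [(19, 3), (6, 2), (1, 4), (1, 4), (0, 1), (0, 4), (2, 2), (7, 2), (1, 2), (0, 1), (4, 1), (0, 3), (1, 4), (0, 1), (1, 3), (0, 1), (1, 1), (5, 4), (1, 1), (0, 1), (1, 2), (1, 1), (1, 2), (0, 4), (0, 4), (0, 1), (0, 4), (1, 1), (2, 2), (1, 4), (2, 4), (0, 2), (0, 3), (0, 1), (0, 1), (0, 1), (2, 2), (1, 3), (0, 4), (0, 4), (0, 3), (0, 1), (1, 4), (0, 4), (1, 4), (0, 2), (0, 4)],
  [(13, 4), (5, 4), (6, 4), (1, 4), (0, 2), (0, 3), (0, 4), (3, 4), (9, 1), (0, 1), (4, 4), (0, 2), (1, 3), (1, 4), (0, 3), (0, 3), (1, 1), (5, 3), (4, 1), (2, 4), (1, 3), (1, 2), (1, 1), (0, 2), (1, 4), (0, 1), (1, 4), (0, 1), (0, 1), (0, 2), (2, 3), (0, 1), (0, 3), (0, 1), (0, 4), (0, 4), (1, 1), (0, 2), (0, 3), (1, 1), (2, 2), (1, 1), (0, 1)],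
  [(13, 2), (5, 3), (6, 4), (1, 3), (0, 1), (1, 1), (3, 3), (7, 2), (1, 1), (5, 2), (0, 3), (3, 2), (1, 3), (1, 3), (5, 2), (2, 3), (4, 3), (0, 4), (0, 4), (0, 1), (0, 2), (0, 2), (1, 1), (1, 2), (0, 3), (1, 4), (1, 3), (0, 4), (0, 2), (0, 4), (0, 4), (0, 2), (0, 3), (0, 1), (0, 1), (0, 2), (1, 2), (0, 2), (0, 2), (0, 3), (0, 4), (0, 4), (0, 4), (0, 2), (0, 1), (0, 2), (0, 2), (0, 1)],
  [(13, 1), (12, 2), (1, 2), (0, 2), (0, 2), (0, 4), (0, 2), (2, 2), (7, 3), (2, 1), (4, 1), (0, 1), (1, 4), (1, 3), (0, 2), (0, 3), (1, 3), (5, 3), (4, 1), (2, 4), (0, 3), (0, 2), (0, 3), (1, 2), (1, 3), (0, 1), (0, 2), (0, 1), (1, 1), (0, 3), (0, 3), (0, 1), (0, 3), (0, 4), (0, 3), (3, 4), (0, 2), (1, 3), (0, 2), (0, 3), (0, 4), (0, 1), (0, 1), (0, 1), (0, 3), (0, 4), (0, 1), (0, 2)],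
  [(13, 1), (12, 1), (1, 4), (0, 2), (0, 2), (0, 4), (13, 1), (0, 4), (4, 2), (2, 4), (1, 1), (0, 1), (0, 1), (1, 4), (5, 3), (1, 4), (0, 4), (1, 3), (2, 3), (0, 4), (0, 3), (0, 2), (0, 4), (0, 3), (1, 3), (1, 3), (0, 2), (1, 3), (0, 2), (0, 3), (0, 3), (0, 1), (0, 1), (1, 4), (0, 1), (0, 4), (0, 2), (0, 4), (0, 1), (0, 3), (0, 3), (0, 1), (0, 2), (0, 1), (0, 3), (0, 3), (0, 2), (0, 1), (0, 4), (0, 2), (0, 2)],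
  [(13, 2), (5, 3), (6, 3), (1, 1), (0, 4), (0, 2), (1, 2), (2, 3), (7, 4), (1, 1), (0, 3), (4, 4), (0, 3), (2, 4), (0, 2), (0, 4), (10, 1), (0, 4), (1, 3), (2, 2), (0, 4), (0, 2), (0, 4), (0, 2), (2, 1), (1, 4), (0, 1), (3, 2), (0, 4), (0, 3), (0, 1), (0, 1), (0, 1), (0, 4), (0, 1), (0, 1), (0, 2), (2, 1), (0, 1), (0, 1), (0, 1), (0, 2), (0, 1), (0, 1), (0, 2), (0, 1), (0, 2), (0, 4)],
  [(26, 4), (1, 2), (0, 3), (0, 3), (0, 4), (0, 4), (10, 2), (1, 4), (0, 4), (4, 2), (0, 1), (1, 2), (0, 1), (2, 3), (7, 1), (2, 2), (1, 2), (4, 2), (0, 4), (5, 4), (0, 1), (0, 1), (0, 2), (0, 4), (0, 2), (0, 4), (0, 4), (0, 2), (1, 3), (0, 3), (0, 1), (0, 1), (0, 1), (1, 4), (2, 3), (0, 4), (0, 2), (0, 1), (0, 2), (0, 1), (0, 1), (0, 1), (0, 1)],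
  [(13, 2), (0, 1), (5, 1), (5, 1), (2, 1), (0, 4), (0, 2), (0, 4), (2, 3), (1, 1), (0, 4), (2, 4), (1, 2), (0, 2), (0, 3), (0, 2), (4, 4), (0, 4), (1, 4), (0, 2), (0, 1), (0, 4), (2, 4), (4, 3), (0, 4), (0, 2), (0, 3), (0, 3), (4, 1), (0, 2), (0, 4), (0, 2), (0, 1), (0, 2), (1, 2), (1, 1), (2, 4), (1, 2), (0, 2), (0, 3), (0, 4), (0, 1), (0, 2), (1, 1), (1, 3), (1, 3), (0, 2), (0, 1), (1, 4), (1, 4), (0, 3), (0, 2), (0, 2), (0, 4), (0, 2)],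
  [(13, 1), (5, 1), (6, 3), (1, 1), (0, 2), (0, 2), (1, 4), (2, 3), (7, 4), (1, 2), (0, 2), (5, 1), (1, 4), (0, 4), (0, 2), (0, 4), (0, 2), (1, 1), (4, 3), (0, 4), (0, 2), (0, 2), (0, 1), (1, 1), (3, 1), (0, 2), (0, 3), (1, 1), (1, 4), (1, 2), (0, 4), (1, 1), (0, 2), (0, 3), (1, 4), (0, 1), (0, 3), (1, 3), (0, 1), (0, 3), (0, 1), (2, 1), (0, 3), (0, 2), (0, 2), (0, 1), (0, 2), (0, 2), (0, 3), (1, 3)],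
  [(19, 1), (6, 2), (1, 1), (0, 4), (0, 4), (4, 2), (7, 3), (1, 4), (0, 1), (7, 1), (0, 4), (1, 3), (0, 1), (1, 3), (5, 3), (1, 3), (0, 1), (1, 1), (2, 2), (0, 1), (0, 3), (0, 3), (0, 2), (0, 1), (1, 4), (2, 4), (1, 4), (0, 3), (1, 3), (0, 2), (0, 3), (0, 3), (0, 4), (2, 3), (0, 1), (1, 3), (0, 1), (0, 3), (0, 2), (0, 3), (0, 4), (4, 4), (0, 2)],
  [(13, 1), (4, 3), (5, 2), (1, 1), (1, 3), (0, 3), (0, 3), (0, 3), (3, 4), (0, 4), (6, 3), (1, 2), (0, 4), (2, 3), (2, 2), (1, 2), (0, 4), (0, 1), (0, 2), (0, 4), (2, 2), (2, 4), (1, 4), (2, 2), (1, 2), (4, 3), (0, 3), (0, 3), (0, 4), (1, 2), (1, 1), (0, 1), (1, 2), (1, 3), (0, 3), (1, 1), (0, 4), (0, 2), (0, 1), (0, 3), (3, 3), (0, 4), (0, 2), (1, 3), (0, 4), (0, 1), (0, 3), (0, 1), (0, 1), (1, 3)],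
  [(13, 3), (0, 3), (4, 2), (0, 1), (5, 3), (1, 1), (1, 4), (1, 2), (2, 2), (2, 1), (2, 4), (3, 4), (0, 1), (4, 1), (2, 1), (0, 3), (0, 2), (3, 1), (1, 1), (2, 4), (0, 4), (1, 4), (0, 2), (1, 4), (2, 2), (1, 2), (0, 2), (0, 4), (0, 1), (1, 4), (1, 2), (0, 2), (1, 3), (0, 1), (0, 3), (0, 1), (0, 2), (0, 2), (1, 1), (0, 3), (1, 1), (2, 4), (2, 2), (0, 4), (0, 2), (3, 1), (0, 3), (0, 4)],
  [(13, 3), (0, 3), (4, 1), (0, 3), (5, 2), (1, 4), (2, 2), (0, 4), (0, 2), (1, 2), (1, 3), (0, 2), (2, 3), (1, 3), (0, 1), (0, 2), (0, 1), (4, 2), (0, 4), (1, 2), (1, 4), (0, 3), (0, 2), (0, 1), (0, 2), (1, 1), (2, 4), (0, 3), (1, 1), (0, 4), (1, 1), (3, 3), (0, 1), (0, 3), (0, 1), (2, 3), (1, 4), (0, 2), (1, 1), (0, 4), (0, 4), (0, 4), (0, 3), (0, 3), (0, 1), (0, 3), (0, 3), (0, 3), (1, 3), (1, 2), (0, 4), (0,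 2), (0, 3), (1, 1), (1, 4), (0, 2), (0, 4), (0, 3), (0, 2)],
  [(19, 2), (1, 1), (2, 3), (1, 3), (1, 1), (2, 2), (0, 1), (2, 3), (0, 4), (6, 4), (2, 1), (4, 4), (0, 3), (2, 2), (0, 3), (1, 4), (1, 2), (0, 1), (4, 3), (2, 4), (1, 3), (2, 3), (0, 2), (0, 2), (0, 3), (0, 1), (0, 3), (1, 4), (1, 3), (0, 4), (1, 3), (0, 2), (0, 2), (0, 3), (0, 3), (3, 3), (0, 3), (0, 2), (0, 3), (1, 3), (1, 4), (0, 3), (0, 4), (0, 4), (1, 3), (0, 3), (0, 2)],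
  [(18, 4), (0, 2), (4, 1), (1, 4), (1, 3), (0, 2), (0, 3), (0, 2), (0, 4), (3, 2), (6, 4), (1, 2), (0, 3), (2, 1), (4, 3), (0, 2), (0, 2), (0, 2), (0, 1), (1, 2), (0, 3), (2, 4), (4, 3), (1, 4), (2, 3), (0, 4), (0, 3), (0, 4), (0, 2), (0, 2), (6, 1), (0, 3), (0, 1), (0, 1), (0, 2), (0, 2), (0, 3), (0, 1), (0, 4), (0, 4), (0, 2), (2, 2), (0, 4), (1, 4), (1, 1), (0, 4), (0, 4), (0, 4), (0, 1), (0, 4), (0, 2)],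
  [(13, 2), (0, 4), (4, 2), (0, 4), (5, 4), (1, 3), (0, 3), (0, 3), (0, 4), (0, 2), (0, 4), (3, 2), (0, 2), (2, 1), (1, 4), (1, 2), (0, 3), (4, 2), (0, 1), (2, 4), (0, 1), (0, 4), (0, 2), (0, 4), (0, 1), (1, 2), (2, 2), (2, 2), (0, 2), (1, 1), (2, 4), (0, 4), (0, 1), (0, 2), (0, 2), (0, 2), (1, 3), (1, 2), (0, 3), (1, 1), (0, 3), (0, 1), (0, 4), (1, 1), (0, 3), (2, 2), (0, 2), (0, 2), (1, 1), (0, 2), (0, 1), (0, 3), (0, 2), (0, 1), (0, 4), (0, 3), (0, 3), (0, 4), (0, 1)],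
  [(13, 3), (1, 2), (2, 1), (0, 1), (1, 3), (2, 3), (1, 2), (2, 4), (0, 2), (0, 2), (3, 3), (0, 1), (3, 4), (2, 3), (1, 3), (0, 2), (2, 4), (1, 3), (0, 2), (1, 2), (2, 3), (2, 3), (0, 4), (2, 2), (1, 3), (1, 4), (0, 4), (4, 4), (1, 3), (0, 4), (0, 4), (2, 4), (1, 3), (0, 3), (1, 1), (0, 2), (1, 3), (0, 1), (0, 4), (0, 4), (0, 4), (0, 1), (0, 1), (0, 1), (0, 4), (1, 3), (1, 1), (0, 1), (1, 4), (0, 4), (0, 2), (0, 1), (0, 3), (0, 2), (0, 3)],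
  [(26, 1), (1, 4), (1, 1), (0, 2), (3, 4), (7, 3), (1, 3), (0, 4), (4, 3), (0, 3), (1, 3), (0, 1), (1, 4), (0, 3), (1, 3), (5, 3), (1, 2), (0, 2), (1, 2), (4, 1), (0, 2), (0, 3), (0, 3), (1, 1), (1, 2), (2, 1), (0, 4), (0, 1), (0, 3), (0, 2), (0, 2), (0, 1), (0, 3), (0, 1), (0, 3), (0, 4), (3, 4), (0, 3), (1, 4), (0, 2), (0, 1), (1, 4), (0, 3), (0, 2), (0, 1)],
  [(13, 2), (0, 2), (4, 2), (0, 2), (5, 4), (1, 4), (0, 4), (0, 2), (0, 1), (0, 4), (0, 1), (1, 3), (1, 1), (0, 1), (2, 2), (2, 2), (6, 3), (0, 4), (1, 2), (0, 3), (0, 3), (0, 3), (1, 2), (0, 1), (1, 1), (2, 1), (0, 2), (0, 1), (0, 2), (0, 3), (1, 3), (2, 2), (0, 2), (0, 2), (1, 1), (0, 2), (1, 2), (1, 2), (0, 2), (1, 2), (0, 2), (0, 4), (0, 2), (1, 4), (0, 3), (1, 3), (1, 3), (0, 2), (1, 4), (0, 3), (0, 3), (0, 2), (0, 4), (0, 4), (0,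 4), (0, 3), (0, 3), (0, 2), (0, 3), (0, 1)],
  [(19, 4), (6, 2), (1, 3), (0, 3), (0, 3), (0, 4), (0, 4), (2, 3), (7, 1), (7, 3), (0, 4), (1, 3), (0, 4), (0, 2), (0, 2), (0, 3), (1, 2), (7, 3), (0, 1), (1, 4), (6, 2), (0, 2), (1, 1), (2, 2), (1, 1), (0, 3), (0, 4), (0, 1), (0, 3), (2, 3), (0, 3), (4, 2), (0, 2), (1, 1), (0, 4), (0, 3), (0, 3), (0, 3), (0, 1), (0, 1), (1, 4)],
  [(26, 4), (1, 3), (0, 1), (1, 4), (0, 2), (2, 4), (9, 1), (0, 3), (5, 2), (1, 2), (0, 4), (10, 2), (1, 4), (0, 3), (1, 4), (3, 3), (0, 4), (0, 1), (0, 3), (0, 2), (1, 3), (1, 4), (0, 2), (1, 2), (0, 3), (0, 3), (0, 2), (0, 1), (0, 3), (0, 2), (0, 4), (0, 2), (1, 3), (0, 3), (1, 2), (0, 4), (0, 4), (0, 3), (0, 1), (0, 3), (0, 4), (0, 3), (3, 2)],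
  [(13, 3), (0, 2), (4, 4), (0, 1), (5, 4), (1, 1), (0, 1), (0, 3), (0, 3), (0, 1), (2, 4), (1, 2), (0, 3), (2, 4), (1, 2), (0, 2), (0, 3), (0, 1), (4, 1), (0, 2), (1, 4), (0, 1), (0, 2), (0, 4), (0, 3), (1, 3), (1, 1), (2, 1), (0, 1), (1, 3), (0, 1), (1, 4), (2, 3), (0, 1), (0, 2), (0, 4), (0, 4), (0, 1), (1, 1), (1, 2), (0, 4), (1, 2), (0, 2), (1, 3), (0, 1), (0, 3), (1, 3), (1, 4), (0, 3), (0, 4), (1, 4), (0, 3), (0, 2), (0, 1), (0, 2), (1, 4), (0, 2), (2, 3), (0, 4)],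
  [(13, 3), (0, 3), (11, 4), (1, 2), (0, 1), (0, 4), (0, 3), (0, 3), (0, 4), (1, 4), (1, 1), (0, 3), (2, 1), (1, 4), (0, 1), (0, 3), (0, 3), (1, 1), (2, 1), (2, 1), (0, 3), (1, 2), (0, 3), (0, 2), (0, 1), (1, 1), (2, 1), (1, 3), (0, 2), (0, 3), (0, 3), (0, 2), (0, 2), (1, 1), (0, 2), (0, 1), (0, 2), (1, 3), (3, 3), (2, 1), (2, 3), (0, 3), (0, 2), (0, 2), (0, 1), (0, 2), (2, 2), (1, 3), (0, 2), (0, 1), (1, 2), (0, 3), (0, 4), (0, 1), (0, 2), (0, 4), (0, 1), (0, 1)],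
  [(13, 4), (4, 1), (2, 3), (2, 3), (1, 2), (1, 2), (2, 1), (3, 4), (0, 4), (5, 2), (6, 4), (0, 4), (0, 1), (0, 4), (1, 3), (0, 1), (0, 3), (0, 4), (0, 1), (1, 3), (0, 4), (2, 4), (1, 2), (1, 1), (0, 3), (1, 4), (2, 3), (0, 2), (0, 1), (0, 2), (1, 3), (4, 3), (1, 1), (0, 3), (0, 4), (0, 3), (1, 2), (0, 2), (0, 3), (1, 3), (0, 1), (0, 2), (1, 3), (0, 2), (0, 2), (0, 3), (0, 1), (0, 2), (0, 1), (0, 3), (0, 3), (1, 2), (0, 1)],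
  [(15, 4), (2, 3), (0, 2), (1, 3), (2, 1), (3, 1), (0, 3), (0, 3), (0, 1), (0, 1), (2, 3), (0, 2), (6, 3), (1, 3), (0, 3), (2, 2), (2, 2), (2, 1), (0, 4), (0, 1), (0, 1), (2, 4), (2, 3), (1, 3), (1, 4), (0, 2), (1, 3), (2, 2), (0, 4), (0, 3), (0, 4), (0, 1), (0, 2), (1, 3), (1, 1), (0, 3), (1, 2), (0, 2), (1, 1), (1, 1), (0, 1), (0, 3), (0, 4), (0, 2), (0, 3), (0, 2), (1, 4), (0, 3), (0, 4), (0, 4), (2, 3), (0, 1), (0, 3), (0, 4), (0, 1), (0, 2)],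
  [(13, 2), (5, 3), (6, 4), (1, 2), (2, 2), (0, 1), (2, 3), (7, 3), (1, 2), (0, 1), (4, 2), (0, 2), (1, 1), (1, 1), (0, 3), (0, 1), (1, 1), (5, 1), (1, 4), (0, 2), (4, 1), (0, 2), (0, 2), (0, 1), (0, 2), (0, 2), (1, 4), (1, 3), (0, 3), (1, 3), (1, 1), (1, 1), (0, 1), (0, 1), (0, 1), (2, 2), (2, 1), (0, 3), (0, 2), (0, 4), (0, 3), (0, 2), (0, 4), (0, 2), (0, 2), (0, 3), (1, 3)],
  [(13, 2), (5, 4), (6, 2), (1, 3), (0, 4), (1, 2), (3, 1), (10, 1), (4, 1), (0, 2), (1, 2), (1, 3), (1, 3), (1, 4), (5, 4), (1, 2), (2, 1), (2, 3), (0, 1), (1, 3), (0, 3), (0, 4), (1, 2), (1, 1), (0, 1), (1, 1), (0, 2), (0, 1), (0, 4), (0, 4), (0, 2), (0, 2), (0, 2), (0, 1), (0, 2), (0, 2), (0, 1), (1, 4), (0, 2), (0, 1), (0, 1), (2, 2), (0, 4), (0, 1), (0, 4), (0, 3), (0, 3)],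
  [(13, 2), (5, 4), (6, 1), (1, 3), (1, 1), (0, 1), (0, 2), (10, 2), (1, 2), (0, 2), (5, 2), (1, 3), (0, 1), (0, 1), (0, 1), (0, 3), (1, 4), (5, 2), (1, 3), (0, 1), (1, 2), (2, 2), (0, 4), (0, 1), (0, 3), (0, 2), (0, 1), (3, 4), (2, 3), (0, 1), (0, 4), (0, 2), (0, 2), (0, 2), (1, 2), (1, 1), (0, 3), (0, 4), (1, 2), (1, 1), (0, 2), (1, 1), (0, 1), (0, 1), (0, 1), (1, 1)],
  [(19, 3), (6, 1), (1, 2), (0, 4), (0, 4), (0, 4), (0, 3), (2, 1), (7, 4), (1, 3), (5, 3), (0, 2), (1, 2), (0, 4), (1, 4), (0, 4), (1, 2), (5, 2), (1, 2), (0, 3), (1, 4), (2, 1), (0, 4), (0, 2), (0, 4), (0, 1), (2, 2), (1, 2), (0, 3), (2, 4), (0, 3), (0, 3), (0, 3), (0, 2), (0, 1), (0, 4), (0, 1), (0, 4), (1, 4), (1, 4), (0, 1), (0, 1), (1, 1), (1, 4), (0, 3), (0, 1)],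
  [(19, 3), (6, 3), (1, 1), (0, 2), (0, 1), (0, 3), (0, 4), (2, 3), (7, 1), (1, 2), (5, 4), (0, 2), (1, 1), (0, 4), (0, 3), (0, 3), (0, 1), (7, 4), (1, 2), (0, 1), (5, 3), (1, 1), (0, 4), (0, 4), (1, 1), (1, 2), (0, 1), (1, 4), (0, 1), (0, 1), (0, 1), (0, 3), (0, 1), (1, 4), (0, 3), (1, 2), (0, 2), (1, 2), (0, 1), (0, 4), (0, 4), (2, 4), (0, 4), (0, 3), (0, 4), (0, 3), (0, 3)],
  [(13, 2), (12, 4), (1, 1), (0, 2), (0, 2), (0, 4), (0, 3), (2, 1), (9, 2), (0, 2), (5, 4), (1, 4), (1, 4), (0, 3), (0, 1), (1, 3), (5, 1), (1, 3), (0, 3), (4, 4), (0, 1), (0, 2), (0, 2), (1, 3), (1, 4), (4, 2), (1, 2), (1, 3), (0, 4), (0, 3), (2, 4), (0, 3), (0, 2), (1, 1), (1, 3), (0, 4), (2, 4), (0, 3), (0, 3), (0, 1), (0, 2), (0, 2)],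
  [(13, 3), (5, 3), (8, 3), (1, 3), (12, 1), (2, 3), (5, 1), (1, 1), (0, 3), (0, 2), (0, 1), (0, 3), (7, 4), (1, 1), (2, 3), (2, 1), (0, 1), (0, 4), (0, 2), (1, 4), (1, 2), (1, 1), (2, 4), (0, 4), (1, 3), (0, 2), (0, 1), (0, 1), (0, 3), (0, 2), (0, 1), (0, 1), (0, 2), (1, 1), (1, 3), (0, 2), (0, 1), (0, 3), (0, 2), (0, 3), (0, 1), (0, 3), (0, 1), (0, 4)],
  [(13, 4), (12, 4), (1, 2), (0, 1), (0, 3), (0, 1), (0, 2), (2, 2), (7, 3), (8, 3), (1, 2), (0, 1), (0, 1), (0, 3), (0, 3), (1, 3), (7, 3), (0, 4), (1, 1), (2, 2), (0, 1), (1, 3), (0, 2), (0, 3), (1, 2), (1, 1), (0, 1), (2, 1), (0, 1), (0, 4), (0, 3), (1, 4), (1, 4), (0, 3), (0, 4), (0, 2), (1, 2), (0, 1), (2, 2), (0, 4), (0, 4), (0, 2), (1, 4), (0, 2), (0, 1)],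
  [(13, 1), (0, 4), (4, 4), (0, 1), (5, 3), (1, 4), (1, 1), (1, 2), (2, 2), (1, 1), (0, 3), (2, 2), (1, 2), (0, 1), (1, 4), (4, 3), (0, 3), (1, 4), (0, 3), (0, 4), (0, 2), (0, 1), (3, 4), (2, 2), (1, 3), (0, 1), (0, 1), (4, 4), (0, 4), (0, 1), (1, 2), (0, 4), (1, 2), (1, 4), (0, 3), (1, 4), (0, 3), (0, 2), (1, 1), (0, 3), (0, 4), (0, 3), (0, 3), (0, 3), (3, 1), (0, 4), (0, 2), (0, 3), (1, 1), (0, 4), (0, 4), (2, 2), (0, 2)],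
  [(13, 2), (5, 2), (6, 4), (1, 2), (0, 4), (1, 2), (0, 3), (2, 4), (9, 3), (0, 4), (4, 3), (2, 4), (0, 1), (0, 3), (0, 3), (0, 3), (7, 4), (1, 2), (0, 3), (1, 3), (2, 2), (0, 2), (0, 1), (1, 2), (0, 3), (1, 2), (1, 3), (0, 4), (1, 2), (0, 3), (1, 3), (1, 2), (0, 1), (1, 4), (0, 2), (0, 1), (2, 2), (0, 4), (1, 3), (0, 4), (0, 4), (0, 4), (0, 2), (0, 3), (2, 4)],
  [(13, 1), (4, 4), (0, 4), (1, 1), (2, 4), (3, 1), (0, 4), (0, 2), (0, 4), (0, 2), (2, 1), (0, 2), (6, 1), (2, 2), (2, 4), (1, 2), (0, 3), (1, 4), (0, 4), (0, 1), (0, 2), (0, 4), (2, 1), (2, 3), (1, 1), (1, 4), (2, 4), (2, 4), (0, 2), (0, 1), (0, 1), (1, 4), (1, 2), (1, 3), (0, 4), (2, 1), (0, 2), (1, 3), (0, 2), (1, 3), (0, 3), (1, 4), (0, 3), (1, 4), (0, 1), (0, 3), (1, 3), (1, 3), (0, 4), (0, 2), (0, 4), (0, 4), (0, 2)],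
  [(14, 1), (5, 1), (7, 4), (0, 2), (1, 3), (0, 2), (0, 1), (1, 3), (1, 2), (0, 1), (4, 2), (2, 1), (4, 4), (0, 2), (1, 4), (1, 2), (0, 2), (0, 1), (0, 3), (0, 1), (4, 3), (0, 1), (1, 2), (0, 2), (1, 3), (2, 4), (0, 1), (0, 4), (1, 4), (0, 4), (1, 4), (1, 2), (0, 1), (1, 2), (0, 4), (0, 1), (0, 2), (0, 2), (0, 3), (0, 4), (0, 1), (0, 2), (0, 2), (0, 3), (0, 1), (1, 4), (1, 3), (0, 2), (1, 4), (0, 2), (0, 4), (0, 3), (0, 1), (0, 4), (0, 1)],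
  [(13, 1), (5, 4), (1, 4), (4, 3), (1, 3), (2, 1), (0, 3), (3, 3), (6, 2), (1, 2), (0, 1), (5, 4), (1, 2), (0, 2), (0, 1), (0, 4), (0, 2), (1, 3), (0, 4), (2, 4), (3, 2), (0, 2), (1, 1), (2, 3), (0, 4), (0, 4), (0, 4), (0, 3), (2, 3), (1, 4), (0, 2), (1, 3), (0, 3), (0, 2), (0, 2), (1, 4), (0, 4), (0, 4), (0, 2), (0, 3), (1, 3), (1, 4), (0, 2), (1, 3), (0, 4), (0, 1), (0, 1), (0, 3), (0, 3), (0, 4), (1, 4)],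
  [(13, 3), (5, 1), (1, 1), (2, 3), (1, 3), (1, 3), (0, 1), (0, 3), (0, 4), (0, 4), (2, 2), (0, 3), (6, 3), (1, 2), (6, 1), (1, 3), (0, 4), (0, 3), (0, 1), (0, 4), (1, 2), (0, 4), (2, 2), (6, 2), (2, 2), (1, 2), (0, 2), (0, 2), (2, 1), (1, 2), (0, 4), (2, 4), (0, 3), (0, 3), (0, 2), (1, 4), (0, 3), (0, 3), (0, 2), (1, 4), (1, 4), (0, 1), (0, 1), (3, 3), (2, 1), (0, 3), (0, 3)],
  [(13, 3), (0, 1), (4, 2), (0, 3), (5, 4), (1, 4), (0, 4), (0, 2), (0, 4), (0, 4), (0, 3), (1, 1), (1, 1), (0, 4), (2, 1), (1, 3), (0, 3), (0, 1), (0, 2), (7, 4), (0, 3), (0, 3), (0, 2), (0, 1), (0, 4), (0, 1), (1, 3), (2, 2), (0, 1), (1, 2), (0, 1), (5, 3), (0, 3), (0, 2), (1, 1), (1, 3), (5, 4), (1, 4), (0, 4), (0, 1), (0, 3), (0, 1), (0, 4), (0, 1), (1, 3), (1, 2), (0, 1), (0, 3), (0, 4), (0, 3), (1, 1), (0, 3), (0,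 2), (0, 4)],
  [(26, 4), (1, 2), (0, 1), (0, 4), (0, 4), (0, 4), (2, 4), (7, 3), (1, 4), (0, 2), (4, 2), (0, 2), (1, 3), (0, 4), (0, 1), (0, 1), (2, 1), (5, 4), (1, 2), (0, 3), (1, 1), (2, 3), (2, 1), (0, 3), (0, 1), (1, 3), (1, 2), (0, 4), (1, 4), (1, 2), (1, 3), (0, 3), (0, 1), (1, 3), (0, 1), (0, 1), (0, 1), (1, 1), (0, 4), (0, 2), (0, 3), (0, 1), (0, 1), (0, 2), (0, 1), (0, 2), (0, 2), (0, 1), (0, 4)],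
  [(13, 2), (0, 1), (4, 4), (0, 3), (5, 3), (1, 1), (0, 1), (0, 2), (2, 2), (3, 1), (0, 4), (2, 1), (1, 3), (0, 3), (0, 4), (0, 3), (4, 2), (0, 3), (3, 2), (0, 4), (1, 1), (2, 3), (2, 3), (0, 1), (0, 4), (0, 3), (0, 2), (1, 1), (2, 1), (0, 1), (0, 2), (0, 1), (0, 3), (0, 1), (1, 2), (2, 3), (1, 4), (2, 4), (0, 4), (0, 3), (0, 4), (0, 3), (0, 2), (1, 1), (0, 1), (1, 1), (0, 3), (0, 2), (1, 4), (0, 4), (3, 1), (0, 3), (0, 2)],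
  [(13, 3), (12, 4), (2, 3), (0, 4), (0, 3), (0, 4), (2, 2), (7, 2), (1, 4), (0, 2), (4, 4), (0, 3), (1, 1), (0, 4), (0, 2), (0, 1), (0, 1), (1, 4), (5, 1), (1, 3), (0, 2), (1, 3), (2, 1), (0, 4), (0, 3), (0, 1), (0, 1), (0, 1), (1, 3), (1, 1), (0, 4), (1, 4), (1, 3), (0, 3), (0, 1), (0, 4), (0, 4), (0, 4), (0, 3), (0, 1), (1, 1), (1, 4), (1, 3), (0, 4), (0, 3), (0, 2), (0, 1), (0, 3), (0, 1), (0, 4), (0, 2), (0, 2)],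
  [(13, 3), (5, 4), (6, 3), (1, 4), (1, 3), (0, 2), (0, 3), (2, 2), (7, 1), (1, 3), (0, 3), (4, 3), (0, 2), (1, 4), (0, 1), (1, 1), (0, 3), (1, 3), (5, 4), (2, 2), (1, 2), (2, 4), (0, 2), (0, 4), (0, 2), (0, 2), (0, 1), (1, 3), (1, 1), (0, 3), (1, 3), (0, 1), (2, 2), (1, 2), (0, 1), (0, 4), (0, 3), (0, 3), (0, 3), (1, 4), (0, 1), (0, 4), (0, 3), (0, 1), (0, 3), (0, 2), (0, 4), (0, 4), (0, 2)],
  [(14, 1), (4, 1), (6, 4), (1, 3), (1, 2), (0, 2), (0, 1), (0, 2), (1, 2), (2, 2), (2, 4), (1, 2), (1, 1), (0, 2), (4, 4), (0, 4), (1, 2), (0, 2), (0, 1), (0, 1), (0, 1), (0, 1), (2, 1), (2, 2), (0, 2), (1, 4), (1, 1), (3, 1), (2, 3), (0, 1), (0, 1), (1, 1), (1, 4), (0, 4), (1, 4), (0, 1), (0, 4), (1, 3), (1, 1), (0, 3), (0, 4), (0, 1), (1, 4), (1, 4), (0, 4), (0, 2), (1, 4), (0, 3), (1, 2), (0, 2), (0,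 2), (0, 3), (0, 1)],
  [(13, 1), (5, 2), (6, 3), (1, 4), (1, 3), (0, 3), (0, 4), (2, 3), (7, 1), (1, 3), (0, 1), (4, 3), (0, 2), (1, 4), (0, 2), (0, 1), (0, 2), (2, 4), (5, 3), (1, 3), (0, 3), (1, 3), (2, 3), (1, 3), (0, 3), (1, 3), (1, 2), (4, 2), (0, 4), (2, 4), (0, 3), (0, 2), (0, 3), (0, 4), (0, 2), (0, 3), (0, 4), (1, 2), (1, 4), (0, 4), (0, 3), (0, 2), (1, 4), (0, 3), (1, 3), (0, 3)],
  [(13, 1), (5, 1), (0, 3), (5, 4), (1, 4), (1, 3), (0, 3), (0, 2), (0, 3), (3, 1), (0, 2), (4, 1), (0, 2), (0, 4), (0, 1), (4, 4), (0, 2), (1, 3), (0, 1), (0, 1), (0, 4), (0, 1), (0, 4), (0, 1), (1, 2), (2, 4), (0, 4), (0, 1), (0, 3), (0, 4), (2, 1), (3, 1), (0, 2), (3, 1), (1, 4), (0, 2), (1, 3), (1, 1), (1, 3), (0, 3), (0, 3), (0, 1), (0, 1), (0, 4), (0, 3), (0, 3), (1, 4), (0, 1), (1, 3), (0, 4), (0,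 3), (0, 4), (0, 4), (0, 1), (0, 4), (0, 3), (0, 3)],
  [(13, 2), (5, 2), (8, 3), (0, 4), (1, 4), (0, 4), (10, 2), (1, 3), (0, 1), (4, 1), (0, 4), (1, 4), (0, 3), (0, 4), (0, 1), (0, 4), (1, 3), (5, 2), (2, 3), (1, 1), (3, 1), (0, 4), (0, 1), (0, 2), (0, 4), (3, 4), (0, 3), (2, 2), (0, 3), (1, 2), (1, 3), (0, 2), (0, 1), (0, 4), (1, 3), (1, 3), (0, 1), (1, 3), (0, 3), (0, 2), (0, 1), (0, 1), (0, 3), (0, 1), (0, 3), (0, 4)],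
  [(13, 4), (5, 4), (6, 4), (1, 3), (0, 4), (1, 4), (0, 3), (10, 3), (1, 3), (0, 1), (4, 4), (2, 2), (0, 1), (1, 2), (0, 3), (1, 1), (5, 4), (1, 3), (2, 1), (2, 2), (1, 1), (0, 2), (0, 3), (0, 4), (1, 4), (1, 2), (0, 2), (1, 4), (0, 4), (0, 2), (0, 2), (0, 1), (0, 4), (0, 1), (1, 2), (0, 1), (0, 2), (3, 1), (0, 1), (1, 2), (0, 1), (1, 1), (0, 2), (2, 1)],
  [(30, 3), (1, 1), (2, 2), (7, 1), (1, 1), (5, 4), (4, 2), (0, 3), (0, 1), (1, 4), (5, 1), (1, 1), (0, 1), (1, 3), (2, 1), (0, 3), (0, 4), (0, 3), (0, 4), (0, 2), (1, 4), (1, 3), (2, 1), (0, 1), (0, 2), (0, 1), (1, 4), (0, 4), (0, 1), (0, 4), (0, 2), (1, 1), (1, 1), (0, 2), (0, 2), (0, 2), (1, 4), (0, 4), (0, 4), (1, 4), (0, 3), (0, 3)],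
  [(13, 3), (5, 3), (10, 3), (0, 1), (0, 2), (2, 3), (7, 2), (2, 1), (4, 4), (0, 2), (1, 3), (1, 3), (0, 4), (0, 3), (1, 4), (7, 1), (0, 1), (1, 3), (2, 1), (0, 4), (0, 4), (0, 1), (0, 2), (0, 4), (1, 4), (1, 4), (2, 2), (0, 1), (0, 2), (0, 2), (0, 1), (0, 3), (1, 3), (0, 4), (1, 3), (0, 1), (3, 1), (0, 1), (0, 3), (0, 4), (0, 3), (0, 3), (0, 1), (0, 1), (1, 2)],
  [(13, 2), (5, 1), (6, 3), (2, 3), (0, 3), (0, 2), (0, 3), (2, 3), (7, 2), (2, 1), (7, 1), (0, 3), (0, 4), (0, 4), (2, 3), (5, 4), (1, 3), (0, 2), (1, 2), (2, 1), (0, 3), (0, 2), (1, 3), (0, 1), (1, 3), (1, 1), (0, 3), (1, 4), (1, 2), (1, 1), (0, 1), (0, 3), (0, 3), (0, 2), (0, 2), (0, 2), (0, 3), (1, 3), (0, 4), (0, 1), (0, 3), (0, 4), (0, 2), (0, 4), (0, 2), (0, 4), (0, 1), (0, 1), (0, 2)],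
  [(19, 1), (6, 1), (1, 4), (1, 4), (0, 3), (0, 3), (10, 2), (1, 4), (0, 2), (4, 4), (0, 1), (1, 4), (0, 3), (0, 3), (1, 4), (1, 4), (5, 1), (1, 4), (0, 2), (1, 3), (2, 3), (0, 1), (0, 4), (0, 1), (0, 4), (0, 2), (3, 4), (0, 4), (1, 3), (0, 2), (0, 1), (0, 2), (0, 3), (1, 1), (1, 3), (0, 3), (0, 3), (0, 2), (1, 2), (0, 4), (0, 2), (5, 2), (0, 1), (1, 4)],
  [(19, 4), (6, 4), (1, 1), (0, 1), (0, 2), (4, 4), (7, 4), (2, 4), (4, 4), (0, 2), (1, 3), (0, 4), (0, 2), (0, 3), (0, 3), (7, 1), (2, 3), (1, 2), (2, 3), (1, 3), (1, 4), (0, 3), (1, 3), (2, 1), (1, 2), (0, 2), (1, 2), (0, 3), (0, 2), (0, 3), (0, 1), (0, 1), (0, 1), (0, 4), (0, 1), (2, 3), (0, 1), (0, 4), (0, 4), (0, 1), (0, 2), (0, 3), (0, 1), (1, 3), (0, 1)],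
  [(13, 1), (5, 1), (6, 3), (1, 4), (0, 2), (0, 2), (0, 3), (0, 2), (2, 4), (7, 1), (1, 2), (0, 2), (4, 3), (0, 4), (2, 4), (0, 1), (0, 4), (2, 3), (5, 3), (1, 3), (0, 2), (1, 4), (2, 2), (0, 4), (0, 2), (1, 3), (2, 1), (1, 1), (0, 4), (3, 2), (0, 1), (0, 4), (0, 2), (0, 3), (0, 2), (1, 4), (0, 3), (2, 4), (1, 2), (0, 4), (1, 4), (0, 4), (0, 3), (1, 3), (0, 1), (0, 4)],
  [(13, 3), (5, 3), (6, 4), (1, 1), (0, 1), (0, 3), (0, 1), (0, 2), (10, 3), (1, 1), (0, 1), (4, 1), (0, 3), (2, 3), (0, 3), (0, 3), (0, 3), (1, 1), (5, 2), (1, 1), (0, 2), (4, 4), (0, 1), (0, 4), (1, 2), (0, 3), (1, 3), (1, 2), (0, 2), (4, 4), (0, 1), (0, 3), (0, 4), (0, 3), (0, 4), (0, 1), (0, 1), (0, 4), (1, 1), (0, 1), (0, 2), (0, 2), (0, 4), (0, 2), (0, 3), (2, 3), (0, 1), (0, 1)],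
  [(13, 4), (5, 3), (8, 3), (0, 1), (0, 2), (0, 1), (0, 3), (12, 2), (0, 1), (4, 3), (0, 3), (2, 1), (2, 4), (1, 2), (5, 4), (1, 4), (2, 3), (2, 1), (0, 1), (0, 4), (0, 1), (0, 3), (0, 1), (1, 3), (1, 4), (0, 4), (1, 1), (0, 2), (0, 2), (0, 1), (0, 2), (0, 4), (3, 1), (0, 3), (2, 4), (0, 4), (0, 1), (0, 2), (0, 3), (0, 2), (0, 1), (1, 2), (1, 3), (0, 2)],
  [(13, 3), (12, 4), (1, 2), (2, 4), (0, 2), (2, 1), (9, 3), (0, 3), (4, 4), (0, 1), (1, 1), (0, 3), (0, 1), (0, 2), (0, 2), (1, 4), (5, 4), (1, 1), (0, 2), (5, 1), (0, 3), (0, 3), (0, 1), (0, 2), (4, 4), (1, 3), (0, 4), (1, 4), (0, 4), (0, 4), (0, 1), (1, 4), (0, 4), (0, 4), (0, 1), (1, 2), (0, 3), (0, 1), (0, 1), (0, 1), (0, 4), (1, 3), (0, 1), (0, 1), (0, 2), (0, 3)],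
  [(19, 2), (6, 2), (1, 4), (1, 2), (0, 2), (0, 3), (2, 2), (9, 1), (0, 4), (4, 1), (0, 2), (1, 2), (1, 1), (0, 4), (0, 4), (1, 3), (7, 4), (0, 4), (1, 4), (2, 3), (1, 4), (0, 4), (0, 1), (0, 4), (1, 4), (2, 3), (2, 4), (0, 1), (0, 2), (0, 3), (0, 4), (0, 2), (1, 4), (0, 4), (0, 1), (0, 2), (2, 3), (1, 2), (0, 4), (1, 1), (1, 3), (1, 2)],
  [(13, 1), (5, 4), (6, 1), (1, 4), (2, 1), (0, 4), (2, 4), (7, 4), (1, 2), (5, 4), (0, 1), (1, 3), (0, 4), (0, 3), (0, 2), (0, 4), (1, 1), (5, 3), (1, 1), (2, 1), (2, 1), (0, 2), (0, 4), (1, 1), (0, 3), (1, 3), (1, 2), (2, 2), (0, 2), (0, 2), (1, 1), (4, 1), (0, 3), (0, 1), (1, 2), (0, 2), (0, 4), (0, 3), (1, 3), (0, 2), (0, 2), (0, 2), (1, 4), (0, 3)],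
  [(13, 2), (5, 2), (6, 4), (1, 4), (0, 4), (0, 4), (0, 4), (0, 2), (2, 3), (7, 4), (1, 2), (5, 2), (0, 4), (1, 3), (0, 1), (0, 1), (0, 3), (0, 1), (1, 2), (5, 1), (1, 3), (0, 1), (1, 1), (2, 3), (0, 2), (0, 1), (0, 4), (0, 1), (2, 4), (1, 1), (0, 1), (1, 2), (0, 2), (1, 4), (1, 4), (0, 3), (0, 4), (1, 2), (1, 1), (1, 1), (0, 2), (0, 3), (2, 2), (0, 3), (0, 2), (0, 3), (0, 2), (0, 2), (0, 3)],
  [(13, 1), (5, 3), (9, 1), (0, 1), (0, 3), (0, 4), (12, 2), (0, 4), (4, 4), (0, 4), (3, 2), (0, 1), (0, 1), (1, 4), (5, 4), (1, 2), (0, 4), (1, 2), (2, 4), (0, 1), (0, 4), (1, 1), (0, 2), (1, 2), (1, 4), (0, 4), (2, 3), (0, 1), (0, 1), (0, 3), (0, 3), (0, 2), (0, 2), (1, 1), (0, 4), (0, 1), (1, 3), (1, 4), (2, 3), (1, 1), (0, 4), (0, 1), (0, 1), (0, 3)],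
  [(19, 2), (12, 1), (2, 4), (7, 4), (7, 3), (0, 1), (1, 2), (0, 1), (0, 4), (0, 4), (0, 2), (1, 2), (5, 1), (1, 1), (0, 2), (1, 2), (2, 1), (1, 4), (1, 2), (0, 3), (1, 3), (1, 2), (0, 2), (1, 2), (0, 4), (0, 1), (0, 3), (1, 1), (0, 4), (0, 2), (0, 3), (0, 2), (3, 1), (0, 1), (0, 4), (0, 2), (0, 4), (0, 4), (0, 1), (0, 3), (0, 4), (0, 2), (1, 4)],
  [(19, 4), (8, 2), (0, 4), (0, 2), (1, 4), (10, 4), (1, 1), (0, 1), (4, 2), (2, 2), (0, 4), (1, 4), (0, 2), (1, 1), (7, 2), (0, 2), (4, 3), (0, 3), (0, 3), (1, 2), (0, 3), (1, 1), (1, 4), (0, 1), (1, 1), (0, 4), (1, 2), (0, 2), (0, 4), (1, 3), (0, 4), (0, 4), (0, 2), (0, 3), (2, 4), (0, 2), (0, 2), (0, 4), (0, 3), (0, 1), (0, 1), (0, 4), (1, 4), (0, 2)],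
  [(13, 4), (5, 1), (6, 1), (1, 2), (1, 3), (0, 2), (0, 1), (2, 4), (10, 1), (4, 3), (0, 4), (1, 3), (0, 4), (0, 2), (0, 4), (0, 1), (1, 2), (8, 4), (1, 4), (2, 1), (0, 4), (1, 2), (0, 3), (2, 3), (1, 4), (0, 2), (1, 3), (0, 1), (1, 4), (0, 3), (0, 1), (1, 2), (0, 2), (0, 4), (0, 4), (2, 3), (0, 2), (0, 3), (0, 4), (0, 2), (0, 1), (0, 3), (0, 1), (0, 3), (0, 2), (0, 3), (0, 1)],
  [(19, 1), (8, 4), (0, 3), (0, 2), (1, 4), (2, 4), (7, 2), (1, 2), (5, 3), (0, 4), (1, 1), (0, 2), (0, 4), (0, 3), (0, 1), (1, 4), (5, 2), (2, 1), (1, 1), (2, 3), (0, 3), (0, 1), (0, 1), (0, 1), (0, 1), (1, 4), (2, 2), (1, 4), (0, 3), (0, 1), (1, 2), (0, 3), (0, 1), (1, 4), (0, 4), (0, 3), (0, 1), (1, 2), (0, 3), (0, 4), (0, 1), (0, 2), (0, 1), (0, 3), (1, 2), (0, 2), (1, 2)],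
  [(13, 4), (5, 1), (6, 4), (1, 1), (2, 3), (3, 4), (7, 4), (1, 4), (0, 4), (4, 1), (0, 2), (1, 3), (0, 3), (0, 4), (0, 3), (0, 1), (7, 2), (2, 3), (1, 1), (2, 1), (0, 1), (0, 2), (1, 2), (0, 1), (1, 3), (1, 1), (0, 4), (1, 2), (0, 1), (0, 4), (0, 2), (0, 3), (0, 3), (0, 1), (0, 2), (2, 3), (0, 2), (1, 4), (0, 3), (0, 1), (1, 4), (0, 3), (0, 4), (0, 3), (0, 2), (0, 3), (0, 4), (0, 3)],
  [(13, 3), (5, 2), (6, 3), (1, 4), (0, 2), (0, 3), (0, 1), (0, 3), (2, 4), (7, 3), (1, 4), (0, 3), (4, 1), (0, 4), (1, 3), (0, 2), (0, 4), (0, 2), (0, 1), (1, 1), (5, 2), (1, 1), (5, 1), (0, 4), (1, 1), (0, 3), (0, 1), (3, 2), (0, 4), (1, 2), (0, 1), (2, 1), (0, 4), (2, 1), (0, 1), (0, 1), (0, 4), (2, 1), (0, 4), (0, 4), (0, 1), (0, 4), (0, 3), (0, 1), (0, 1), (0, 4), (0, 2)],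
  [(19, 4), (6, 3), (2, 4), (0, 1), (0, 2), (0, 4), (2, 4), (10, 4), (4, 4), (0, 1), (2, 2), (1, 3), (0, 1), (1, 2), (5, 1), (1, 3), (0, 1), (1, 3), (2, 3), (0, 2), (0, 4), (0, 4), (3, 1), (2, 2), (1, 1), (0, 4), (0, 3), (0, 2), (0, 2), (0, 3), (0, 1), (1, 4), (0, 1), (0, 3), (2, 3), (0, 3), (0, 2), (0, 4), (0, 1), (0, 2), (0, 1), (0, 4), (0, 3), (0, 3), (1, 1)],
  [(13, 3), (5, 1), (8, 2), (0, 2), (0, 3), (0, 3), (0, 1), (2, 3), (7, 1), (1, 2), (5, 2), (3, 1), (0, 3), (0, 2), (0, 1), (1, 4), (5, 1), (1, 1), (0, 1), (1, 3), (3, 2), (0, 4), (0, 3), (0, 2), (2, 3), (1, 3), (2, 1), (0, 2), (0, 4), (0, 2), (2, 4), (0, 4), (0, 3), (0, 3), (0, 2), (0, 1), (2, 1), (0, 1), (0, 4), (0, 1), (0, 3), (0, 3), (0, 4), (0, 2), (0, 4), (0, 2), (0, 3)],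
  [(13, 2), (5, 4), (6, 4), (1, 4), (0, 4), (0, 1), (0, 2), (0, 1), (2, 2), (9, 4), (5, 2), (0, 3), (1, 4), (0, 3), (0, 3), (0, 1), (0, 3), (1, 2), (7, 3), (0, 2), (1, 3), (2, 1), (0, 2), (0, 3), (2, 2), (1, 3), (1, 4), (2, 3), (1, 3), (0, 4), (0, 2), (0, 3), (0, 4), (0, 1), (1, 1), (0, 3), (2, 3), (0, 3), (0, 4), (0, 4), (0, 1), (1, 2), (0, 2), (0, 1), (0, 2), (0, 3), (0, 2)],
  [(19, 2), (6, 4), (1, 3), (0, 1), (0, 3), (0, 1), (0, 2), (2, 2), (7, 2), (1, 3), (0, 1), (4, 3), (0, 4), (2, 2), (0, 1), (0, 3), (2, 2), (5, 4), (1, 4), (0, 4), (5, 1), (0, 2), (0, 1), (0, 1), (0, 4), (1, 4), (1, 3), (0, 1), (1, 1), (0, 3), (0, 4), (1, 2), (1, 1), (1, 4), (1, 2), (2, 3), (0, 4), (0, 4), (0, 3), (1, 3), (0, 4), (0, 2), (0, 1), (0, 3), (1, 1)],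
  [(13, 2), (5, 3), (6, 1), (1, 1), (0, 4), (0, 4), (0, 4), (0, 1), (2, 2), (7, 4), (1, 3), (0, 2), (10, 1), (0, 2), (7, 2), (2, 4), (1, 2), (2, 2), (0, 2), (0, 2), (0, 1), (0, 4), (2, 4), (1, 3), (0, 1), (3, 4), (0, 4), (0, 4), (0, 3), (0, 3), (1, 4), (0, 1), (0, 3), (0, 4), (1, 1), (0, 2), (1, 2), (0, 3), (0, 1), (0, 1), (0, 2), (0, 1), (1, 1), (0, 4)],
  [(19, 3), (6, 2), (2, 4), (0, 2), (0, 4), (3, 3), (7, 1), (1, 2), (0, 1), (4, 2), (0, 1), (2, 4), (0, 4), (0, 1), (2, 4), (7, 3), (0, 3), (1, 1), (2, 4), (1, 3), (0, 1), (0, 3), (2, 4), (1, 1), (2, 1), (0, 4), (0, 3), (0, 4), (0, 3), (0, 1), (0, 2), (0, 3), (1, 1), (0, 1), (0, 2), (1, 2), (0, 4), (0, 1), (0, 1), (0, 4), (0, 1), (0, 3), (0, 4), (1, 4), (0, 2), (0, 4)],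
  [(13, 4), (5, 3), (8, 4), (0, 3), (0, 4), (0, 2), (0, 2), (2, 3), (7, 3), (2, 2), (4, 4), (2, 2), (0, 4), (0, 1), (1, 3), (1, 3), (5, 4), (1, 3), (0, 2), (1, 2), (2, 3), (0, 4), (0, 2), (0, 1), (0, 4), (0, 2), (1, 4), (1, 3), (0, 3), (2, 2), (0, 1), (0, 3), (0, 1), (0, 3), (0, 4), (0, 3), (0, 4), (1, 1), (0, 4), (1, 1), (0, 2), (0, 2), (0, 4), (0, 1), (0, 2), (0, 2), (1, 2), (2, 2)],
  [(13, 3), (5, 2), (6, 2), (2, 1), (0, 1), (0, 3), (0, 1), (2, 4), (7, 2), (2, 4), (4, 1), (0, 1), (2, 1), (2, 4), (1, 1), (5, 1), (1, 4), (0, 2), (1, 1), (3, 3), (0, 2), (0, 4), (0, 4), (2, 3), (1, 4), (2, 2), (0, 2), (3, 1), (1, 2), (0, 4), (0, 3), (0, 2), (0, 2), (1, 2), (0, 4), (0, 4), (0, 1), (0, 2), (0, 1), (0, 4), (1, 4), (1, 4), (0, 3)],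
  [(19, 1), (6, 2), (3, 1), (0, 1), (0, 4), (12, 1), (0, 2), (4, 1), (0, 3), (1, 3), (0, 3), (1, 4), (0, 1), (1, 4), (5, 2), (1, 1), (0, 2), (1, 2), (2, 2), (0, 1), (0, 4), (1, 4), (0, 1), (1, 3), (1, 2), (0, 1), (2, 3), (0, 2), (2, 3), (0, 4), (0, 4), (0, 2), (0, 4), (0, 1), (0, 2), (1, 2), (0, 4), (0, 4), (0, 2), (0, 1), (0, 1), (0, 2), (0, 2), (0, 3), (0, 4), (0, 3), (0, 4)],
  [(13, 4), (5, 2), (6, 4), (1, 1), (0, 1), (0, 3), (0, 4), (0, 2), (10, 4), (1, 4), (0, 3), (4, 4), (0, 4), (1, 1), (1, 2), (0, 2), (0, 2), (1, 2), (5, 2), (1, 4), (0, 4), (1, 4), (2, 2), (0, 2), (0, 2), (0, 3), (0, 3), (0, 2), (1, 1), (1, 2), (0, 4), (1, 3), (0, 1), (0, 3), (2, 3), (0, 4), (0, 2), (0, 1), (0, 4), (0, 1), (0, 4), (1, 4), (1, 1), (0, 4), (0, 2), (0, 2), (0, 3), (1, 1), (1, 2), (0, 3)],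
  [(104, 1), (0, 1), (2, 1), (0, 4), (0, 4)],
  [(105, 1), (3, 3), (0, 2)],
  [(106, 1), (0, 1), (2, 4)],
  [(107, 1)],
  [(108, 1), (0, 2), (0, 4)],
  [(109, 1), (0, 1)],
  [(110, 1)]]

end CfsgLib.LyGTwo
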