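import Mathlib.Init
import Mathlib.Data.Nat.Notation

/-! Sparse matrices over five elements (generated by tools_ly/genm.py). -/

set_option autoImplicit false
set_option maxRecDepth 100000

namespace CfsgLib.LyGTwo

/-- Sparse rows. -/
def repJ : List (List (ℕ × ℕ)) := [
  [(5, 3), (1, 4), (2, 1), (2, 4), (1, 2), (0, 2), (1, 1), (0, 2), (0, 1), (0, 1), (4, 1), (0, 1), (0, 1), (1, 1), (0, 2), (0, 4), (0, 2), (1, 3), (0, 4), (0, 4), (0, 1), (0, 2), (0, 3), (3, 1), (0, 2), (0, 3), (0, 4), (0, 4), (0, 1), (0, 4), (1, 4), (0, 4), (0, 3), (0, 3), (1, 2), (0, 3), (1, 4), (0, 2), (1, 3), (0, 2), (0, 2), (0, 2), (1, 4), (0, 1), (0, 3), (0, 1), (1, 2), (0, 4), (0, 3), (2, 4), (1, 4), (0, 3), (0, 2), (0, 4), (0, 3), (1, 4), (0, 1), (2, 1), (0, 2), (0, 4), (0, 1), (1, 1), (0, 3), (0, 4), (2, 1), (0, 3),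 (0, 2), (0, 2), (0, 3), (3, 4), (0, 4), (0, 3)],
  [(4, 3), (0, 2), (2, 1), (1, 3), (1, 4), (0, 2), (2, 1), (0, 1), (0, 2), (0, 3), (0, 3), (0, 1), (0, 2), (0, 2), (0, 4), (0, 2), (0, 1), (0, 1), (0, 3), (0, 3), (0, 1), (0, 4), (0, 2), (1, 4), (0, 4), (0, 4), (0, 2), (0, 3), (0, 3), (0, 2), (0, 4), (0, 3), (0, 4), (0, 4), (0, 3), (1, 4), (0, 4), (0, 1), (0, 2), (0, 1), (0, 3), (0, 3), (0, 2), (1, 4), (0, 1), (0, 3), (0, 4), (0, 2), (0, 2), (0, 1), (0, 1), (0, 4), (0, 1), (0, 4), (0, 1), (0, 4), (1, 3), (0, 4), (0, 2), (0, 4), (3, 4), (0, 4), (0, 4), (0, 4), (0, 2), (0, 2), (1, 4), (0, 2), (0, 4), (0, 3), (0, 3), (0, 4), (0, 4), (2, 4), (0, 2), (0, 4), (1, 2), (0, 1), (0, 4), (0, 2), (0, 2), (0, 4), (2, 2), (2, 1)],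
  [(2, 3), (0, 2), (1, 1), (0, 1), (2, 1), (1, 3), (0, 3), (0, 2), (1, 3), (0, 3), (0, 2), (0, 1), (0, 3), (0, 1), (0, 3), (1, 4), (0, 2), (0, 3), (0, 1), (0, 1), (0, 2), (1, 1), (0, 2), (4, 4), (0, 4), (0, 4), (0, 4), (1, 2), (0, 1), (0, 4), (1, 4), (0, 2), (0, 4), (0, 3), (0, 4), (0, 4), (1, 2), (0, 3), (0, 3), (0, 2), (0, 3), (0, 3), (1, 4), (1, 3), (0, 4), (0, 2), (0, 2), (0, 2), (1, 4), (0, 4), (0, 1), (0, 3), (0, 2), (0, 2), (0, 4), (0, 2), (0, 4), (1, 3), (0, 3), (0, 1), (0, 3), (0, 1), (0, 2), (0, 2), (2, 1), (0, 2), (1, 4), (0, 1), (1, 3), (0, 1), (0, 3), (0, 3), (0, 3), (0, 2), (0, 4), (0, 1), (0, 4), (0, 3), (0, 3), (3, 4), (0, 1), (0, 2), (0, 1), (0, 2)],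
  [(2, 4), (0, 2), (1, 4), (0, 4), (2, 1), (0, 4), (0, 4), (0, 3), (0, 1), (0, 1), (0, 4), (0, 1), (0, 4), (0, 2), (0, 2), (0, 4), (0, 3), (0, 4), (0, 4), (0, 1), (0, 2), (0, 1), (0, 4), (0, 1), (0, 3), (0, 3), (0, 3), (1, 3), (0, 1), (0, 2), (1, 1), (0, 3), (1, 4), (0, 4), (0, 3), (0, 1), (0, 3), (0, 1), (0, 3), (0, 2), (0, 4), (0, 2), (0, 4), (0, 2), (0, 4), (0, 1), (0, 2), (1, 3), (0, 3), (0, 4), (0, 4), (0, 4), (0, 2), (0, 4), (1, 3), (0, 2), (0, 1), (0, 4), (0, 4), (0, 3), (1, 4), (0, 4), (0, 2), (2, 3), (0, 2), (0, 3), (0, 3), (0, 3), (0, 2), (0, 4), (0, 2), (1, 1), (0, 1), (0, 1), (0, 2), (1, 3), (0, 3), (1, 1), (0, 4), (3, 3), (0, 2), (0, 4), (0, 3), (0, 4), (0, 4), (2, 2), (0, 1), (1, 2), (0, 2)],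
  [(4, 2), (7, 2), (1, 3), (0, 4), (5, 1), (0, 2), (0, 3), (0, 4), (0, 4), (1, 4), (2, 4), (0, 3), (0, 4), (0, 4), (0, 1), (0, 1), (0, 3), (0, 1), (0, 2), (1, 1), (0, 4), (1, 3), (0, 4), (1, 1), (4, 1), (1, 1), (1, 3), (0, 2), (0, 2), (1, 2), (3, 4), (1, 1), (0, 2), (0, 1), (0, 2), (0, 4), (0, 3), (0, 3), (0, 4), (0, 3), (0, 3), (1, 1), (0, 4), (1, 4), (0, 3), (0, 3), (0, 2), (0, 1), (0, 1), (0, 2), (3, 2), (0, 1), (0, 2), (2, 4), (0, 4), (1, 1), (0, 1), (0, 1), (0, 2), (0, 2), (0, 2), (0, 1), (4, 2), (0, 2), (0, 2)],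
  [(5, 2), (4, 3), (3, 2), (0, 3), (0, 3), (0, 1), (0, 1), (1, 3), (0, 2), (1, 2), (0, 4), (2, 4), (2, 3), (0, 4), (0, 1), (0, 1), (2, 2), (0, 4), (0, 3), (0, 2), (0, 2), (0, 3), (0, 4), (0, 4), (0, 3), (0, 1), (0, 3), (0, 1), (0, 1), (0, 2), (0, 4), (0, 2), (1, 1), (3, 1), (0, 2), (2, 3), (0, 1), (2, 2), (0, 2), (0, 2), (1, 1), (0, 2), (0, 2), (1, 2), (0, 3), (1, 3), (0, 1), (0, 4), (0, 3), (0, 4), (0, 3), (0, 2), (0, 4), (1, 2), (3, 1), (0, 3), (0, 2), (1, 4), (0, 4), (0, 2), (0, 4), (0, 2), (0, 1), (0, 2), (0, 1), (0, 1), (0, 1), (0, 2), (4, 1), (0, 4), (0, 2)],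
  [(6, 2), (5, 3), (1, 4), (0, 3), (2, 1), (1, 4), (0, 3), (0, 3), (0, 2), (0, 3), (0, 1), (1, 1), (2, 1), (0, 2), (0, 4), (1, 1), (0, 2), (0, 4), (0, 3), (0, 1), (1, 2), (0, 3), (0, 4), (0, 2), (0, 3), (1, 4), (0, 1), (1, 2), (0, 4), (0, 3), (1, 4), (3, 3), (0, 2), (1, 3), (0, 4), (0, 3), (1, 1), (0, 3), (0, 2), (0, 3), (0, 1), (0, 2), (0, 2), (0, 1), (0, 1), (4, 2), (0, 4), (1, 2), (0, 2), (0, 3), (0, 3), (0, 1), (0, 1), (3, 4), (0, 4), (0, 1), (2, 1), (0, 1), (1, 4), (0, 4), (1, 2), (0, 3), (0, 3), (0, 1), (4, 2), (0, 4)],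
  [(0, 2), (1, 4), (0, 4), (0, 1), (0, 3), (0, 1), (2, 1), (0, 3), (0, 1), (0, 2), (0, 4), (0, 4), (0, 1), (1, 3), (1, 2), (1, 1), (0, 4), (1, 3), (0, 4), (0, 2), (0, 3), (0, 2), (0, 2), (0, 3), (0, 2), (3, 4), (0, 2), (0, 2), (1, 2), (0, 2), (0, 4), (0, 3), (0, 1), (1, 2), (1, 3), (0, 3), (0, 2), (0, 4), (0, 4), (0, 4), (0, 4), (1, 4), (0, 4), (0, 3), (1, 3), (0, 4), (1, 3), (0, 3), (0, 3), (0, 3), (0, 3), (0, 2), (0, 1), (1, 2), (0, 2), (0, 1), (1, 2), (0, 4), (1, 3), (0, 3), (1, 4), (0, 4), (0, 4), (0, 3), (0, 4), (0, 4), (0, 2), (1, 3), (0, 1), (0, 2), (0, 1), (1, 1), (0, 3), (1, 1), (0, 4), (0, 4), (1, 1), (0, 4), (0, 1), (0, 4), (0, 4), (0, 2), (0, 3), (0, 2), (0, 1), (0, 3), (0, 2)],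
  [(1, 3), (0, 4), (0, 4), (0, 1), (0, 3), (0, 1), (3, 4), (0, 4), (0, 3), (0, 4), (0, 3), (0, 1), (0, 3), (0, 1), (0, 1), (0, 4), (0, 1), (0, 3), (1, 3), (0, 1), (0, 2), (0, 2), (0, 2), (0, 2), (0, 2), (0, 4), (0, 1), (0, 1), (0, 3), (1, 2), (0, 4), (0, 3), (1, 1), (1, 1), (1, 2), (0, 2), (0, 2), (0, 4), (0, 3), (0, 4), (0, 2), (0, 2), (0, 4), (1, 3), (0, 1), (0, 3), (0, 4), (0, 2), (0, 3), (1, 4), (0, 1), (0, 3), (0, 3), (0, 4), (0, 1), (1, 4), (0, 4), (0, 1), (0, 4), (0, 3), (0, 1), (0, 2), (1, 4), (1, 2), (0, 2), (0, 3), (0, 1), (0, 3), (4, 2), (0, 4), (0, 4), (0, 2), (0, 2), (0, 4), (0, 2), (0, 2), (0, 3), (0, 1), (0, 2), (0, 3), (1, 4), (0, 2), (0, 4), (0, 4), (1, 3), (0, 2), (0, 2), (1, 3), (0, 2), (0, 4)],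
  [(2, 3), (0, 3), (1, 3), (0, 3), (2, 1), (0, 2), (0, 1), (0, 3), (0, 1), (0, 3), (0, 4), (0, 3), (0, 2), (0, 4), (1, 3), (0, 1), (2, 1), (0, 2), (1, 4), (0, 4), (0, 3), (0, 3), (0, 3), (0, 2), (0, 3), (0, 2), (0, 4), (0, 4), (0, 2), (0, 1), (0, 3), (0, 4), (0, 2), (1, 1), (0, 3), (1, 4), (0, 1), (0, 2), (0, 4), (3, 1), (0, 1), (0, 2), (0, 3), (0, 4), (0, 2), (1, 4), (0, 4), (0, 2), (0, 2), (1, 4), (0, 2), (0, 2), (0, 2), (0, 3), (3, 4), (0, 3), (0, 2), (0, 3), (0, 1), (0, 1), (0, 4), (0, 1), (0, 3), (0, 2), (0, 3), (1, 2), (0, 2), (0, 2), (0, 2), (0, 4), (0, 2), (0, 2), (0, 2), (0, 4), (0, 1), (1, 3), (0, 2), (0, 3), (0, 1), (0, 1), (0, 2), (0, 3), (0, 3), (0, 3), (0, 2), (3, 3), (0, 4)],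
  [(3, 2), (0, 4), (0, 4), (0, 1), (2, 2), (0, 1), (0, 4), (1, 3), (0, 4), (0, 1), (0, 1), (0, 1), (1, 3), (2, 3), (0, 4), (1, 4), (1, 3), (0, 2), (0, 1), (0, 2), (0, 3), (0, 4), (0, 3), (0, 3), (0, 4), (1, 1), (1, 4), (0, 2), (1, 3), (0, 1), (0, 4), (0, 2), (0, 4), (0, 1), (0, 4), (1, 4), (1, 4), (0, 4), (1, 2), (0, 1), (0, 2), (0, 1), (0, 1), (0, 4), (0, 3), (0, 2), (0, 1), (0, 3), (0, 4), (1, 2), (0, 4), (2, 3), (2, 3), (0, 2), (0, 3), (1, 4), (1, 2), (1, 4), (1, 3), (0, 3), (0, 4), (0, 3), (1, 2), (0, 4), (1, 2), (0, 3), (0, 2), (1, 4), (0, 3), (1, 2), (2, 3), (0, 2), (1, 1), (0, 3), (0, 4), (0, 2), (0, 3)],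
  [(2, 2), (0, 3), (1, 2), (0, 2), (3, 3), (1, 2), (0, 2), (0, 3), (0, 4), (0, 3), (0, 3), (0, 3), (0, 1), (0, 1), (0, 1), (0, 4), (1, 2), (0, 3), (0, 1), (1, 3), (1, 4), (0, 1), (1, 2), (1, 2), (1, 2), (0, 4), (0, 4), (0, 4), (0, 2), (0, 4), (0, 2), (2, 2), (0, 3), (0, 3), (0, 3), (0, 2), (0, 2), (0, 2), (1, 3), (0, 4), (0, 4), (0, 4), (0, 2), (0, 4), (2, 2), (0, 1), (3, 3), (1, 1), (0, 1), (0, 1), (0, 4), (0, 1), (0, 3), (0, 1), (0, 4), (0, 3), (2, 4), (0, 4), (1, 2), (0, 4), (0, 1), (0, 2), (0, 1), (0, 4), (0, 4), (0, 2), (0, 4), (2, 3), (0, 4), (0, 4), (1, 3), (1, 4), (0, 2), (0, 1), (0, 1), (0, 1), (0, 1), (0, 4), (0, 2), (1, 4)],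
  [(2, 4), (1, 3), (1, 3), (3, 3), (0, 4), (0, 3), (0, 3), (0, 1), (1, 1), (0, 4), (0, 1), (0, 4), (0, 4), (0, 2), (2, 3), (0, 1), (0, 2), (0, 1), (2, 2), (0, 3), (0, 3), (0, 3), (0, 4), (0, 3), (2, 4), (0, 3), (0, 2), (1, 3), (0, 1), (1, 3), (0, 2), (0, 1), (0, 1), (0, 1), (0, 4), (0, 4), (1, 4), (0, 3), (0, 2), (0, 1), (1, 2), (0, 1), (0, 4), (0, 1), (0, 1), (1, 1), (0, 4), (1, 1), (0, 4), (0, 4), (1, 4), (0, 2), (0, 4), (0, 1), (0, 3), (0, 3), (0, 1), (0, 1), (0, 2), (0, 4), (0, 1), (0, 4), (1, 1), (0, 1), (0, 4), (0, 2), (0, 4), (0, 3), (0, 1), (1, 3), (1, 3), (2, 1), (0, 2), (0, 4), (0, 4), (0, 4), (4, 2), (0, 3), (0, 4), (0, 2)],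
  [(2, 2), (0, 2), (1, 2), (0, 2), (2, 2), (0, 3), (0, 3), (0, 2), (0, 2), (0, 2), (0, 1), (0, 1), (0, 3), (0, 1), (0, 2), (1, 4), (0, 3), (1, 4), (0, 3), (0, 4), (0, 1), (0, 4), (1, 2), (0, 1), (1, 3), (0, 2), (0, 1), (0, 1), (0, 2), (0, 3), (0, 2), (0, 1), (0, 4), (1, 2), (1, 3), (1, 1), (1, 1), (2, 3), (0, 3), (0, 4), (0, 2), (2, 1), (0, 2), (1, 1), (0, 1), (0, 3), (1, 3), (0, 4), (0, 1), (0, 4), (0, 3), (0, 1), (1, 4), (1, 2), (0, 2), (1, 2), (0, 2), (0, 3), (0, 3), (1, 3), (0, 1), (0, 3), (0, 4), (0, 3), (1, 4), (0, 3), (0, 4), (0, 1), (1, 4), (0, 3), (0, 3), (1, 4), (3, 4), (0, 1), (0, 4), (0, 1), (2, 4), (0, 3), (0, 3), (0, 3)],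
  [(2, 3), (0, 1), (1, 3), (0, 3), (2, 3), (0, 2), (0, 4), (0, 3), (1, 4), (0, 3), (0, 1), (0, 2), (1, 4), (0, 3), (0, 2), (0, 3), (2, 2), (0, 1), (0, 1), (0, 3), (0, 3), (0, 2), (1, 4), (1, 2), (0, 1), (0, 1), (0, 1), (0, 4), (0, 4), (0, 3), (0, 1), (0, 2), (0, 2), (0, 3), (0, 1), (1, 1), (0, 3), (1, 1), (1, 3), (0, 2), (0, 3), (0, 3), (0, 3), (1, 2), (0, 2), (1, 1), (1, 1), (1, 1), (0, 3), (1, 2), (0, 4), (0, 1), (0, 1), (0, 1), (0, 2), (0, 3), (0, 1), (0, 3), (1, 3), (0, 4), (0, 1), (0, 4), (0, 4), (0, 4), (0, 2), (0, 2), (1, 1), (1, 3), (0, 1), (0, 2), (0, 2), (0, 3), (0, 3), (0, 1), (0, 4), (0, 2), (0, 1), (0, 2), (0, 1), (0, 3), (0, 4), (0, 4), (1, 3), (0, 4), (1, 4), (0, 1), (0, 4)],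
  [(2, 2), (0, 2), (1, 4), (3, 1), (1, 2), (0, 4), (0, 4), (1, 4), (0, 1), (0, 2), (0, 4), (0, 4), (1, 3), (0, 3), (0, 3), (0, 2), (2, 1), (0, 4), (1, 1), (0, 3), (0, 1), (0, 1), (2, 1), (0, 4), (0, 1), (0, 1), (1, 4), (0, 2), (0, 1), (0, 4), (0, 4), (0, 3), (0, 1), (0, 3), (0, 4), (0, 1), (0, 3), (0, 2), (0, 2), (1, 3), (1, 3), (0, 2), (0, 2), (1, 2), (0, 2), (0, 3), (0, 1), (1, 4), (0, 1), (1, 3), (2, 2), (0, 1), (0, 4), (0, 2), (3, 1), (1, 1), (0, 3), (0, 2), (0, 4), (0, 1), (0, 1), (0, 4), (1, 1), (0, 3), (1, 4), (0, 2), (0, 4), (0, 2), (0, 4), (0, 3), (0, 4), (0, 1), (0, 1), (0, 1), (0, 4), (0, 1), (0, 4), (1, 3), (0, 1), (1, 4), (0, 4)],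
  [(2, 2), (0, 3), (1, 2), (0, 2), (3, 3), (1, 2), (0, 1), (0, 1), (0, 4), (1, 3), (0, 3), (0, 2), (0, 3), (0, 1), (2, 2), (0, 3), (0, 4), (0, 4), (0, 4), (0, 4), (0, 2), (1, 4), (0, 2), (1, 3), (1, 4), (0, 3), (0, 4), (0, 4), (0, 2), (0, 4), (0, 4), (0, 4), (0, 2), (0, 2), (0, 3), (0, 2), (0, 3), (0, 2), (0, 1), (0, 4), (0, 1), (2, 3), (0, 3), (0, 4), (0, 1), (0, 4), (1, 3), (0, 1), (1, 3), (1, 3), (0, 1), (0, 2), (0, 2), (1, 4), (0, 2), (0, 3), (0, 1), (0, 4), (0, 1), (0, 3), (0, 1), (0, 1), (0, 2), (0, 4), (1, 4), (0, 2), (0, 4), (0, 1), (0, 3), (0, 3), (0, 3), (0, 1), (0, 3), (0, 3), (1, 3), (0, 1), (3, 1), (0, 2), (2, 4), (0, 2), (0, 4), (0, 4), (1, 2), (0, 2)],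
  [(3, 4), (0, 3), (5, 2), (0, 4), (0, 1), (0, 3), (1, 1), (0, 2), (0, 1), (0, 3), (1, 2), (0, 2), (0, 3), (0, 1), (0, 2), (0, 1), (0, 4), (0, 4), (0, 2), (0, 4), (1, 1), (1, 1), (0, 4), (0, 2), (1, 3), (0, 1), (1, 3), (0, 4), (0, 1), (3, 1), (0, 3), (0, 4), (0, 3), (0, 3), (0, 1), (0, 2), (0, 4), (1, 1), (0, 4), (0, 3), (0, 4), (0, 1), (0, 3), (0, 1), (1, 3), (0, 2), (0, 3), (0, 1), (0, 2), (0, 4), (0, 1), (0, 3), (0, 4), (0, 4), (0, 2), (0, 2), (0, 4), (0, 1), (0, 4), (0, 2), (0, 3), (0, 4), (0, 4), (0, 4), (0, 4), (0, 2), (1, 4), (0, 1), (1, 3), (0, 1), (1, 4), (1, 2), (0, 3), (1, 2), (0, 3), (0, 4), (0, 1), (0, 2), (0, 2), (0, 3), (0, 1), (0, 1), (0, 2), (0, 3), (0, 4), (0, 1), (0, 3)],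
  [(2, 2), (0, 4), (0, 4), (0, 4), (0, 4), (3, 2), (0, 2), (0, 3), (1, 2), (0, 2), (0, 2), (0, 4), (3, 3), (0, 3), (0, 4), (0, 3), (3, 3), (0, 2), (0, 4), (0, 2), (0, 1), (0, 4), (0, 4), (0, 4), (0, 1), (1, 4), (2, 1), (1, 2), (0, 2), (0, 4), (0, 2), (1, 4), (0, 4), (0, 1), (0, 3), (0, 2), (0, 2), (0, 2), (0, 2), (1, 3), (0, 4), (0, 2), (0, 2), (0, 2), (1, 3), (0, 1), (0, 4), (1, 4), (0, 2), (0, 4), (0, 4), (1, 4), (0, 3), (2, 2), (0, 4), (0, 4), (0, 4), (2, 1), (0, 3), (1, 2), (0, 1), (0, 3), (0, 4), (1, 2), (0, 4), (0, 2), (0, 1), (0, 3), (0, 4), (0, 1), (0, 3), (1, 3), (1, 2), (0, 1), (0, 1), (0, 4), (1, 2), (0, 2), (0, 1), (0, 4), (0, 3)],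
  [(2, 4), (0, 1), (1, 4), (0, 4), (2, 3), (0, 1), (0, 1), (0, 4), (0, 1), (0, 4), (0, 3), (0, 2), (0, 1), (0, 1), (0, 1), (0, 4), (0, 2), (0, 1), (1, 4), (0, 1), (0, 2), (0, 3), (0, 1), (2, 1), (0, 3), (0, 1), (0, 1), (0, 3), (1, 3), (0, 1), (0, 3), (0, 3), (1, 3), (0, 2), (0, 1), (0, 4), (0, 1), (0, 2), (0, 1), (0, 1), (0, 4), (0, 1), (0, 1), (0, 1), (0, 2), (1, 3), (0, 2), (0, 4), (0, 1), (0, 3), (1, 4), (0, 2), (1, 1), (0, 2), (0, 4), (0, 1), (0, 4), (0, 4), (0, 3), (0, 2), (0, 2), (0, 2), (0, 3), (0, 2), (0, 3), (0, 2), (0, 1), (1, 2), (2, 4), (0, 2), (1, 3), (0, 3), (0, 3), (0, 3), (0, 2), (0, 1), (0, 2), (0, 4), (0, 3), (1, 4), (1, 4), (0, 2), (0, 1), (1, 1), (0, 1), (1, 3), (0, 3), (1, 2)],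
  [(2, 2), (0, 3), (1, 2), (0, 2), (3, 3), (0, 3), (0, 2), (0, 1), (1, 4), (0, 2), (0, 3), (0, 3), (0, 1), (0, 2), (0, 1), (2, 2), (0, 3), (0, 1), (0, 1), (0, 3), (0, 3), (0, 4), (0, 1), (0, 2), (0, 4), (0, 3), (0, 4), (1, 4), (1, 4), (0, 4), (0, 2), (0, 4), (0, 1), (0, 4), (0, 1), (1, 3), (0, 3), (0, 3), (0, 2), (2, 3), (0, 2), (0, 1), (0, 1), (0, 2), (0, 4), (1, 3), (1, 4), (0, 1), (2, 1), (0, 4), (0, 4), (0, 2), (0, 2), (0, 1), (1, 3), (0, 1), (0, 3), (0, 2), (0, 1), (0, 1), (3, 1), (0, 1), (0, 1), (0, 2), (0, 2), (0, 4), (0, 2), (0, 1), (0, 2), (0, 3), (0, 2), (2, 4), (0, 3), (0, 4), (2, 4), (0, 1), (2, 4), (1, 2), (1, 1), (1, 2)],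
  [(2, 4), (0, 3), (1, 4), (0, 4), (3, 3), (2, 3), (0, 4), (0, 3), (0, 1), (0, 3), (0, 3), (0, 1), (0, 2), (0, 3), (0, 4), (0, 3), (1, 2), (0, 2), (0, 3), (0, 1), (0, 2), (0, 1), (0, 4), (0, 1), (0, 1), (0, 3), (1, 3), (0, 3), (0, 4), (0, 2), (0, 3), (0, 1), (0, 4), (0, 3), (0, 1), (0, 4), (0, 1), (0, 1), (0, 1), (0, 3), (0, 2), (2, 2), (0, 3), (0, 3), (0, 2), (1, 1), (0, 3), (0, 3), (0, 2), (0, 2), (0, 3), (0, 1), (1, 2), (0, 4), (0, 1), (0, 1), (0, 1), (0, 3), (0, 1), (1, 4), (0, 4), (0, 2), (0, 4), (2, 2), (0, 1), (0, 2), (0, 3), (0, 1), (4, 3), (0, 2), (0, 1), (0, 2), (0, 1), (1, 1), (0, 3), (0, 3), (2, 1), (0, 1), (0, 3), (1, 2), (1, 1), (0, 2), (0, 2), (0, 3)],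
  [(2, 1), (0, 3), (1, 1), (0, 1), (3, 4), (0, 2), (0, 1), (0, 2), (0, 3), (0, 4), (1, 4), (0, 2), (1, 3), (0, 1), (0, 4), (1, 3), (0, 4), (0, 3), (1, 4), (0, 4), (0, 1), (0, 3), (0, 1), (0, 4), (0, 4), (0, 1), (0, 1), (3, 4), (0, 4), (0, 3), (0, 1), (0, 1), (0, 2), (0, 1), (2, 2), (0, 4), (0, 1), (0, 4), (0, 2), (0, 1), (0, 1), (0, 1), (0, 4), (0, 4), (0, 2), (0, 3), (0, 1), (3, 1), (1, 2), (0, 3), (0, 1), (0, 3), (0, 2), (2, 3), (0, 3), (0, 4), (1, 4), (0, 4), (0, 1), (0, 2), (0, 2), (0, 2), (0, 3), (0, 4), (0, 2), (0, 2), (0, 1), (1, 4), (0, 2), (0, 1), (0, 4), (0, 4), (0, 3), (0, 3), (1, 3), (0, 2), (0, 1), (0, 3), (0, 1), (0, 2), (0, 1), (0, 2), (1, 3), (0, 3), (1, 4)],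
  [(2, 1), (0, 3), (0, 4), (0, 4), (0, 3), (3, 3), (0, 1), (0, 2), (0, 4), (0, 1), (0, 1), (1, 1), (0, 1), (0, 3), (0, 2), (0, 3), (0, 3), (0, 2), (0, 4), (0, 3), (1, 3), (0, 1), (0, 2), (0, 4), (0, 1), (1, 3), (0, 1), (0, 2), (0, 3), (0, 3), (0, 4), (0, 3), (0, 2), (0, 2), (0, 1), (0, 2), (0, 2), (0, 1), (0, 4), (0, 4), (0, 1), (0, 1), (0, 3), (0, 2), (0, 1), (0, 1), (0, 1), (0, 4), (0, 1), (0, 3), (0, 1), (0, 1), (0, 1), (0, 1), (1, 1), (0, 1), (1, 2), (0, 1), (0, 2), (0, 4), (0, 2), (0, 2), (0, 4), (0, 2), (0, 3), (0, 1), (0, 4), (0, 3), (0, 2), (0, 1), (0, 2), (0, 3), (0, 2), (0, 4), (0, 3), (1, 4), (0, 3), (0, 3), (0, 1), (0, 2), (0, 1), (0, 4), (0, 2), (0, 1), (0, 3), (1, 3), (1, 2), (0, 4), (0, 1), (0, 2), (0, 3), (0, 2), (1, 2), (0, 2), (0, 3), (0, 1), (0, 2)],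
  [(2, 1), (0, 1), (1, 1), (0, 1), (2, 1), (0, 4), (1, 1), (0, 3), (0, 2), (0, 3), (0, 2), (0, 4), (0, 3), (0, 2), (1, 2), (0, 3), (2, 4), (0, 4), (1, 3), (0, 4), (2, 4), (0, 2), (0, 2), (0, 4), (0, 3), (1, 1), (0, 1), (0, 3), (0, 4), (1, 1), (0, 2), (0, 3), (0, 1), (0, 3), (1, 3), (1, 2), (0, 3), (0, 2), (1, 2), (0, 1), (0, 3), (0, 1), (0, 3), (0, 3), (0, 3), (0, 4), (0, 4), (2, 4), (0, 3), (0, 3), (1, 2), (0, 4), (0, 1), (0, 3), (1, 1), (0, 1), (0, 3), (0, 3), (0, 1), (0, 3), (0, 3), (0, 3), (0, 4), (0, 1), (0, 4), (1, 3), (0, 1), (0, 1), (2, 2), (0, 3), (0, 3), (0, 2), (0, 1), (1, 1), (0, 4), (0, 4), (0, 1), (0, 2), (1, 4), (1, 3), (0, 1), (0, 3), (0, 3), (0, 1)],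
  [(4, 1), (0, 2), (0, 3), (2, 1), (0, 3), (0, 2), (1, 1), (0, 3), (0, 1), (0, 2), (1, 3), (0, 3), (0, 4), (0, 2), (0, 1), (0, 1), (1, 2), (0, 2), (1, 3), (0, 1), (0, 2), (0, 1), (1, 3), (0, 2), (0, 3), (0, 3), (0, 2), (0, 1), (2, 4), (0, 1), (0, 1), (0, 2), (0, 2), (0, 1), (0, 4), (0, 2), (0, 3), (0, 3), (1, 4), (0, 4), (0, 1), (0, 2), (3, 4), (0, 4), (1, 2), (0, 3), (0, 1), (0, 1), (0, 3), (0, 4), (1, 2), (4, 2), (0, 3), (0, 2), (1, 2), (0, 1), (0, 4), (0, 2), (1, 4), (0, 2), (1, 1), (1, 4), (0, 1), (0, 2), (0, 2), (1, 3), (0, 3), (0, 3), (0, 2), (0, 4), (0, 1), (0, 2), (1, 4), (0, 2), (1, 3), (0, 2), (0, 2), (0, 2), (0, 3), (0, 2)],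
  [(3, 1), (5, 1), (5, 3), (0, 1), (1, 2), (0, 3), (0, 4), (0, 2), (2, 3), (2, 3), (0, 4), (0, 1), (1, 3), (0, 3), (0, 4), (0, 1), (0, 4), (0, 4), (0, 2), (0, 3), (0, 2), (0, 3), (1, 4), (1, 1), (0, 4), (0, 3), (0, 3), (0, 4), (0, 2), (0, 2), (0, 1), (0, 4), (0, 4), (0, 4), (0, 3), (0, 2), (0, 4), (1, 4), (1, 4), (0, 4), (0, 3), (1, 2), (0, 4), (1, 2), (0, 3), (2, 3), (0, 2), (0, 3), (0, 2), (0, 1), (1, 4), (0, 1), (2, 2), (0, 3), (0, 3), (0, 4), (0, 2), (0, 1), (0, 4), (0, 1), (0, 2), (0, 4), (1, 4), (0, 4), (1, 1), (0, 1), (0, 3), (0, 1), (0, 4), (0, 2), (2, 4), (0, 2), (0, 4), (0, 1), (0, 1), (0, 4), (0, 1)],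
  [(2, 2), (0, 2), (1, 2), (0, 2), (3, 3), (0, 3), (0, 2), (0, 2), (1, 1), (0, 3), (0, 3), (0, 1), (1, 1), (0, 4), (0, 2), (1, 4), (0, 3), (1, 3), (1, 3), (0, 1), (0, 4), (0, 1), (0, 2), (0, 4), (0, 4), (0, 1), (0, 2), (0, 2), (0, 2), (0, 1), (3, 3), (0, 1), (3, 1), (1, 2), (0, 4), (1, 3), (0, 4), (0, 3), (0, 3), (1, 4), (0, 3), (0, 1), (0, 2), (0, 3), (1, 4), (0, 1), (1, 2), (0, 3), (0, 1), (0, 2), (0, 1), (0, 3), (0, 1), (2, 4), (0, 4), (0, 2), (0, 4), (0, 2), (0, 4), (0, 3), (0, 3), (0, 4), (0, 3), (0, 4), (0, 2), (0, 1), (0, 1), (0, 2), (0, 3), (1, 3), (0, 4), (0, 2), (0, 4), (1, 3), (2, 2), (0, 2), (0, 3), (0, 2), (0, 3), (1, 4), (0, 3), (0, 4)],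
  [(2, 1), (0, 4), (1, 1), (0, 1), (2, 2), (0, 4), (0, 4), (0, 1), (1, 1), (0, 2), (0, 4), (0, 4), (0, 4), (0, 3), (1, 3), (2, 1), (0, 4), (0, 2), (0, 4), (1, 3), (1, 3), (0, 3), (0, 3), (1, 1), (1, 1), (0, 4), (0, 2), (0, 2), (1, 2), (0, 2), (0, 3), (0, 4), (1, 4), (0, 3), (0, 4), (0, 1), (0, 4), (0, 1), (0, 4), (0, 2), (1, 3), (0, 3), (0, 1), (0, 2), (0, 3), (1, 4), (0, 3), (1, 2), (0, 3), (0, 3), (0, 2), (0, 1), (0, 2), (0, 1), (0, 3), (0, 4), (1, 2), (0, 2), (0, 1), (1, 3), (0, 1), (0, 3), (1, 4), (2, 3), (0, 4), (1, 1), (1, 1), (0, 3), (0, 1), (0, 4), (0, 3), (0, 1), (0, 1), (0, 2), (0, 1), (1, 1), (0, 1), (1, 1), (0, 4), (0, 4), (2, 3), (0, 3)],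
  [(2, 3), (2, 3), (0, 3), (2, 2), (0, 2), (0, 1), (0, 3), (0, 2), (0, 1), (1, 4), (0, 2), (0, 3), (0, 2), (0, 1), (1, 4), (1, 2), (0, 2), (0, 1), (0, 1), (0, 4), (0, 1), (0, 1), (0, 3), (0, 3), (0, 1), (0, 4), (0, 1), (0, 2), (1, 4), (0, 2), (1, 3), (0, 3), (2, 1), (0, 1), (1, 4), (0, 3), (0, 4), (0, 1), (0, 3), (0, 2), (2, 4), (0, 4), (0, 1), (0, 2), (0, 2), (0, 2), (1, 3), (1, 1), (0, 4), (0, 3), (1, 1), (0, 1), (1, 4), (0, 3), (1, 3), (1, 2), (0, 2), (1, 1), (0, 1), (1, 4), (0, 2), (0, 4), (1, 4), (0, 1), (1, 4), (0, 3), (1, 2), (0, 1), (0, 1), (3, 3), (0, 2), (0, 3), (0, 1), (1, 4), (0, 2), (0, 1), (0, 4), (0, 3), (0, 1), (0, 4)],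
  [(2, 3), (0, 2), (1, 3), (0, 3), (2, 4), (0, 2), (0, 2), (0, 3), (0, 4), (1, 1), (1, 2), (0, 2), (0, 3), (0, 3), (0, 4), (0, 2), (1, 3), (0, 2), (2, 3), (0, 1), (0, 1), (0, 4), (0, 2), (0, 2), (0, 1), (0, 1), (1, 2), (1, 1), (0, 1), (1, 1), (0, 1), (1, 2), (0, 4), (0, 3), (1, 2), (0, 3), (0, 3), (0, 1), (1, 3), (0, 4), (0, 4), (0, 2), (1, 3), (3, 4), (1, 2), (0, 4), (0, 4), (0, 2), (1, 4), (0, 4), (0, 3), (0, 2), (1, 2), (1, 2), (1, 3), (1, 3), (0, 1), (0, 2), (0, 2), (0, 3), (1, 4), (0, 2), (0, 2), (0, 1), (0, 4), (0, 1), (0, 2), (0, 3), (1, 4), (0, 4), (0, 3), (0, 1), (0, 2), (0, 1), (0, 1), (0, 4), (1, 4), (1, 4), (0, 4), (0, 1), (0, 2)],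
  [(2, 1), (0, 4), (1, 1), (0, 1), (2, 3), (0, 4), (0, 3), (0, 1), (0, 3), (1, 2), (1, 4), (0, 4), (0, 4), (0, 3), (0, 3), (2, 1), (0, 4), (0, 4), (0, 2), (1, 1), (0, 4), (0, 1), (1, 4), (0, 1), (3, 4), (0, 2), (0, 2), (0, 1), (0, 2), (0, 3), (0, 1), (0, 1), (0, 1), (0, 2), (0, 3), (0, 4), (0, 1), (0, 1), (1, 4), (0, 2), (0, 4), (0, 3), (0, 1), (0, 2), (0, 1), (0, 2), (1, 4), (0, 3), (1, 2), (0, 4), (0, 4), (0, 2), (0, 1), (0, 3), (0, 4), (0, 2), (1, 1), (0, 1), (0, 3), (0, 3), (0, 3), (0, 4), (0, 2), (0, 1), (0, 3), (1, 2), (1, 3), (1, 4), (0, 1), (0, 2), (0, 4), (0, 2), (0, 3), (0, 2), (0, 4), (0, 4), (0, 4), (0, 2), (0, 4), (0, 2), (0, 1), (0, 2), (0, 1), (0, 3), (0, 1), (0, 3), (1, 4), (0, 4)],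
  [(2, 4), (0, 4), (1, 4), (0, 4), (2, 1), (0, 1), (0, 1), (0, 4), (0, 1), (0, 1), (0, 2), (0, 3), (0, 1), (0, 2), (0, 2), (0, 1), (0, 3), (0, 3), (1, 3), (0, 1), (0, 3), (1, 3), (0, 3), (0, 4), (0, 4), (1, 1), (0, 2), (0, 3), (0, 2), (0, 4), (0, 2), (0, 4), (0, 2), (0, 1), (1, 2), (0, 3), (0, 4), (0, 4), (0, 4), (0, 3), (0, 2), (1, 3), (0, 1), (0, 1), (0, 2), (0, 1), (0, 2), (0, 2), (1, 3), (0, 2), (0, 2), (0, 4), (0, 1), (1, 4), (0, 3), (0, 2), (0, 1), (0, 4), (0, 3), (0, 3), (1, 1), (0, 1), (0, 4), (0, 4), (0, 2), (0, 2), (0, 1), (2, 2), (0, 2), (1, 3), (0, 4), (0, 4), (0, 4), (0, 4), (0, 2), (0, 1), (0, 1), (0, 1), (0, 3), (0, 1), (1, 2), (0, 4), (1, 2), (2, 1), (0, 3), (2, 1), (0, 1), (0, 1), (0, 4)],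
  [(2, 4), (0, 2), (1, 4), (0, 4), (2, 3), (0, 1), (0, 2), (0, 4), (0, 2), (0, 1), (0, 1), (1, 1), (0, 3), (0, 1), (1, 4), (2, 2), (0, 1), (0, 2), (0, 3), (0, 2), (0, 1), (0, 3), (0, 3), (0, 3), (2, 3), (0, 4), (0, 3), (2, 1), (1, 2), (0, 3), (0, 2), (0, 3), (0, 1), (1, 2), (0, 3), (0, 1), (1, 4), (0, 2), (2, 2), (1, 1), (0, 2), (0, 4), (0, 4), (0, 3), (2, 2), (1, 3), (0, 4), (0, 4), (0, 3), (0, 3), (0, 3), (0, 4), (0, 1), (0, 3), (0, 2), (0, 1), (3, 4), (0, 2), (0, 1), (0, 1), (0, 2), (0, 4), (0, 1), (3, 2), (0, 2), (0, 1), (0, 1), (0, 1), (0, 4), (0, 4), (1, 1), (0, 2), (0, 3), (0, 3), (0, 1), (1, 3), (0, 1), (1, 4), (0, 4), (0, 2)],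
  [(2, 2), (0, 3), (1, 2), (0, 2), (2, 1), (0, 3), (0, 3), (0, 2), (0, 3), (0, 3), (0, 4), (0, 1), (0, 3), (0, 3), (0, 2), (0, 3), (0, 1), (2, 2), (0, 3), (0, 2), (0, 4), (0, 3), (0, 4), (0, 1), (0, 3), (0, 4), (0, 2), (0, 4), (0, 3), (2, 4), (0, 4), (0, 4), (0, 3), (0, 4), (0, 1), (1, 4), (1, 4), (1, 3), (0, 2), (0, 2), (0, 4), (1, 2), (0, 1), (0, 4), (0, 3), (1, 2), (0, 2), (1, 1), (0, 1), (1, 2), (0, 2), (0, 2), (1, 2), (0, 2), (0, 1), (0, 4), (3, 2), (1, 3), (1, 2), (0, 2), (0, 1), (1, 3), (1, 1), (1, 4), (1, 2), (0, 3), (0, 4), (0, 1), (0, 2), (0, 3), (0, 4), (0, 4), (0, 3), (0, 2), (0, 1), (0, 1), (0, 2), (2, 3), (0, 1), (0, 3), (0, 4), (0, 1)],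
  [(2, 2), (0, 4), (1, 2), (0, 2), (2, 2), (0, 3), (0, 4), (0, 2), (0, 1), (1, 2), (0, 1), (0, 3), (1, 2), (0, 4), (0, 3), (0, 2), (2, 3), (0, 3), (0, 3), (0, 3), (0, 3), (0, 3), (0, 3), (0, 2), (0, 2), (0, 3), (0, 3), (0, 4), (0, 2), (0, 1), (0, 1), (0, 2), (0, 2), (0, 3), (1, 4), (0, 1), (0, 1), (1, 1), (1, 4), (0, 2), (0, 2), (0, 2), (0, 3), (0, 4), (0, 3), (1, 3), (0, 1), (0, 3), (0, 4), (0, 2), (0, 4), (1, 4), (0, 1), (0, 4), (0, 2), (0, 3), (0, 1), (0, 4), (0, 1), (0, 4), (1, 4), (0, 1), (0, 2), (0, 3), (0, 4), (1, 3), (0, 1), (0, 3), (1, 4), (1, 4), (0, 2), (0, 4), (0, 2), (0, 4), (0, 2), (1, 2), (0, 2), (2, 2), (2, 1), (0, 4), (0, 2), (0, 2), (0, 3), (0, 1), (0, 1), (0, 4)],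
  [(2, 1), (0, 3), (1, 1), (0, 1), (2, 3), (0, 3), (0, 3), (0, 3), (0, 1), (0, 1), (0, 2), (0, 1), (0, 3), (3, 3), (0, 2), (0, 1), (0, 1), (0, 1), (0, 3), (0, 3), (0, 1), (0, 4), (0, 1), (0, 4), (0, 3), (0, 2), (0, 3), (0, 3), (0, 1), (0, 3), (2, 2), (0, 4), (1, 1), (0, 2), (0, 2), (0, 2), (1, 4), (2, 1), (0, 3), (0, 3), (0, 1), (0, 2), (0, 1), (1, 1), (0, 1), (0, 4), (0, 1), (0, 1), (1, 4), (0, 3), (0, 4), (0, 2), (0, 1), (2, 3), (0, 2), (0, 3), (0, 4), (1, 2), (0, 4), (0, 4), (0, 1), (1, 1), (0, 2), (0, 1), (0, 1), (0, 4), (0, 4), (1, 4), (0, 2), (0, 2), (1, 3), (0, 2), (0, 3), (0, 4), (1, 3), (2, 4), (1, 3), (1, 4), (0, 4), (1, 1), (0, 3), (1, 2)],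
  [(2, 3), (0, 3), (1, 3), (0, 3), (2, 3), (0, 2), (0, 4), (0, 3), (0, 4), (1, 4), (0, 1), (0, 2), (0, 4), (0, 3), (1, 1), (0, 3), (1, 1), (0, 2), (0, 2), (0, 4), (0, 1), (1, 2), (0, 4), (0, 2), (0, 1), (0, 4), (0, 2), (0, 4), (0, 1), (0, 3), (0, 3), (0, 4), (2, 4), (0, 4), (0, 1), (0, 3), (0, 1), (1, 4), (1, 3), (0, 1), (0, 1), (0, 2), (0, 1), (1, 4), (0, 1), (0, 3), (0, 4), (0, 4), (0, 3), (0, 2), (2, 2), (2, 3), (0, 3), (0, 3), (0, 1), (0, 4), (0, 1), (0, 1), (0, 3), (0, 4), (1, 3), (0, 4), (0, 4), (0, 4), (0, 1), (0, 2), (1, 2), (1, 4), (0, 1), (0, 3), (0, 4), (0, 3), (0, 1), (0, 3), (0, 2), (0, 3), (0, 1), (0, 3), (0, 2), (0, 2), (0, 4), (2, 4), (0, 3), (0, 3), (0, 1), (0, 2), (0, 1)],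
  [(2, 2), (0, 4), (1, 2), (0, 2), (3, 3), (0, 2), (0, 2), (0, 1), (0, 1), (0, 2), (0, 2), (0, 3), (1, 1), (1, 3), (3, 3), (0, 1), (0, 2), (0, 4), (0, 2), (0, 1), (0, 3), (0, 4), (0, 4), (1, 1), (0, 4), (0, 4), (0, 1), (0, 1), (0, 2), (0, 1), (0, 3), (1, 1), (0, 4), (0, 2), (0, 1), (2, 4), (0, 3), (0, 2), (1, 2), (0, 2), (0, 3), (1, 1), (0, 4), (0, 3), (0, 4), (0, 3), (0, 4), (2, 1), (1, 4), (0, 3), (0, 4), (0, 1), (0, 4), (0, 1), (1, 4), (0, 1), (0, 4), (0, 4), (0, 4), (0, 4), (0, 4), (0, 3), (1, 4), (1, 4), (0, 3), (0, 4), (0, 3), (1, 1), (0, 3), (0, 1), (1, 2), (0, 2), (0, 1), (0, 3), (0, 3), (1, 1), (0, 2), (0, 4), (1, 4), (0, 2), (0, 3), (0, 4), (0, 3), (0, 4)],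
  [(2, 3), (0, 4), (1, 3), (0, 3), (2, 3), (0, 1), (0, 2), (0, 4), (2, 3), (0, 1), (0, 1), (0, 4), (1, 4), (0, 1), (0, 3), (0, 4), (0, 1), (1, 1), (0, 1), (0, 2), (0, 3), (0, 2), (0, 4), (0, 2), (0, 3), (1, 2), (0, 3), (0, 3), (2, 3), (0, 2), (0, 3), (0, 1), (1, 2), (0, 3), (0, 4), (0, 1), (0, 4), (0, 4), (1, 2), (0, 1), (0, 3), (0, 4), (0, 3), (0, 3), (0, 3), (0, 4), (0, 4), (0, 3), (0, 1), (1, 4), (0, 2), (0, 1), (0, 1), (0, 2), (1, 1), (0, 3), (1, 2), (1, 2), (0, 3), (0, 2), (0, 1), (0, 4), (0, 4), (0, 3), (0, 4), (0, 3), (0, 2), (0, 2), (0, 3), (0, 2), (0, 1), (0, 3), (1, 4), (0, 3), (0, 1), (0, 2), (1, 3), (0, 4), (0, 4), (0, 2), (0, 4), (0, 4), (1, 1), (0, 4), (0, 3), (0, 1), (0, 3), (1, 4), (0, 1)],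
  [(2, 3), (0, 3), (1, 1), (3, 2), (0, 2), (0, 3), (0, 2), (0, 2), (0, 2), (0, 1), (0, 1), (1, 2), (0, 4), (1, 2), (2, 4), (0, 1), (0, 2), (0, 2), (1, 1), (0, 3), (0, 1), (0, 1), (1, 2), (0, 1), (0, 2), (1, 1), (0, 4), (1, 2), (0, 2), (0, 1), (0, 4), (1, 3), (0, 4), (0, 4), (0, 2), (0, 1), (0, 1), (0, 2), (0, 2), (0, 1), (0, 2), (0, 2), (1, 1), (0, 4), (0, 2), (0, 1), (0, 2), (0, 2), (0, 4), (0, 1), (0, 2), (0, 2), (0, 2), (0, 3), (0, 1), (0, 4), (0, 4), (0, 3), (1, 4), (2, 4), (1, 1), (2, 2), (1, 3), (0, 1), (0, 3), (0, 1), (0, 1), (0, 4), (0, 4), (1, 3), (0, 2), (0, 4), (0, 2), (0, 4), (0, 3), (0, 4), (0, 4), (0, 1), (0, 3), (0, 3), (0, 3), (0, 4), (0, 1), (0, 3), (0, 4), (0, 3), (0, 4)],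
  [(2, 4), (0, 1), (1, 4), (0, 4), (2, 3), (0, 1), (1, 4), (0, 3), (1, 3), (0, 2), (0, 1), (0, 1), (0, 1), (1, 2), (0, 2), (1, 4), (0, 1), (0, 4), (2, 4), (0, 1), (0, 4), (0, 1), (0, 1), (0, 2), (0, 4), (1, 1), (0, 3), (0, 3), (0, 3), (0, 4), (0, 3), (0, 2), (0, 4), (0, 4), (0, 3), (0, 4), (0, 4), (0, 1), (0, 4), (0, 1), (0, 1), (1, 4), (0, 2), (0, 2), (1, 1), (0, 1), (0, 4), (2, 2), (2, 4), (0, 4), (0, 3), (0, 1), (0, 2), (0, 4), (0, 1), (0, 2), (0, 2), (0, 2), (0, 4), (0, 2), (0, 1), (0, 1), (1, 2), (0, 4), (0, 2), (0, 4), (1, 1), (0, 2), (0, 2), (0, 4), (0, 4), (1, 2), (1, 3), (0, 2), (1, 4), (0, 2), (0, 4), (0, 1), (0, 3), (0, 3), (0, 3), (0, 2), (0, 4), (1, 3), (1, 3), (0, 1)],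
  [(3, 4), (0, 1), (0, 4), (0, 2), (4, 4), (0, 4), (0, 2), (0, 1), (1, 1), (0, 4), (2, 4), (0, 2), (0, 4), (0, 2), (0, 2), (0, 3), (0, 4), (0, 4), (0, 3), (0, 4), (1, 1), (2, 1), (0, 4), (0, 4), (0, 4), (0, 3), (0, 1), (0, 2), (1, 4), (0, 1), (0, 2), (0, 4), (2, 3), (0, 2), (0, 4), (0, 3), (0, 1), (0, 4), (0, 3), (1, 1), (0, 2), (0, 3), (0, 3), (0, 4), (0, 3), (0, 2), (0, 3), (0, 1), (0, 2), (0, 3), (0, 1), (0, 3), (0, 4), (0, 3), (0, 1), (0, 4), (1, 3), (0, 1), (1, 4), (1, 1), (3, 1), (0, 1), (0, 2), (0, 4), (1, 2), (0, 2), (0, 4), (0, 3), (0, 3), (0, 2), (1, 4), (0, 3), (0, 1), (0, 3), (0, 2), (1, 1), (0, 4), (0, 2), (0, 2), (1, 2), (0, 1), (0, 1), (0, 3)],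
  [(2, 1), (0, 1), (1, 1), (0, 1), (2, 4), (0, 4), (0, 2), (0, 1), (1, 3), (0, 3), (0, 3), (0, 4), (0, 3), (0, 3), (0, 3), (0, 2), (0, 1), (1, 2), (0, 4), (1, 4), (0, 2), (0, 1), (0, 2), (0, 4), (0, 1), (0, 1), (0, 4), (0, 2), (0, 3), (1, 1), (0, 1), (0, 3), (2, 4), (0, 2), (0, 1), (0, 1), (1, 2), (0, 3), (3, 1), (0, 2), (0, 4), (0, 1), (0, 1), (0, 1), (0, 2), (1, 3), (0, 4), (0, 4), (1, 4), (0, 1), (0, 3), (0, 4), (1, 2), (0, 2), (0, 3), (1, 4), (0, 1), (0, 3), (0, 3), (0, 2), (0, 4), (2, 2), (0, 1), (0, 4), (0, 3), (0, 2), (1, 3), (2, 1), (0, 3), (0, 1), (0, 2), (0, 2), (0, 2), (0, 3), (0, 4), (0, 1), (0, 4), (0, 3), (0, 4), (0, 1), (1, 4), (0, 4), (0, 4), (0, 2), (0, 4)],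
  [(3, 4), (5, 2), (3, 4), (0, 3), (0, 2), (0, 1), (1, 3), (0, 1), (0, 2), (0, 3), (0, 4), (1, 2), (1, 1), (1, 3), (0, 1), (0, 3), (0, 2), (0, 4), (1, 3), (0, 2), (0, 1), (1, 3), (0, 3), (0, 2), (0, 3), (0, 1), (0, 3), (0, 1), (2, 2), (1, 3), (0, 3), (0, 1), (1, 3), (0, 2), (0, 4), (0, 1), (0, 4), (0, 2), (0, 2), (0, 3), (0, 1), (0, 1), (0, 2), (1, 3), (0, 4), (0, 1), (0, 2), (0, 2), (1, 2), (0, 2), (0, 3), (0, 4), (0, 4), (0, 3), (0, 3), (0, 2), (0, 1), (1, 1), (0, 1), (0, 1), (0, 1), (0, 4), (0, 4), (0, 3), (1, 3), (0, 3), (0, 3), (0, 3), (0, 2), (0, 1), (0, 3), (0, 2), (0, 4), (1, 3), (0, 4), (0, 2), (0, 4), (0, 3), (0, 1), (1, 1), (1, 3), (0, 4), (0, 4)],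
  [(3, 4), (5, 2), (1, 3), (1, 4), (0, 1), (0, 2), (0, 1), (1, 3), (0, 2), (0, 1), (0, 3), (0, 2), (1, 2), (1, 3), (0, 2), (0, 3), (0, 2), (0, 2), (0, 1), (0, 2), (1, 1), (0, 2), (0, 1), (0, 2), (0, 1), (0, 3), (0, 2), (0, 2), (0, 1), (0, 4), (1, 3), (1, 1), (0, 4), (0, 3), (0, 3), (2, 4), (0, 1), (1, 1), (0, 4), (0, 3), (0, 1), (1, 1), (0, 2), (0, 2), (1, 2), (1, 3), (0, 2), (0, 3), (0, 3), (1, 1), (1, 2), (0, 1), (0, 2), (0, 1), (0, 1), (0, 4), (0, 4), (0, 4), (0, 2), (0, 3), (1, 1), (0, 4), (0, 4), (0, 3), (0, 2), (0, 3), (1, 2), (0, 2), (0, 3), (0, 2), (0, 3), (0, 3), (0, 2), (0, 3), (0, 1), (0, 1), (0, 2), (0, 2), (1, 2), (0, 2), (0, 4), (0, 4), (0, 4), (0, 1)],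
  [(2, 2), (0, 3), (1, 2), (0, 2), (3, 3), (0, 3), (0, 2), (0, 2), (0, 4), (0, 4), (1, 3), (0, 3), (0, 2), (0, 2), (0, 1), (0, 2), (1, 2), (0, 3), (0, 3), (0, 2), (0, 2), (0, 2), (0, 1), (0, 4), (0, 2), (0, 2), (0, 4), (0, 3), (1, 3), (0, 3), (0, 4), (0, 4), (0, 1), (0, 4), (2, 4), (0, 3), (0, 2), (0, 1), (0, 3), (0, 2), (0, 1), (0, 4), (1, 1), (1, 2), (0, 4), (0, 1), (0, 4), (3, 1), (1, 1), (1, 2), (1, 2), (2, 3), (1, 4), (0, 4), (0, 3), (0, 1), (0, 2), (0, 1), (0, 4), (0, 3), (1, 4), (0, 2), (0, 3), (0, 3), (0, 3), (0, 1), (0, 2), (0, 4), (0, 3), (0, 3), (0, 1), (1, 1), (0, 2), (0, 1), (0, 2), (0, 2), (0, 1), (0, 1), (0, 1), (1, 1), (1, 4), (0, 3), (0, 4), (0, 4), (0, 4)],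
  [(2, 4), (0, 2), (1, 4), (0, 4), (2, 4), (0, 1), (0, 1), (0, 4), (0, 4), (0, 1), (0, 1), (0, 4), (0, 1), (0, 3), (0, 1), (0, 3), (0, 4), (2, 2), (0, 1), (0, 1), (0, 3), (0, 4), (0, 4), (0, 2), (0, 2), (0, 3), (0, 2), (0, 1), (0, 4), (0, 4), (0, 2), (2, 1), (0, 4), (0, 2), (1, 4), (0, 1), (0, 3), (0, 2), (1, 3), (0, 1), (0, 2), (0, 1), (0, 4), (0, 4), (1, 2), (1, 2), (0, 2), (0, 4), (0, 4), (0, 1), (2, 3), (0, 3), (1, 1), (0, 2), (0, 2), (2, 1), (2, 3), (0, 2), (0, 3), (0, 3), (0, 3), (0, 1), (1, 2), (1, 3), (0, 3), (0, 2), (0, 1), (0, 4), (0, 3), (0, 3), (0, 1), (1, 2), (0, 3), (0, 2), (0, 2), (0, 1), (0, 2), (0, 4), (0, 4), (0, 4), (0, 1), (1, 4), (1, 2), (0, 4), (0, 3), (0, 1)],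
  [(3, 2), (7, 4), (1, 1), (0, 3), (0, 1), (0, 2), (1, 4), (0, 3), (0, 3), (0, 4), (2, 1), (2, 4), (0, 1), (1, 2), (0, 2), (0, 1), (0, 2), (0, 2), (0, 3), (0, 3), (0, 4), (0, 3), (0, 4), (0, 1), (0, 4), (0, 3), (0, 1), (0, 1), (0, 1), (1, 3), (0, 4), (0, 4), (0, 4), (1, 3), (0, 3), (1, 1), (0, 1), (0, 3), (0, 4), (0, 4), (0, 2), (0, 3), (0, 2), (0, 1), (1, 2), (1, 3), (0, 4), (1, 3), (1, 4), (0, 3), (0, 4), (0, 1), (0, 4), (0, 4), (0, 3), (0, 2), (0, 2), (0, 2), (0, 2), (1, 1), (0, 3), (0, 1), (0, 4), (0, 2), (1, 1), (0, 4), (0, 3), (0, 3), (0, 2), (0, 2), (0, 4), (0, 1), (0, 1), (0, 1), (0, 3), (0, 4), (0, 3), (0, 1), (1, 2), (1, 4), (0, 2), (0, 2), (0, 2)],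
  [(2, 4), (0, 1), (0, 1), (0, 2), (0, 2), (2, 3), (0, 3), (0, 4), (0, 1), (0, 1), (0, 1), (0, 1), (0, 4), (0, 1), (0, 4), (0, 1), (0, 3), (0, 1), (0, 2), (1, 4), (0, 2), (1, 4), (1, 1), (1, 3), (0, 2), (0, 4), (1, 3), (0, 3), (0, 3), (0, 2), (0, 4), (0, 3), (0, 4), (2, 3), (0, 2), (0, 4), (1, 4), (1, 4), (0, 2), (0, 1), (0, 2), (0, 1), (1, 2), (0, 4), (0, 4), (1, 2), (0, 2), (1, 3), (0, 1), (0, 3), (0, 3), (1, 3), (1, 4), (0, 1), (0, 2), (0, 2), (0, 1), (1, 3), (0, 1), (2, 1), (0, 2), (0, 4), (0, 3), (0, 3), (0, 3), (0, 1), (0, 1), (0, 3), (0, 2), (1, 4), (0, 1), (0, 4), (0, 4), (0, 1), (0, 1), (1, 1), (0, 4), (1, 2), (0, 2), (0, 3), (0, 4), (0, 3), (0, 4), (1, 3), (0, 1)],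
  [(2, 2), (1, 3), (0, 4), (0, 3), (3, 2), (1, 1), (0, 3), (0, 1), (0, 3), (0, 4), (0, 4), (0, 4), (0, 4), (1, 4), (0, 2), (0, 2), (0, 4), (0, 4), (0, 4), (0, 4), (0, 4), (0, 1), (0, 4), (1, 1), (1, 1), (0, 1), (0, 2), (0, 3), (0, 3), (0, 2), (0, 4), (0, 1), (2, 4), (0, 3), (0, 1), (0, 3), (2, 1), (0, 3), (0, 3), (0, 1), (0, 3), (0, 4), (0, 2), (0, 4), (3, 4), (0, 4), (1, 4), (0, 1), (1, 4), (0, 2), (2, 2), (0, 1), (0, 3), (0, 3), (0, 3), (1, 4), (0, 4), (0, 1), (1, 4), (0, 3), (2, 1), (0, 4), (1, 1), (0, 1), (0, 1), (0, 4), (0, 2), (0, 3), (0, 2), (0, 2), (0, 3), (0, 1), (0, 4), (0, 4), (0, 3), (0, 1), (0, 1), (0, 3), (0, 2), (0, 2), (0, 2), (0, 2), (0, 1), (0, 2)],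
  [(2, 2), (0, 1), (1, 2), (0, 2), (3, 3), (0, 2), (0, 2), (0, 4), (1, 3), (0, 2), (0, 3), (0, 4), (0, 3), (0, 2), (0, 2), (0, 1), (1, 1), (0, 3), (0, 2), (0, 4), (0, 4), (0, 2), (0, 2), (4, 3), (0, 2), (0, 2), (0, 1), (1, 3), (0, 2), (0, 1), (2, 4), (0, 3), (1, 4), (0, 4), (0, 3), (0, 2), (0, 1), (0, 3), (0, 2), (0, 2), (0, 4), (0, 2), (0, 2), (0, 2), (0, 1), (0, 2), (4, 1), (0, 4), (1, 3), (0, 2), (0, 1), (0, 3), (0, 1), (0, 2), (0, 4), (1, 1), (0, 4), (0, 2), (0, 3), (0, 4), (0, 4), (0, 1), (0, 4), (1, 2), (0, 4), (0, 2), (0, 4), (0, 3), (0, 2), (0, 2), (1, 4), (0, 1), (0, 1), (0, 1), (0, 4), (0, 2), (0, 2), (0, 2), (0, 4), (0, 3), (0, 3), (0, 4), (0, 2), (0, 2), (0, 1), (0, 2), (0, 1)],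
  [(2, 4), (0, 4), (1, 4), (0, 4), (2, 2), (0, 1), (1, 4), (0, 1), (0, 1), (0, 2), (0, 1), (0, 1), (0, 2), (0, 3), (0, 2), (0, 3), (0, 3), (1, 3), (0, 1), (0, 3), (0, 4), (2, 1), (1, 2), (1, 1), (0, 3), (0, 2), (0, 2), (0, 3), (0, 4), (0, 2), (0, 2), (1, 2), (1, 3), (1, 1), (0, 3), (0, 2), (1, 3), (0, 1), (0, 1), (0, 4), (0, 2), (0, 1), (1, 1), (0, 1), (1, 2), (0, 4), (0, 1), (1, 4), (0, 1), (1, 1), (0, 1), (0, 2), (0, 3), (0, 4), (1, 1), (0, 4), (0, 1), (1, 3), (0, 1), (0, 1), (0, 3), (0, 2), (0, 4), (0, 4), (1, 1), (0, 4), (1, 3), (0, 1), (0, 2), (0, 4), (0, 2), (2, 4), (0, 3), (0, 4), (0, 3), (1, 3), (0, 4), (1, 2), (1, 4), (1, 4), (0, 3), (0, 2)],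
  [(2, 2), (0, 4), (1, 2), (0, 2), (2, 3), (0, 3), (0, 3), (0, 2), (0, 3), (0, 2), (0, 2), (0, 1), (0, 3), (1, 1), (1, 3), (0, 4), (2, 3), (0, 4), (1, 3), (0, 2), (0, 3), (0, 4), (1, 2), (1, 2), (0, 4), (0, 2), (0, 1), (0, 1), (0, 2), (0, 3), (0, 3), (0, 4), (0, 4), (0, 3), (0, 2), (0, 4), (0, 1), (1, 4), (0, 2), (0, 4), (0, 3), (0, 1), (0, 1), (0, 2), (0, 3), (1, 2), (0, 4), (0, 4), (1, 4), (1, 3), (0, 3), (0, 3), (0, 3), (0, 2), (2, 2), (0, 3), (0, 3), (0, 3), (0, 4), (1, 1), (0, 1), (0, 3), (0, 4), (0, 2), (1, 2), (0, 3), (0, 2), (0, 1), (2, 2), (1, 3), (0, 2), (0, 4), (0, 3), (0, 3), (0, 3), (0, 4), (0, 1), (1, 3), (1, 2), (0, 1), (1, 4), (0, 1), (0, 3), (1, 3)],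
  [(2, 4), (0, 4), (1, 4), (0, 4), (3, 1), (0, 4), (0, 4), (0, 1), (0, 3), (0, 2), (1, 1), (0, 2), (1, 4), (0, 3), (2, 3), (0, 1), (2, 4), (2, 4), (1, 3), (0, 2), (0, 1), (0, 2), (1, 1), (0, 4), (0, 2), (0, 4), (1, 4), (0, 1), (0, 3), (0, 3), (1, 1), (0, 2), (3, 3), (0, 1), (0, 3), (0, 2), (0, 2), (1, 1), (0, 2), (0, 2), (0, 4), (0, 1), (1, 3), (0, 3), (0, 3), (0, 2), (0, 4), (0, 2), (0, 4), (0, 1), (0, 2), (0, 4), (0, 4), (0, 3), (0, 2), (0, 2), (0, 1), (1, 3), (0, 2), (0, 2), (0, 2), (0, 3), (1, 2), (0, 1), (0, 4), (0, 2), (0, 2), (0, 3), (0, 3), (0, 1), (0, 1), (0, 4), (0, 1), (0, 3), (1, 4), (0, 1), (0, 2), (0, 3), (1, 3), (0, 4), (0, 4), (0, 2), (0, 1)],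
  [(2, 1), (2, 1), (0, 1), (3, 4), (0, 4), (0, 1), (0, 1), (2, 4), (0, 4), (0, 1), (0, 3), (0, 2), (1, 2), (1, 4), (0, 4), (0, 4), (1, 4), (0, 3), (1, 3), (0, 4), (1, 1), (0, 3), (0, 4), (0, 3), (0, 2), (0, 4), (2, 1), (1, 1), (0, 1), (0, 2), (0, 3), (0, 4), (0, 1), (0, 3), (0, 4), (0, 2), (0, 3), (0, 2), (0, 4), (0, 3), (0, 1), (0, 4), (0, 1), (0, 3), (0, 4), (0, 4), (0, 1), (1, 2), (1, 4), (0, 4), (0, 4), (0, 2), (0, 3), (1, 1), (0, 1), (0, 2), (1, 1), (0, 4), (0, 4), (2, 2), (2, 4), (0, 1), (0, 4), (0, 3), (0, 3), (0, 2), (1, 1), (0, 3), (0, 2), (0, 2), (0, 4), (1, 4), (0, 2), (2, 2), (1, 3), (0, 4), (1, 1), (1, 1)],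
  [(2, 4), (0, 2), (1, 4), (0, 4), (2, 3), (0, 1), (0, 4), (0, 4), (0, 2), (1, 1), (0, 1), (0, 1), (0, 3), (0, 1), (1, 4), (0, 4), (1, 2), (0, 1), (0, 3), (0, 4), (0, 4), (0, 3), (0, 2), (0, 2), (0, 2), (0, 1), (1, 4), (0, 4), (0, 3), (0, 2), (1, 1), (1, 2), (0, 3), (0, 3), (0, 2), (0, 4), (0, 4), (1, 3), (0, 1), (0, 4), (0, 3), (0, 1), (1, 3), (0, 2), (0, 1), (1, 1), (1, 4), (0, 3), (3, 3), (0, 2), (0, 3), (0, 1), (0, 4), (0, 2), (0, 3), (0, 4), (1, 1), (0, 4), (1, 3), (0, 4), (1, 1), (0, 4), (0, 4), (1, 4), (0, 2), (0, 2), (1, 4), (1, 1), (0, 4), (1, 4), (0, 1), (1, 3), (2, 1), (0, 3), (0, 3), (4, 3), (1, 4)],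
  [(3, 3), (5, 2), (1, 1), (1, 2), (0, 3), (0, 4), (2, 1), (0, 4), (0, 3), (0, 1), (0, 4), (1, 4), (2, 4), (0, 1), (0, 1), (0, 4), (1, 4), (0, 3), (0, 2), (0, 2), (0, 2), (0, 2), (0, 1), (0, 1), (0, 4), (1, 2), (0, 2), (0, 4), (0, 3), (0, 3), (0, 1), (0, 2), (0, 1), (0, 1), (0, 2), (0, 3), (0, 4), (2, 2), (1, 3), (2, 2), (0, 3), (0, 4), (1, 4), (1, 3), (1, 4), (0, 1), (0, 4), (0, 3), (0, 4), (0, 2), (0, 4), (0, 1), (0, 4), (1, 1), (0, 4), (0, 2), (0, 4), (0, 1), (0, 1), (0, 3), (0, 2), (0, 3), (0, 3), (0, 1), (0, 4), (0, 1), (0, 2), (0, 4), (0, 1), (0, 2), (0, 3), (0, 4), (2, 2), (0, 2), (0, 3), (0, 2), (0, 2), (0, 1), (0, 3), (0, 4), (0, 3), (0, 4)],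
  [(2, 3), (0, 3), (1, 3), (0, 3), (2, 1), (0, 2), (1, 3), (0, 3), (0, 2), (0, 4), (0, 4), (0, 2), (0, 4), (1, 1), (0, 1), (0, 1), (1, 1), (0, 2), (0, 3), (0, 3), (0, 3), (0, 3), (0, 1), (0, 3), (0, 2), (1, 1), (0, 3), (0, 4), (0, 4), (0, 1), (0, 3), (0, 4), (0, 2), (1, 2), (1, 1), (1, 2), (0, 4), (0, 4), (1, 2), (1, 2), (1, 1), (0, 3), (0, 3), (0, 1), (0, 2), (1, 4), (0, 3), (0, 2), (1, 1), (0, 3), (0, 4), (1, 3), (0, 3), (1, 2), (0, 2), (1, 1), (0, 4), (0, 1), (1, 4), (0, 3), (0, 3), (1, 3), (0, 1), (0, 3), (0, 2), (0, 4), (0, 3), (0, 4), (0, 2), (0, 1), (0, 2), (0, 3), (0, 2), (1, 2), (3, 1), (0, 2), (1, 4), (0, 2), (0, 3), (0, 4), (0, 2), (0, 2), (0, 4), (0, 3)],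
  [(2, 1), (0, 3), (1, 1), (0, 1), (2, 4), (0, 4), (0, 4), (0, 1), (1, 2), (0, 4), (0, 4), (0, 4), (0, 2), (0, 4), (0, 3), (0, 1), (0, 3), (1, 3), (0, 4), (0, 2), (0, 3), (0, 1), (0, 4), (0, 1), (0, 2), (0, 2), (0, 2), (1, 2), (0, 1), (0, 1), (0, 2), (1, 4), (0, 4), (0, 3), (0, 3), (2, 2), (0, 2), (0, 1), (0, 2), (0, 4), (1, 2), (0, 2), (0, 2), (0, 3), (0, 2), (0, 2), (0, 1), (0, 3), (0, 3), (0, 1), (0, 3), (4, 3), (0, 4), (0, 2), (1, 1), (0, 3), (0, 4), (0, 4), (1, 4), (0, 3), (1, 4), (0, 2), (1, 4), (1, 2), (0, 3), (0, 2), (1, 1), (0, 1), (0, 2), (0, 3), (0, 1), (2, 1), (0, 4), (0, 4), (0, 1), (0, 4), (0, 4), (0, 3), (0, 4), (0, 3), (0, 2), (0, 3), (0, 4), (0, 1), (0, 3), (0, 2), (0, 3)],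
  [(9, 1), (1, 3), (2, 4), (1, 3), (2, 2), (0, 1), (1, 4), (3, 1), (0, 1), (1, 2), (0, 2), (0, 1), (0, 2), (0, 1), (0, 1), (0, 1), (1, 3), (0, 4), (2, 4), (1, 3), (0, 1), (0, 3), (0, 1), (1, 3), (2, 1), (2, 4), (0, 4), (0, 4), (0, 3), (0, 2), (1, 3), (1, 1), (2, 4), (0, 1), (0, 2), (0, 2), (0, 2), (1, 1), (0, 4), (0, 1), (0, 2), (0, 1), (1, 2), (0, 1), (0, 1), (0, 1), (0, 3), (0, 2), (1, 3), (1, 4), (0, 4), (0, 3), (0, 3), (0, 4), (0, 4), (0, 2), (0, 3), (0, 1), (0, 2), (0, 3), (0, 1), (0, 2), (2, 2), (0, 2), (0, 4), (0, 3), (0, 3), (0, 2), (0, 3), (0, 3), (0, 1), (0, 3)],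
  [(2, 2), (2, 2), (0, 2), (2, 2), (1, 1), (0, 3), (0, 2), (0, 3), (0, 4), (2, 1), (1, 2), (0, 4), (0, 4), (0, 3), (0, 1), (0, 4), (0, 2), (0, 2), (0, 4), (0, 3), (1, 3), (1, 3), (0, 1), (0, 4), (0, 3), (0, 3), (0, 4), (0, 3), (0, 4), (0, 1), (0, 3), (0, 3), (0, 1), (0, 4), (0, 3), (0, 4), (0, 4), (0, 1), (0, 4), (0, 1), (0, 3), (1, 4), (0, 1), (0, 3), (1, 3), (0, 2), (1, 3), (0, 3), (0, 2), (1, 1), (0, 2), (0, 2), (0, 1), (0, 4), (0, 4), (0, 2), (0, 1), (0, 4), (0, 2), (0, 2), (1, 2), (0, 2), (0, 1), (0, 4), (1, 4), (0, 3), (0, 3), (0, 3), (1, 4), (0, 3), (0, 4), (0, 3), (0, 3), (0, 2), (2, 3), (0, 2), (0, 2), (0, 1), (0, 4), (0, 1), (0, 3), (0, 1), (0, 3), (0, 1), (0, 2), (0, 3), (0, 1), (0, 4), (0, 2)],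
  [(2, 2), (0, 2), (1, 2), (0, 2), (3, 3), (0, 2), (0, 2), (0, 1), (0, 1), (0, 1), (1, 3), (0, 1), (2, 4), (0, 3), (1, 4), (0, 3), (0, 2), (0, 4), (1, 3), (0, 2), (0, 1), (2, 4), (0, 2), (0, 1), (0, 4), (0, 3), (0, 2), (0, 1), (0, 1), (1, 3), (0, 2), (0, 3), (0, 1), (0, 2), (0, 2), (0, 1), (1, 2), (0, 1), (1, 2), (1, 4), (0, 1), (0, 2), (1, 3), (0, 1), (1, 3), (1, 2), (0, 1), (0, 2), (0, 1), (0, 4), (0, 3), (1, 2), (0, 3), (0, 4), (0, 2), (0, 4), (0, 2), (1, 2), (1, 2), (0, 2), (0, 4), (0, 3), (2, 4), (1, 3), (0, 1), (0, 2), (1, 1), (0, 2), (0, 2), (1, 4), (1, 2), (0, 4), (0, 1), (0, 3), (1, 4), (0, 4), (0, 4), (0, 2), (0, 2), (0, 1), (0, 4)],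
  [(2, 3), (0, 1), (1, 3), (0, 3), (2, 1), (0, 2), (0, 1), (0, 2), (0, 4), (1, 3), (0, 3), (0, 2), (1, 4), (0, 3), (0, 2), (1, 4), (0, 1), (0, 4), (0, 4), (1, 3), (1, 1), (0, 3), (0, 1), (1, 4), (0, 2), (0, 1), (0, 3), (0, 2), (0, 4), (0, 3), (0, 3), (0, 2), (0, 4), (1, 3), (2, 4), (1, 1), (0, 4), (0, 2), (0, 3), (0, 2), (0, 2), (1, 2), (0, 1), (0, 3), (0, 4), (0, 1), (0, 3), (0, 1), (1, 3), (0, 2), (0, 2), (0, 3), (0, 2), (0, 3), (0, 1), (0, 4), (0, 2), (0, 1), (0, 4), (0, 2), (0, 2), (1, 1), (1, 2), (0, 3), (1, 2), (0, 2), (0, 2), (0, 2), (0, 3), (0, 4), (0, 4), (0, 4), (0, 3), (0, 4), (0, 2), (1, 4), (0, 2), (0, 2), (0, 4), (0, 3), (0, 2), (1, 4), (0, 3), (0, 4), (0, 3), (0, 3), (0, 2), (0, 4)],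
  [(2, 2), (0, 4), (1, 2), (0, 2), (2, 4), (0, 1), (0, 1), (0, 1), (0, 2), (0, 4), (0, 3), (0, 2), (0, 1), (0, 2), (0, 4), (0, 2), (0, 1), (1, 2), (0, 1), (0, 2), (1, 1), (0, 4), (0, 2), (0, 2), (0, 3), (0, 1), (0, 4), (3, 1), (1, 1), (0, 3), (2, 2), (0, 1), (0, 4), (0, 2), (0, 1), (0, 4), (0, 2), (2, 3), (0, 3), (0, 3), (0, 1), (1, 1), (1, 2), (0, 1), (0, 3), (0, 1), (0, 4), (0, 4), (0, 1), (3, 4), (0, 4), (1, 1), (0, 3), (1, 4), (1, 2), (2, 2), (1, 3), (0, 1), (1, 3), (0, 2), (0, 2), (0, 3), (1, 3), (0, 1), (0, 1), (0, 1), (0, 2), (0, 3), (0, 2), (0, 3), (0, 1), (0, 1), (0, 1), (2, 3), (0, 1), (1, 1), (0, 2), (0, 1), (0, 4), (0, 1)],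
  [(2, 2), (2, 2), (0, 2), (2, 3), (0, 3), (0, 4), (0, 2), (0, 2), (0, 1), (1, 3), (0, 3), (0, 2), (0, 4), (2, 1), (1, 3), (0, 3), (1, 2), (0, 1), (0, 3), (0, 3), (0, 2), (0, 2), (0, 4), (0, 2), (0, 4), (0, 3), (0, 2), (0, 4), (0, 3), (1, 3), (0, 2), (2, 4), (0, 1), (0, 1), (0, 2), (0, 2), (0, 1), (0, 4), (0, 3), (0, 3), (0, 2), (1, 4), (0, 3), (1, 1), (0, 1), (0, 3), (0, 4), (0, 2), (1, 3), (1, 1), (0, 3), (0, 4), (0, 4), (0, 4), (0, 3), (0, 3), (1, 4), (0, 2), (0, 2), (0, 3), (0, 4), (0, 1), (0, 2), (0, 4), (0, 3), (0, 1), (0, 1), (0, 1), (0, 4), (0, 4), (0, 1), (0, 4), (1, 4), (0, 4), (0, 2), (0, 1), (0, 1), (0, 1), (0, 3), (0, 1), (0, 1), (0, 2), (1, 1), (0, 1), (0, 3), (0, 3), (0, 2), (0, 4), (1, 2)],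
  [(2, 2), (0, 3), (1, 2), (0, 2), (3, 3), (0, 2), (0, 2), (0, 3), (0, 4), (0, 4), (0, 4), (0, 3), (0, 3), (0, 1), (0, 3), (0, 1), (0, 1), (1, 2), (0, 3), (0, 2), (0, 4), (0, 3), (0, 4), (0, 4), (0, 3), (0, 2), (2, 3), (2, 1), (0, 4), (0, 4), (0, 4), (0, 4), (2, 1), (1, 3), (0, 1), (0, 3), (0, 2), (0, 4), (0, 2), (0, 1), (0, 2), (0, 3), (0, 3), (1, 1), (0, 2), (0, 2), (1, 2), (0, 1), (2, 4), (1, 1), (0, 4), (0, 2), (0, 4), (0, 1), (1, 1), (1, 4), (0, 3), (1, 1), (0, 4), (0, 4), (1, 2), (0, 4), (0, 2), (0, 2), (0, 3), (0, 3), (0, 3), (0, 2), (0, 1), (0, 3), (0, 1), (0, 1), (1, 4), (0, 4), (0, 3), (1, 4), (1, 4), (0, 4), (0, 1), (0, 4), (0, 3), (0, 1), (0, 2), (0, 4), (0, 1)],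
  [(2, 3), (0, 4), (1, 3), (0, 3), (2, 3), (0, 2), (0, 2), (0, 3), (0, 1), (0, 2), (0, 2), (0, 3), (0, 2), (0, 1), (0, 3), (0, 1), (0, 3), (0, 2), (1, 4), (0, 2), (0, 1), (0, 4), (0, 1), (1, 4), (0, 2), (0, 2), (0, 3), (0, 4), (0, 4), (0, 3), (0, 1), (2, 2), (0, 4), (0, 4), (0, 4), (0, 1), (0, 3), (0, 2), (1, 2), (0, 1), (0, 2), (0, 3), (2, 1), (0, 3), (0, 2), (0, 2), (0, 1), (2, 3), (0, 2), (3, 1), (0, 1), (1, 4), (0, 4), (0, 3), (0, 1), (1, 2), (0, 1), (0, 3), (0, 2), (0, 4), (0, 4), (0, 4), (0, 2), (2, 4), (1, 2), (0, 4), (0, 3), (0, 3), (1, 2), (0, 4), (0, 2), (0, 1), (0, 1), (0, 4), (0, 4), (0, 4), (0, 3), (0, 1), (0, 2), (0, 4), (0, 3), (0, 1), (0, 3), (0, 2), (0, 1), (0, 3), (0, 1)],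
  [(2, 1), (0, 4), (1, 1), (0, 1), (2, 2), (0, 4), (0, 2), (0, 1), (0, 3), (0, 4), (0, 2), (0, 4), (0, 4), (0, 4), (0, 2), (0, 1), (0, 3), (0, 1), (1, 1), (0, 4), (0, 2), (1, 1), (1, 3), (0, 4), (0, 2), (0, 4), (0, 3), (0, 1), (3, 2), (0, 2), (0, 3), (0, 2), (0, 1), (0, 3), (0, 1), (1, 4), (0, 2), (0, 4), (0, 1), (0, 3), (0, 2), (0, 4), (0, 1), (0, 2), (0, 2), (0, 3), (0, 3), (0, 2), (0, 4), (1, 1), (0, 3), (2, 2), (0, 4), (0, 3), (0, 4), (0, 2), (1, 2), (1, 2), (0, 2), (1, 1), (0, 1), (1, 2), (0, 2), (0, 4), (2, 4), (0, 3), (0, 4), (0, 2), (0, 3), (0, 1), (0, 1), (0, 1), (1, 3), (0, 3), (0, 1), (0, 1), (1, 4), (0, 4), (0, 1), (0, 4), (0, 3), (0, 1), (0, 1), (0, 3), (0, 1), (1, 1)],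
  [(2, 1), (0, 3), (1, 1), (0, 1), (2, 2), (0, 4), (1, 1), (1, 4), (0, 4), (0, 2), (0, 4), (0, 2), (1, 1), (0, 1), (0, 3), (1, 3), (0, 4), (0, 2), (0, 4), (0, 4), (0, 4), (0, 2), (0, 1), (0, 3), (3, 1), (0, 2), (0, 3), (1, 4), (0, 1), (0, 3), (1, 1), (1, 4), (0, 3), (0, 4), (0, 2), (0, 4), (0, 3), (1, 1), (0, 3), (0, 3), (0, 2), (0, 4), (0, 2), (0, 3), (0, 1), (0, 1), (0, 4), (2, 1), (1, 1), (1, 4), (0, 4), (1, 3), (0, 3), (0, 2), (0, 4), (0, 1), (1, 4), (0, 4), (1, 3), (1, 2), (0, 4), (0, 1), (0, 1), (0, 3), (1, 1), (0, 4), (0, 2), (0, 2), (0, 1), (1, 4), (0, 3), (0, 3), (0, 1), (1, 3), (0, 1), (0, 2), (0, 3), (0, 3), (0, 4), (0, 4), (0, 2), (0, 3), (0, 3)],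
  [(2, 2), (0, 3), (1, 2), (0, 2), (2, 1), (0, 3), (1, 2), (0, 4), (0, 4), (0, 4), (0, 1), (0, 3), (0, 3), (0, 4), (0, 1), (0, 1), (0, 4), (1, 2), (0, 3), (0, 4), (0, 2), (0, 3), (0, 2), (0, 3), (0, 4), (1, 1), (0, 3), (0, 1), (2, 4), (0, 4), (0, 4), (0, 4), (0, 4), (0, 2), (0, 1), (0, 1), (0, 3), (0, 1), (0, 4), (0, 3), (0, 2), (0, 2), (0, 4), (0, 4), (0, 4), (0, 2), (0, 2), (0, 1), (0, 3), (1, 2), (2, 1), (1, 1), (0, 4), (0, 3), (0, 1), (0, 2), (0, 1), (0, 3), (0, 1), (0, 2), (1, 1), (0, 3), (0, 1), (0, 3), (0, 2), (0, 1), (0, 1), (1, 1), (0, 1), (4, 3), (0, 3), (0, 1), (0, 3), (0, 2), (0, 3), (5, 2), (0, 4), (0, 1), (0, 2), (0, 1), (0, 4), (0, 4), (0, 3), (0, 4), (0, 3), (0, 1)],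
  [(2, 1), (2, 1), (0, 1), (2, 4), (0, 4), (0, 1), (0, 1), (1, 4), (1, 2), (0, 4), (0, 1), (3, 3), (1, 4), (0, 4), (0, 3), (0, 2), (0, 4), (0, 3), (1, 1), (0, 4), (1, 4), (0, 2), (0, 4), (0, 2), (0, 1), (0, 4), (1, 3), (0, 1), (1, 4), (1, 1), (0, 2), (0, 3), (0, 1), (0, 3), (0, 2), (1, 1), (0, 4), (0, 3), (0, 2), (0, 1), (0, 2), (0, 1), (1, 4), (0, 4), (0, 1), (1, 4), (0, 4), (0, 4), (0, 4), (0, 4), (0, 1), (0, 3), (2, 1), (0, 2), (3, 3), (2, 4), (0, 3), (0, 1), (0, 1), (0, 4), (0, 4), (1, 4), (1, 4), (0, 3), (1, 1), (1, 4), (0, 3), (0, 2), (0, 2), (0, 1), (1, 2), (1, 1), (0, 1), (0, 4), (0, 1), (0, 1), (0, 2)],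
  [(2, 1), (0, 2), (1, 1), (0, 1), (2, 3), (0, 4), (0, 1), (0, 1), (0, 2), (0, 3), (0, 1), (1, 4), (1, 1), (0, 4), (0, 4), (0, 2), (2, 4), (1, 3), (0, 2), (0, 4), (0, 2), (0, 3), (0, 2), (1, 3), (0, 4), (0, 2), (1, 4), (0, 3), (0, 1), (0, 3), (0, 4), (1, 2), (0, 4), (0, 1), (0, 3), (2, 2), (1, 4), (0, 4), (1, 3), (1, 3), (0, 1), (0, 1), (0, 1), (0, 2), (0, 3), (0, 2), (2, 3), (1, 3), (0, 2), (0, 3), (0, 2), (0, 4), (1, 2), (0, 4), (0, 2), (1, 2), (0, 3), (0, 2), (0, 1), (0, 4), (1, 3), (0, 1), (1, 2), (0, 1), (0, 4), (0, 4), (0, 3), (0, 3), (0, 2), (2, 1), (1, 1), (0, 4), (0, 4), (2, 3), (0, 2), (0, 1), (1, 4), (0, 3), (0, 2)],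
  [(2, 4), (0, 4), (1, 4), (0, 4), (2, 1), (0, 1), (0, 3), (0, 4), (0, 4), (0, 4), (0, 2), (0, 4), (0, 1), (0, 2), (0, 2), (0, 2), (0, 3), (0, 3), (1, 3), (0, 1), (0, 1), (0, 4), (0, 2), (0, 2), (0, 2), (0, 4), (2, 4), (1, 2), (1, 3), (0, 4), (0, 2), (0, 1), (1, 4), (0, 4), (0, 1), (0, 4), (1, 2), (0, 2), (1, 1), (1, 2), (1, 4), (0, 4), (1, 2), (0, 3), (0, 1), (0, 2), (0, 3), (0, 1), (1, 2), (1, 2), (2, 3), (0, 4), (0, 2), (0, 1), (0, 3), (0, 3), (0, 1), (0, 2), (0, 3), (1, 2), (0, 4), (0, 4), (0, 3), (0, 2), (0, 1), (0, 1), (0, 1), (0, 3), (0, 2), (0, 1), (0, 2), (0, 3), (0, 3), (0, 2), (0, 3), (0, 3), (0, 2), (0, 1), (1, 1), (0, 3), (0, 1), (0, 1), (0, 3), (0, 1), (0, 2), (1, 4), (0, 4), (0, 4)],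
  [(2, 2), (0, 4), (1, 2), (0, 2), (2, 1), (0, 3), (0, 2), (0, 2), (1, 3), (0, 2), (0, 1), (0, 3), (1, 2), (0, 1), (0, 3), (0, 2), (2, 3), (0, 1), (1, 1), (0, 3), (1, 2), (0, 4), (0, 3), (0, 4), (0, 2), (0, 4), (0, 4), (0, 4), (0, 1), (0, 2), (0, 1), (0, 3), (1, 4), (0, 2), (0, 2), (0, 2), (0, 4), (1, 4), (1, 2), (0, 4), (0, 1), (0, 1), (0, 4), (0, 4), (0, 1), (0, 1), (1, 4), (0, 2), (0, 4), (1, 3), (1, 4), (0, 4), (1, 3), (0, 3), (0, 2), (0, 2), (0, 1), (0, 2), (0, 4), (0, 2), (0, 4), (0, 2), (0, 2), (0, 1), (0, 1), (1, 1), (0, 2), (0, 3), (1, 1), (0, 3), (0, 4), (0, 1), (0, 1), (0, 2), (0, 4), (0, 2), (0, 3), (1, 4), (0, 3), (0, 3), (0, 2), (0, 4), (0, 2), (0, 3), (0, 4), (0, 2), (0, 1), (0, 1), (0, 4), (0, 2)],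
  [(2, 4), (0, 2), (1, 4), (0, 4), (2, 1), (0, 1), (0, 3), (0, 4), (0, 3), (1, 1), (1, 1), (0, 3), (2, 4), (0, 2), (1, 2), (0, 1), (1, 2), (0, 4), (0, 3), (0, 4), (1, 1), (0, 1), (0, 2), (0, 3), (0, 4), (0, 1), (0, 4), (1, 1), (0, 1), (0, 2), (0, 2), (0, 4), (0, 4), (0, 1), (0, 1), (0, 3), (0, 3), (0, 1), (1, 1), (0, 2), (0, 3), (1, 2), (0, 2), (1, 2), (0, 1), (0, 4), (0, 2), (3, 2), (0, 3), (0, 3), (0, 3), (1, 4), (0, 1), (0, 4), (0, 2), (0, 1), (0, 2), (0, 2), (0, 3), (2, 1), (0, 2), (0, 1), (0, 2), (0, 4), (0, 3), (0, 2), (0, 4), (0, 1), (1, 2), (0, 3), (0, 1), (0, 4), (0, 3), (0, 1), (0, 4), (0, 2), (0, 3), (0, 3), (0, 2), (0, 3), (0, 1), (0, 2), (0, 2), (0, 3), (1, 4), (0, 2), (0, 3)],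
  [(2, 1), (0, 4), (1, 1), (0, 1), (2, 3), (0, 4), (0, 3), (0, 1), (0, 2), (0, 2), (0, 2), (1, 4), (0, 4), (1, 2), (0, 3), (0, 2), (1, 1), (0, 4), (1, 1), (1, 1), (1, 1), (0, 4), (1, 3), (0, 4), (1, 1), (0, 3), (0, 2), (0, 2), (0, 4), (0, 2), (0, 4), (0, 4), (0, 2), (0, 4), (0, 3), (0, 4), (0, 4), (0, 1), (1, 1), (0, 4), (1, 4), (0, 2), (0, 4), (0, 1), (0, 4), (0, 4), (1, 4), (0, 3), (1, 1), (0, 2), (0, 2), (0, 4), (0, 4), (0, 4), (0, 1), (1, 2), (0, 1), (0, 4), (0, 1), (0, 4), (0, 1), (0, 3), (0, 2), (0, 4), (0, 2), (0, 1), (0, 4), (0, 1), (1, 4), (0, 4), (0, 2), (1, 1), (0, 1), (0, 4), (0, 1), (0, 4), (0, 1), (0, 4), (0, 3), (0, 2), (0, 4), (0, 4), (0, 1), (0, 3), (1, 2), (2, 1), (1, 2)],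
  [(3, 2), (5, 3), (4, 1), (0, 1), (0, 1), (1, 4), (1, 2), (0, 4), (0, 2), (1, 1), (1, 3), (0, 1), (0, 3), (0, 3), (1, 2), (1, 2), (1, 1), (0, 3), (0, 1), (0, 3), (0, 4), (0, 1), (0, 2), (0, 3), (0, 3), (0, 1), (0, 2), (1, 3), (1, 4), (0, 4), (0, 1), (0, 2), (0, 3), (0, 4), (0, 4), (0, 4), (0, 3), (0, 1), (0, 3), (0, 3), (0, 3), (0, 4), (0, 1), (1, 3), (1, 4), (0, 4), (0, 1), (0, 4), (0, 1), (0, 3), (1, 1), (0, 1), (0, 2), (0, 3), (0, 3), (0, 1), (1, 4), (0, 2), (1, 3), (0, 2), (0, 4), (0, 4), (2, 1), (1, 4), (0, 4), (0, 3), (0, 2), (1, 4), (0, 4), (1, 1), (0, 3), (0, 1), (0, 4), (0, 4), (0, 4), (0, 2), (0, 1), (1, 4), (0, 4)],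
  [(2, 1), (0, 3), (1, 1), (0, 1), (2, 2), (0, 4), (1, 1), (1, 1), (0, 4), (0, 3), (0, 4), (0, 2), (2, 1), (0, 4), (1, 3), (0, 4), (0, 4), (0, 4), (0, 1), (1, 3), (3, 3), (0, 1), (0, 1), (0, 3), (2, 4), (0, 4), (0, 3), (0, 2), (1, 2), (1, 3), (0, 2), (0, 2), (0, 4), (0, 2), (1, 3), (0, 4), (0, 4), (0, 3), (0, 3), (1, 4), (0, 1), (0, 1), (0, 1), (2, 1), (0, 1), (0, 2), (0, 1), (0, 1), (0, 3), (1, 1), (0, 1), (0, 3), (0, 4), (0, 4), (1, 3), (0, 2), (0, 1), (0, 1), (0, 4), (0, 3), (1, 4), (0, 3), (1, 2), (0, 1), (2, 1), (0, 3), (0, 3), (0, 2), (0, 2), (0, 1), (0, 3), (3, 2), (0, 4), (0, 4), (0, 1), (0, 4), (0, 1), (2, 4)],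
  [(3, 2), (5, 4), (1, 4), (1, 2), (0, 1), (0, 1), (0, 3), (1, 4), (0, 1), (0, 3), (0, 4), (0, 2), (1, 1), (1, 2), (0, 1), (1, 1), (0, 3), (0, 1), (0, 4), (0, 3), (0, 3), (0, 1), (0, 3), (0, 4), (0, 3), (0, 4), (0, 1), (0, 1), (0, 3), (0, 4), (1, 4), (0, 3), (2, 4), (0, 4), (2, 3), (0, 3), (0, 1), (0, 4), (1, 2), (0, 4), (1, 3), (0, 1), (0, 1), (2, 4), (0, 4), (0, 2), (3, 2), (0, 3), (1, 4), (1, 4), (0, 2), (0, 4), (0, 3), (0, 3), (3, 2), (0, 2), (0, 4), (0, 3), (0, 2), (0, 1), (0, 2), (0, 1), (0, 4), (0, 2), (0, 2), (0, 2), (0, 1), (0, 1), (0, 2), (0, 2), (0, 1), (0, 3), (0, 3), (0, 1), (0, 3), (0, 2), (1, 3), (0, 2), (0, 3)],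
  [(2, 2), (0, 2), (1, 2), (0, 2), (2, 2), (0, 3), (0, 3), (0, 2), (0, 2), (0, 2), (0, 1), (1, 3), (0, 1), (0, 3), (0, 3), (0, 4), (2, 4), (0, 3), (1, 3), (0, 2), (0, 2), (1, 4), (1, 4), (0, 3), (1, 1), (0, 4), (0, 2), (0, 2), (0, 1), (0, 3), (1, 3), (0, 3), (0, 4), (0, 3), (0, 4), (0, 2), (0, 1), (3, 2), (0, 4), (0, 2), (1, 3), (0, 2), (0, 4), (1, 1), (0, 1), (0, 3), (1, 3), (0, 4), (1, 2), (0, 3), (0, 2), (0, 4), (0, 1), (0, 4), (0, 4), (0, 3), (1, 4), (0, 1), (0, 1), (1, 1), (0, 3), (0, 2), (0, 2), (0, 1), (0, 4), (0, 1), (0, 1), (1, 1), (0, 4), (1, 2), (0, 1), (0, 4), (0, 2), (0, 1), (0, 3), (0, 2), (0, 1), (1, 3), (4, 3), (1, 4), (0, 1)],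
  [(2, 4), (2, 4), (0, 4), (2, 3), (0, 1), (0, 4), (0, 4), (0, 3), (0, 1), (1, 4), (0, 1), (0, 4), (0, 2), (0, 1), (1, 2), (1, 1), (0, 1), (0, 4), (0, 2), (0, 1), (0, 4), (0, 2), (0, 4), (0, 3), (0, 1), (1, 4), (0, 1), (0, 3), (1, 1), (1, 2), (0, 4), (0, 2), (0, 2), (1, 1), (0, 3), (0, 3), (0, 4), (0, 2), (0, 2), (0, 2), (0, 4), (1, 3), (0, 4), (0, 2), (0, 3), (1, 3), (0, 1), (0, 1), (0, 4), (1, 2), (1, 2), (0, 2), (0, 4), (0, 1), (0, 1), (0, 3), (0, 4), (0, 4), (1, 1), (0, 4), (0, 1), (1, 4), (1, 3), (0, 3), (0, 1), (0, 2), (1, 4), (2, 2), (0, 3), (0, 3), (0, 2), (0, 4), (0, 1), (0, 4), (0, 1), (0, 4), (0, 4), (0, 4), (0, 2), (0, 2), (0, 4), (0, 4), (0, 4), (0, 3), (0, 4), (0, 1), (0, 3), (0, 1)],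
  [(2, 3), (0, 3), (1, 3), (0, 3), (2, 3), (0, 2), (0, 4), (0, 3), (0, 2), (0, 3), (0, 4), (0, 1), (0, 2), (0, 4), (0, 4), (0, 1), (0, 1), (0, 3), (1, 1), (0, 2), (0, 2), (2, 4), (0, 4), (0, 4), (0, 4), (0, 4), (1, 3), (0, 4), (0, 2), (0, 2), (0, 3), (0, 4), (0, 2), (1, 3), (0, 4), (1, 2), (0, 4), (0, 4), (0, 4), (2, 3), (0, 3), (0, 3), (0, 1), (2, 1), (0, 1), (0, 4), (0, 4), (0, 3), (0, 2), (3, 2), (0, 3), (0, 4), (0, 2), (0, 4), (1, 4), (2, 1), (0, 4), (1, 1), (0, 1), (1, 2), (0, 4), (0, 1), (0, 3), (0, 3), (0, 3), (2, 4), (0, 1), (0, 2), (0, 4), (0, 4), (1, 2), (1, 3), (0, 3), (0, 1), (0, 3), (0, 1), (0, 1), (0, 3), (0, 3), (0, 2), (0, 4), (0, 2), (0, 4), (0, 1)],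
  [(2, 3), (0, 2), (1, 3), (0, 3), (2, 1), (0, 2), (0, 2), (0, 3), (0, 4), (0, 1), (0, 1), (0, 4), (0, 2), (0, 2), (0, 2), (0, 3), (0, 4), (2, 3), (0, 2), (0, 2), (0, 1), (2, 3), (0, 4), (0, 2), (2, 2), (3, 1), (0, 1), (0, 4), (0, 1), (0, 1), (0, 4), (0, 3), (1, 2), (0, 1), (0, 2), (0, 3), (0, 3), (1, 4), (0, 1), (0, 2), (0, 4), (0, 4), (0, 4), (0, 4), (0, 4), (1, 3), (0, 4), (2, 4), (0, 3), (0, 3), (0, 3), (1, 1), (3, 4), (0, 4), (0, 2), (0, 2), (0, 1), (0, 3), (0, 3), (0, 2), (0, 1), (0, 1), (0, 3), (0, 2), (1, 3), (0, 2), (0, 4), (0, 2), (0, 4), (3, 3), (0, 2), (0, 1), (1, 1), (0, 1), (0, 3), (0, 1), (0, 1), (0, 2), (0, 1), (0, 4), (0, 3), (0, 4)],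
  [(2, 2), (0, 4), (1, 2), (0, 2), (3, 3), (1, 2), (0, 1), (0, 3), (0, 2), (0, 3), (0, 3), (2, 2), (0, 3), (0, 3), (2, 3), (2, 1), (0, 4), (0, 3), (1, 2), (0, 3), (0, 3), (0, 3), (0, 4), (0, 3), (0, 1), (0, 1), (0, 2), (0, 4), (0, 3), (0, 4), (2, 3), (0, 2), (2, 4), (0, 4), (0, 2), (1, 4), (0, 3), (0, 1), (0, 1), (0, 3), (0, 3), (0, 3), (0, 4), (0, 4), (0, 4), (1, 2), (0, 1), (0, 2), (1, 1), (0, 3), (0, 1), (0, 1), (0, 2), (0, 1), (0, 1), (1, 2), (0, 1), (1, 2), (2, 1), (0, 2), (0, 3), (0, 1), (0, 4), (0, 2), (1, 3), (0, 1), (0, 1), (0, 3), (0, 2), (1, 3), (3, 2), (0, 3), (0, 2), (1, 1), (0, 1), (0, 4), (0, 4), (0, 4), (0, 1)],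
  [(2, 1), (0, 1), (1, 1), (0, 1), (2, 4), (0, 4), (0, 1), (0, 1), (0, 3), (0, 3), (0, 3), (0, 2), (0, 4), (0, 3), (0, 3), (0, 3), (0, 2), (0, 2), (1, 2), (0, 4), (0, 1), (0, 3), (1, 3), (1, 2), (0, 1), (0, 1), (0, 2), (0, 1), (0, 3), (0, 3), (0, 4), (0, 1), (0, 3), (0, 1), (1, 3), (1, 1), (1, 3), (0, 4), (0, 3), (1, 1), (0, 2), (0, 2), (0, 4), (0, 1), (3, 1), (1, 3), (0, 1), (0, 4), (1, 3), (0, 4), (0, 2), (1, 3), (0, 3), (0, 3), (0, 2), (1, 4), (0, 3), (0, 2), (0, 2), (0, 1), (1, 4), (0, 1), (0, 3), (1, 2), (0, 4), (0, 2), (0, 3), (2, 3), (1, 2), (0, 4), (1, 1), (0, 1), (1, 2), (0, 1), (0, 2), (0, 3), (0, 1), (0, 1), (2, 4), (0, 3), (0, 2), (0, 1), (0, 4)],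
  [(2, 3), (2, 3), (0, 3), (2, 4), (0, 2), (0, 4), (0, 3), (0, 1), (0, 3), (1, 2), (0, 2), (0, 3), (0, 4), (0, 3), (1, 4), (1, 2), (0, 2), (0, 4), (0, 3), (1, 3), (0, 2), (0, 3), (0, 2), (0, 2), (0, 3), (0, 3), (0, 2), (0, 2), (0, 1), (0, 2), (1, 3), (0, 3), (0, 1), (0, 1), (2, 3), (0, 3), (0, 3), (0, 4), (0, 1), (1, 1), (0, 1), (0, 3), (2, 4), (1, 2), (0, 2), (0, 3), (0, 3), (1, 3), (0, 3), (0, 3), (0, 4), (0, 2), (0, 3), (3, 4), (0, 1), (0, 2), (0, 4), (0, 2), (0, 2), (0, 3), (0, 3), (0, 4), (0, 4), (2, 4), (0, 4), (0, 3), (0, 3), (0, 2), (0, 2), (0, 4), (0, 3), (0, 4), (0, 1), (0, 3), (0, 3), (0, 4), (0, 4), (0, 1), (0, 3), (0, 3), (1, 2), (1, 4), (0, 1), (1, 4), (0, 1)],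
  [(2, 4), (0, 4), (1, 4), (0, 4), (2, 2), (0, 1), (0, 3), (0, 4), (0, 1), (0, 1), (0, 2), (0, 4), (0, 1), (0, 2), (0, 1), (0, 4), (0, 3), (0, 3), (1, 3), (0, 1), (0, 4), (0, 3), (0, 3), (0, 2), (0, 3), (2, 1), (2, 2), (0, 1), (0, 4), (0, 4), (0, 2), (0, 4), (2, 1), (0, 4), (0, 1), (0, 1), (0, 3), (0, 2), (1, 1), (0, 3), (0, 3), (0, 3), (0, 2), (0, 3), (1, 2), (0, 1), (0, 1), (0, 2), (1, 1), (1, 1), (0, 1), (0, 3), (0, 1), (1, 1), (0, 1), (0, 4), (0, 1), (1, 3), (0, 4), (0, 1), (0, 2), (2, 4), (0, 1), (0, 3), (0, 1), (0, 3), (0, 2), (0, 1), (0, 2), (1, 3), (0, 3), (0, 4), (0, 2), (0, 3), (0, 4), (0, 3), (0, 1), (0, 1), (0, 4), (0, 1), (0, 2), (0, 1), (0, 1), (0, 2), (0, 1), (0, 2), (0, 4), (0, 1), (0, 3), (0, 1)],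
  [(9, 4), (3, 3), (2, 4), (2, 4), (0, 2), (7, 2), (0, 2), (0, 4), (0, 1), (0, 2), (0, 1), (1, 2), (1, 3), (0, 1), (2, 2), (3, 1), (1, 1), (0, 4), (2, 3), (0, 4), (0, 1), (0, 3), (0, 4), (0, 2), (0, 4), (1, 2), (2, 1), (2, 3), (0, 2), (0, 1), (0, 3), (0, 4), (1, 3), (0, 4), (0, 4), (0, 1), (0, 2), (0, 2), (0, 1), (0, 2), (0, 2), (0, 2), (0, 1), (0, 1), (1, 3), (0, 1), (0, 1), (0, 1), (0, 3), (0, 2), (0, 4), (1, 3), (0, 1), (1, 3), (0, 1), (0, 2), (0, 1), (0, 1), (1, 2), (0, 2), (0, 3), (0, 4), (1, 3), (0, 2), (0, 4), (0, 1), (0, 1)],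
  [(2, 4), (0, 1), (1, 4), (0, 4), (3, 1), (0, 2), (0, 4), (0, 1), (1, 3), (1, 1), (0, 1), (2, 2), (0, 4), (1, 4), (0, 1), (0, 1), (0, 1), (1, 4), (0, 2), (1, 2), (0, 3), (0, 4), (0, 3), (1, 3), (0, 2), (0, 3), (0, 3), (0, 3), (0, 3), (0, 4), (1, 4), (0, 3), (0, 4), (0, 1), (0, 1), (0, 4), (0, 3), (0, 4), (0, 4), (0, 1), (0, 1), (2, 3), (0, 2), (0, 2), (1, 1), (0, 2), (2, 3), (0, 1), (0, 4), (0, 2), (0, 2), (0, 4), (0, 4), (1, 4), (1, 1), (0, 1), (0, 1), (0, 4), (1, 3), (2, 2), (0, 1), (0, 1), (0, 4), (1, 2), (0, 4), (1, 3), (0, 3), (0, 1), (1, 2), (0, 3), (0, 1), (0, 1), (2, 4), (0, 1), (0, 2), (2, 3), (0, 3), (0, 1)],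
  [(3, 3), (5, 2), (3, 3), (0, 2), (0, 4), (0, 4), (1, 1), (1, 2), (0, 1), (0, 3), (1, 4), (1, 4), (2, 1), (0, 1), (0, 4), (0, 2), (1, 3), (1, 2), (0, 4), (1, 1), (0, 4), (1, 2), (0, 1), (1, 3), (0, 1), (1, 2), (0, 1), (0, 1), (0, 1), (0, 4), (0, 1), (2, 3), (0, 1), (0, 2), (0, 2), (0, 4), (0, 2), (0, 1), (0, 4), (1, 1), (0, 3), (0, 1), (3, 4), (0, 3), (0, 2), (0, 2), (2, 3), (0, 2), (1, 3), (0, 4), (0, 3), (0, 2), (0, 1), (0, 1), (0, 3), (0, 1), (0, 2), (0, 4), (0, 4), (1, 4), (0, 4), (0, 3), (0, 3), (0, 4), (0, 1), (0, 3), (0, 1), (0, 4), (0, 4), (0, 4), (0, 1), (0, 2), (0, 1), (0, 3), (1, 1), (0, 4), (0, 3)],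
  [(2, 4), (2, 4), (0, 4), (3, 1), (0, 3), (0, 4), (0, 3), (0, 3), (2, 1), (0, 4), (0, 4), (0, 4), (1, 1), (1, 1), (0, 1), (0, 3), (0, 4), (0, 2), (0, 4), (0, 3), (0, 1), (0, 3), (1, 4), (0, 3), (0, 1), (0, 4), (0, 4), (0, 1), (1, 4), (0, 4), (0, 2), (1, 3), (0, 1), (0, 1), (0, 2), (0, 4), (0, 2), (0, 4), (0, 1), (0, 1), (0, 3), (0, 1), (0, 2), (0, 1), (0, 2), (0, 2), (1, 1), (1, 4), (3, 4), (0, 4), (0, 2), (0, 3), (1, 1), (0, 3), (0, 3), (0, 1), (0, 1), (0, 2), (1, 4), (0, 3), (0, 2), (0, 3), (2, 4), (0, 1), (0, 4), (0, 3), (0, 2), (0, 1), (0, 4), (0, 3), (0, 2), (0, 3), (0, 4), (0, 4), (1, 4), (0, 4), (0, 4), (0, 3), (0, 1), (0, 2), (0, 4), (0, 4), (0, 2), (0, 2), (0, 4), (0, 1), (0, 4)],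
  [(3, 1), (5, 3), (3, 1), (0, 3), (0, 3), (0, 3), (1, 2), (1, 3), (0, 2), (0, 2), (1, 3), (1, 2), (0, 1), (2, 3), (0, 1), (0, 4), (0, 3), (1, 1), (0, 4), (1, 1), (0, 2), (0, 3), (0, 1), (0, 4), (0, 1), (0, 4), (2, 2), (0, 4), (0, 2), (0, 2), (0, 1), (0, 1), (1, 2), (1, 3), (0, 4), (3, 4), (0, 3), (0, 3), (2, 1), (1, 4), (0, 3), (0, 3), (2, 2), (0, 4), (0, 1), (0, 4), (0, 3), (0, 4), (0, 4), (0, 4), (0, 3), (0, 2), (0, 1), (1, 1), (0, 3), (0, 2), (0, 3), (0, 1), (1, 4), (0, 3), (0, 2), (2, 1), (0, 3), (0, 4), (0, 2), (0, 4), (0, 4), (1, 4), (2, 4), (0, 2), (0, 2), (0, 4)],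
  [(2, 1), (2, 1), (0, 1), (3, 4), (0, 1), (0, 1), (0, 4), (0, 4), (1, 3), (0, 4), (0, 1), (0, 4), (2, 1), (1, 4), (0, 4), (0, 2), (0, 1), (0, 1), (0, 1), (0, 3), (0, 4), (0, 3), (1, 1), (0, 3), (0, 4), (0, 4), (0, 2), (0, 4), (1, 3), (0, 1), (0, 4), (0, 4), (1, 4), (0, 2), (1, 1), (0, 3), (0, 3), (0, 2), (1, 3), (1, 4), (1, 4), (0, 2), (0, 4), (0, 4), (0, 2), (0, 1), (1, 4), (0, 4), (0, 2), (0, 1), (0, 4), (0, 3), (0, 4), (0, 3), (0, 1), (0, 2), (0, 4), (0, 3), (0, 1), (1, 2), (0, 4), (0, 4), (0, 3), (0, 2), (0, 2), (1, 1), (0, 2), (0, 3), (0, 4), (0, 1), (1, 2), (0, 3), (0, 2), (0, 4), (0, 1), (0, 1), (0, 3), (0, 3), (0, 2), (0, 4), (0, 4), (0, 3), (0, 4), (2, 1), (0, 1), (0, 2), (0, 2)],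
  [(3, 2), (5, 3), (4, 1), (0, 1), (0, 3), (1, 4), (1, 4), (0, 4), (0, 2), (1, 1), (2, 1), (0, 3), (0, 4), (0, 4), (0, 1), (0, 3), (0, 2), (1, 1), (0, 3), (0, 1), (0, 3), (0, 4), (0, 1), (0, 4), (0, 3), (0, 3), (0, 2), (0, 3), (1, 2), (1, 4), (0, 4), (1, 2), (0, 3), (0, 4), (1, 4), (2, 1), (0, 2), (0, 3), (1, 1), (1, 3), (0, 4), (0, 2), (0, 3), (2, 1), (0, 3), (2, 3), (0, 3), (2, 2), (2, 1), (0, 2), (2, 4), (0, 3), (0, 4), (0, 1), (0, 3), (0, 4), (0, 3), (0, 2), (0, 2), (0, 4), (1, 2), (1, 2), (0, 2), (0, 4), (0, 3), (0, 1), (0, 3), (2, 1), (0, 4), (1, 2)],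
  [(3, 2), (9, 4), (0, 1), (0, 1), (0, 2), (1, 4), (0, 1), (1, 4), (0, 2), (1, 1), (1, 4), (0, 4), (0, 4), (0, 1), (0, 4), (0, 2), (1, 1), (1, 1), (0, 3), (0, 2), (1, 4), (0, 1), (1, 3), (0, 3), (0, 1), (0, 3), (0, 2), (0, 2), (0, 4), (0, 4), (0, 4), (0, 1), (0, 4), (0, 4), (0, 4), (1, 3), (0, 2), (0, 4), (0, 4), (0, 2), (0, 3), (0, 2), (0, 1), (2, 2), (0, 1), (1, 2), (0, 4), (0, 1), (0, 2), (0, 1), (0, 4), (0, 1), (0, 1), (0, 4), (0, 4), (1, 1), (0, 1), (0, 2), (0, 4), (0, 2), (1, 2), (0, 2), (0, 4), (1, 2), (0, 4), (0, 3), (0, 3), (0, 2), (0, 4), (0, 4), (0, 2), (0, 2), (0, 3), (0, 1), (0, 1), (0, 1), (1, 1), (0, 4), (1, 1), (0, 4), (0, 1), (0, 2)],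
  [(2, 3), (0, 4), (1, 3), (0, 3), (2, 3), (0, 2), (0, 3), (0, 3), (0, 2), (0, 2), (0, 2), (1, 2), (0, 1), (0, 3), (0, 3), (0, 3), (2, 4), (0, 2), (0, 4), (0, 4), (0, 4), (2, 4), (0, 2), (0, 4), (1, 2), (0, 3), (0, 1), (2, 2), (1, 4), (1, 3), (0, 1), (0, 3), (0, 2), (1, 1), (0, 2), (0, 4), (0, 4), (0, 4), (2, 4), (0, 2), (0, 3), (0, 3), (0, 2), (0, 3), (0, 4), (3, 3), (0, 1), (0, 3), (0, 2), (0, 1), (0, 2), (0, 2), (0, 4), (0, 3), (1, 4), (1, 2), (0, 1), (0, 1), (0, 1), (0, 2), (0, 2), (0, 2), (0, 4), (1, 1), (3, 1), (0, 2), (0, 2), (0, 1), (0, 1), (0, 3), (1, 3), (0, 4), (0, 1), (1, 2), (2, 4), (1, 2), (0, 1), (0, 3), (0, 2)],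
  [(2, 2), (0, 3), (1, 2), (0, 2), (2, 3), (0, 3), (0, 1), (0, 2), (0, 2), (0, 2), (0, 4), (0, 1), (0, 3), (0, 3), (0, 3), (0, 1), (0, 1), (2, 2), (0, 3), (0, 3), (0, 3), (0, 2), (0, 1), (0, 1), (1, 1), (0, 3), (0, 3), (2, 2), (0, 2), (0, 4), (0, 4), (0, 3), (0, 4), (0, 4), (0, 4), (0, 3), (0, 4), (0, 2), (0, 1), (0, 3), (0, 2), (0, 4), (0, 3), (0, 1), (0, 2), (2, 4), (0, 3), (0, 1), (0, 2), (1, 1), (0, 1), (1, 4), (0, 4), (0, 3), (0, 1), (0, 4), (1, 4), (0, 3), (0, 3), (0, 1), (0, 3), (0, 4), (0, 3), (0, 3), (0, 4), (1, 2), (1, 1), (1, 1), (3, 3), (0, 1), (0, 4), (0, 1), (0, 4), (1, 1), (0, 4), (0, 4), (0, 3), (0, 2), (0, 3), (1, 3), (0, 1), (0, 3), (0, 1), (0, 3), (0, 2), (0, 2), (0, 4), (0, 1)],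
  [(2, 3), (0, 4), (1, 3), (0, 3), (2, 4), (0, 2), (0, 2), (0, 3), (0, 1), (0, 1), (0, 2), (0, 1), (0, 2), (0, 1), (0, 4), (0, 3), (0, 3), (0, 3), (1, 4), (0, 2), (0, 1), (1, 4), (0, 3), (0, 4), (0, 4), (0, 2), (0, 1), (2, 3), (0, 2), (2, 2), (0, 1), (0, 4), (0, 2), (0, 3), (2, 4), (0, 4), (0, 1), (0, 2), (0, 1), (0, 4), (1, 2), (0, 2), (0, 4), (0, 4), (0, 4), (1, 4), (0, 3), (0, 2), (2, 2), (0, 3), (0, 4), (0, 4), (0, 3), (0, 1), (1, 3), (1, 4), (0, 3), (1, 4), (0, 2), (0, 1), (0, 1), (0, 3), (0, 4), (1, 4), (0, 2), (1, 4), (0, 1), (0, 2), (0, 3), (0, 4), (0, 1), (0, 4), (0, 4), (0, 4), (0, 1), (0, 3), (0, 2), (1, 4), (1, 2), (0, 4), (0, 3), (0, 2), (0, 1), (3, 4)],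
  [(3, 4), (5, 3), (3, 4), (0, 4), (0, 2), (0, 4), (1, 3), (0, 1), (0, 3), (0, 3), (2, 2), (1, 2), (0, 2), (0, 4), (1, 4), (0, 3), (0, 1), (0, 1), (0, 4), (0, 4), (0, 1), (0, 3), (0, 2), (0, 3), (0, 2), (0, 3), (0, 1), (0, 3), (0, 1), (0, 2), (1, 1), (0, 4), (0, 3), (0, 3), (1, 4), (1, 2), (1, 3), (0, 3), (0, 2), (0, 1), (0, 1), (0, 1), (0, 2), (0, 2), (1, 2), (0, 4), (0, 1), (0, 3), (1, 1), (0, 4), (0, 3), (1, 3), (0, 2), (0, 3), (0, 4), (0, 1), (0, 2), (1, 2), (0, 4), (1, 1), (0, 4), (0, 4), (0, 2), (0, 2), (0, 1), (0, 2), (0, 4), (0, 1), (0, 4), (0, 4), (1, 1), (0, 2), (0, 2), (0, 3), (0, 1), (0, 4), (0, 4), (1, 2), (0, 1), (0, 1), (0, 3), (0, 3), (0, 2), (0, 3)],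
  [(2, 3), (0, 4), (1, 3), (0, 3), (2, 4), (0, 2), (0, 4), (0, 3), (0, 2), (0, 3), (0, 2), (0, 2), (0, 2), (0, 1), (0, 1), (1, 3), (0, 1), (1, 4), (0, 2), (0, 3), (0, 2), (1, 3), (0, 2), (0, 1), (0, 4), (0, 1), (0, 2), (1, 3), (0, 2), (2, 2), (0, 4), (0, 4), (0, 1), (0, 2), (0, 4), (1, 1), (0, 3), (0, 1), (0, 2), (0, 4), (1, 2), (0, 1), (0, 3), (0, 1), (0, 3), (1, 1), (1, 3), (0, 3), (3, 3), (0, 3), (0, 4), (1, 1), (0, 3), (0, 2), (0, 2), (1, 2), (0, 1), (0, 4), (0, 3), (0, 4), (0, 1), (0, 4), (1, 1), (1, 4), (1, 1), (0, 3), (0, 4), (1, 3), (2, 2), (0, 4), (0, 4), (0, 3), (0, 1), (0, 3), (0, 3), (0, 2), (0, 3), (0, 4), (0, 4), (0, 1), (2, 4), (0, 2)],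
  [(2, 3), (0, 1), (1, 3), (0, 3), (2, 1), (0, 2), (0, 4), (0, 3), (0, 1), (0, 1), (0, 3), (0, 3), (0, 2), (1, 2), (0, 4), (0, 2), (0, 3), (2, 2), (0, 4), (0, 1), (0, 3), (1, 3), (0, 4), (0, 2), (0, 2), (0, 4), (0, 1), (0, 1), (0, 3), (0, 4), (0, 4), (0, 3), (0, 4), (0, 2), (0, 1), (0, 4), (0, 3), (0, 1), (0, 2), (0, 1), (1, 1), (0, 4), (0, 1), (1, 2), (0, 3), (1, 4), (1, 3), (0, 1), (0, 1), (0, 2), (0, 1), (1, 4), (1, 2), (0, 1), (0, 1), (0, 1), (0, 4), (0, 4), (0, 4), (0, 4), (0, 3), (1, 2), (0, 2), (0, 2), (0, 1), (0, 2), (0, 4), (0, 1), (0, 1), (0, 2), (0, 4), (0, 2), (0, 4), (0, 1), (1, 1), (1, 2), (1, 4), (0, 1), (0, 4), (0, 1), (0, 2), (0, 4), (0, 3), (0, 2), (0, 3), (0, 2), (1, 1), (0, 1), (2, 3)],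
  [(2, 3), (0, 3), (1, 3), (0, 3), (2, 3), (0, 2), (0, 1), (0, 3), (0, 2), (1, 4), (0, 4), (0, 2), (0, 4), (0, 3), (0, 3), (0, 1), (0, 2), (1, 1), (0, 2), (0, 3), (0, 4), (0, 2), (1, 3), (0, 1), (1, 1), (0, 1), (0, 4), (0, 4), (0, 1), (0, 1), (0, 3), (0, 4), (0, 4), (2, 1), (0, 1), (1, 3), (0, 1), (0, 4), (1, 4), (1, 1), (0, 4), (0, 3), (0, 4), (0, 4), (0, 3), (1, 3), (0, 4), (1, 2), (1, 3), (0, 4), (0, 1), (0, 2), (0, 3), (0, 3), (0, 3), (0, 4), (0, 1), (0, 3), (0, 3), (0, 4), (1, 3), (0, 1), (0, 3), (0, 3), (0, 2), (0, 3), (0, 1), (1, 1), (0, 2), (1, 4), (0, 2), (0, 1), (0, 2), (0, 1), (2, 4), (0, 4), (0, 1), (0, 4), (1, 2), (0, 3), (0, 1), (0, 2), (1, 2), (1, 4), (0, 4), (0, 2)],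
  [(2, 3), (2, 3), (0, 3), (2, 2), (0, 2), (0, 2), (0, 3), (0, 3), (0, 3), (1, 1), (0, 2), (0, 3), (1, 3), (1, 3), (1, 2), (0, 2), (0, 4), (0, 2), (0, 3), (0, 4), (0, 4), (1, 3), (0, 4), (0, 4), (0, 4), (0, 2), (0, 1), (1, 2), (1, 4), (0, 3), (1, 3), (1, 2), (0, 1), (0, 4), (0, 3), (0, 4), (0, 2), (1, 2), (0, 4), (1, 2), (0, 4), (1, 3), (0, 4), (0, 2), (0, 2), (0, 3), (2, 2), (0, 4), (0, 2), (0, 3), (0, 2), (0, 2), (0, 2), (2, 2), (0, 3), (1, 1), (0, 2), (0, 4), (0, 1), (0, 2), (0, 4), (0, 3), (2, 2), (0, 3), (0, 3), (1, 1), (0, 3), (0, 4), (0, 2), (0, 2), (1, 3), (0, 2), (1, 2), (0, 4), (0, 2), (0, 4), (0, 2), (0, 1), (0, 4), (0, 3), (0, 2)],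
  [(14, 1), (1, 2), (3, 4), (1, 2), (4, 4), (1, 2), (0, 1), (1, 4), (0, 2), (0, 2), (0, 3), (1, 2), (0, 4), (2, 1), (3, 2), (1, 1), (0, 1), (3, 3), (0, 3), (1, 3), (0, 1), (0, 3), (0, 1), (1, 1), (1, 3), (2, 4), (0, 1), (1, 1), (0, 3), (0, 1), (0, 2), (0, 3), (0, 4), (2, 3), (0, 1), (0, 2), (0, 2), (0, 2), (4, 3), (2, 2), (0, 1), (0, 2), (0, 3), (1, 2), (0, 2), (0, 2), (0, 3), (0, 2), (0, 4), (0, 3), (0, 2), (0, 2), (1, 4), (0, 3), (0, 3), (2, 3), (0, 3)],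
  [(14, 1), (1, 3), (2, 2), (0, 1), (1, 4), (4, 3), (2, 1), (0, 3), (1, 4), (1, 1), (1, 3), (0, 3), (2, 2), (3, 3), (0, 3), (1, 4), (3, 2), (0, 4), (0, 4), (2, 2), (0, 1), (0, 1), (0, 3), (1, 2), (2, 3), (0, 4), (1, 1), (0, 3), (0, 3), (0, 3), (0, 4), (0, 3), (0, 4), (0, 1), (0, 2), (0, 2), (0, 1), (0, 1), (0, 2), (0, 3), (0, 1), (1, 2), (0, 3), (3, 1), (0, 4), (0, 1), (0, 3), (2, 3), (0, 4), (0, 4), (1, 1), (0, 1), (0, 3), (1, 3), (0, 1), (0, 2), (2, 1), (0, 2)],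
  [(9, 2), (3, 2), (2, 1), (3, 1), (1, 4), (4, 2), (0, 2), (2, 2), (0, 4), (0, 3), (3, 3), (0, 3), (2, 3), (2, 3), (0, 1), (0, 4), (0, 2), (0, 1), (4, 3), (2, 1), (0, 4), (0, 4), (0, 3), (0, 1), (1, 2), (2, 4), (1, 3), (0, 4), (1, 3), (1, 3), (0, 1), (2, 2), (0, 2), (0, 4), (0, 3), (0, 3), (0, 2), (2, 2), (0, 2), (1, 2), (2, 3), (0, 4), (4, 3), (0, 3), (2, 4), (0, 3), (0, 2), (0, 1), (2, 3), (0, 2), (0, 2), (0, 3), (0, 1)],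
  [(11, 3), (7, 3), (0, 3), (1, 3), (3, 1), (4, 3), (1, 1), (7, 3), (2, 1), (2, 3), (5, 3), (0, 3), (1, 3), (0, 2), (0, 3), (1, 3), (1, 3), (5, 3), (0, 3), (0, 4), (1, 3), (0, 1), (0, 1), (1, 1), (0, 4), (0, 4), (0, 1), (4, 3), (1, 1), (3, 3), (5, 3), (0, 1), (2, 2), (1, 3), (0, 3), (2, 4), (0, 2), (1, 4), (0, 4)],
  [(14, 1), (4, 3), (2, 4), (4, 1), (2, 1), (0, 2), (0, 3), (0, 3), (0, 2), (0, 1), (1, 2), (0, 4), (2, 3), (2, 3), (1, 1), (6, 1), (0, 1), (1, 3), (1, 4), (0, 4), (0, 3), (4, 2), (1, 2), (0, 2), (0, 4), (0, 1), (1, 3), (0, 2), (0, 1), (2, 1), (1, 1), (0, 2), (0, 1), (1, 2), (0, 4), (0, 4), (3, 1), (0, 4), (0, 2), (5, 3), (0, 3), (0, 1), (1, 2), (1, 4), (4, 1), (0, 4)],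
  [(14, 4), (1, 1), (3, 1), (6, 1), (2, 4), (0, 1), (0, 1), (0, 2), (1, 4), (1, 3), (0, 1), (2, 1), (2, 1), (0, 1), (1, 2), (0, 2), (3, 2), (0, 2), (2, 1), (0, 3), (0, 4), (1, 1), (1, 2), (2, 4), (1, 4), (1, 1), (0, 4), (2, 3), (2, 2), (0, 4), (0, 1), (0, 2), (0, 1), (0, 1), (3, 4), (3, 4), (0, 2), (5, 4), (0, 2), (0, 1), (0, 4), (1, 3), (0, 4), (0, 3), (5, 2)],
  [(14, 3), (5, 3), (1, 1), (4, 4), (2, 3), (0, 3), (0, 2), (1, 2), (0, 3), (1, 1), (0, 2), (2, 1), (2, 1), (1, 3), (0, 2), (4, 1), (0, 2), (2, 3), (1, 4), (1, 3), (1, 1), (2, 1), (1, 1), (0, 1), (0, 4), (0, 4), (1, 2), (3, 1), (0, 3), (0, 2), (1, 3), (0, 4), (1, 2), (0, 4), (0, 1), (3, 3), (0, 1), (0, 3), (6, 1), (0, 3), (1, 1), (1, 4), (4, 3), (0, 3), (0, 2)]]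

end CfsgLib.LyGTwo
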