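import Cfsg.Agent.Lib.LyGTwo.RepGenA
import Cfsg.Agent.Lib.LyGTwo.RepGenB
import Cfsg.Agent.Lib.LyGTwo.RepGenC
import Cfsg.Agent.Lib.LyGTwo.RepGenD
import Cfsg.Agent.Lib.LyGTwo.RepGenE
import Cfsg.Agent.Lib.LyGTwo.RepGenF
import Cfsg.Agent.Lib.LyGTwo.RepGenG
import Cfsg.Agent.Lib.LyGTwo.RepGenH
import Cfsg.Agent.Lib.LyGTwo.RepGenI
import Cfsg.Agent.Lib.LyGTwo.RepGenJ

/-! The ten letters in degree 111. -/

set_option autoImplicit false

namespace CfsgLib.LyGTwo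

/-- The letters. -/
def repAll : List (List (List (ℕ × ℕ))) := [repA, repB, repC, repD, repE, repF, repG, repH, repI, repJ]

end CfsgLib.LyGTwo
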