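import Mathlib.Data.List.Basic
import Cfsg.Prelude.Def_Spor_Ly

/-!
# Words in the five generators of the presented Lyons group (generated by tools_ly/genw.py)

Letter `g < 5` is a, b, c, d, z and `g + 5` its inverse.
-/

set_option autoImplicit false

namespace CfsgLib.LyGTwo

open Cfsg.Spor

/-- The generators as words in a, b, c, d, z. -/
def defW : Ly.Gen → List ℕ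
  | .a => [0]
  | .b => [1]
  | .c => [2]
  | .d => [3]
  | .z => [4]
  | .e => [6, 6, 5, 7, 0, 2, 5, 2, 0, 3, 2, 1, 0, 6, 3, 2, 3]
  | .a1 => [0]
  | .a2 => [1, 0, 6]
  | .a3 => [1, 1, 0, 6, 6]
  | .a4 => [6, 6, 0, 1, 1]
  | .c1 => [2]
  | .c2 => [5, 2, 0]
  | .c3 => [6, 2, 1]
  | .c4 => [1, 2, 6]
  | .c5 => [7, 5, 7, 0, 2, 5, 2, 0]
  | .u => [0, 0]
  | .x23 => [3]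
  | .x24 => [8]
  | .x25 => [1, 1, 5, 6, 5, 1, 1, 7, 0, 2, 5, 7, 3, 7, 1, 1, 5, 2, 1]
  | .x29 => [0, 1, 5, 1, 1, 5, 1, 1, 7, 0, 2, 1, 2, 6, 3, 2, 6, 6, 3, 2, 1, 2]
  | .x47 => [7, 8, 5, 7, 5, 1, 7, 8]
  | .x96 => [1, 3]
  | .x129 => [8, 6]
  | .x162 => [5, 6, 5, 1, 7, 6, 0, 7, 1, 0]
  | .x163 => [6, 6, 0, 2, 5, 1, 2, 1]
  | .x164 => [5, 6, 5, 2, 0, 1, 0]
  | .x165 => [6, 5, 1, 2, 6, 0, 1]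
  | .x166 => [1, 1, 5, 6, 2, 1, 0, 2, 6, 6, 7]
  | .x167 => [5, 5, 5]
  | .x168 => [1, 5, 6, 5, 5]
  | .x169 => [0, 1, 1, 0, 6, 6, 5]
  | .x364 => [5, 3, 6, 7, 5, 1, 7, 8, 1, 7, 6, 5, 7, 0, 6, 0, 1, 0, 6]
  | .x365 => [0, 6, 6, 5, 2, 1, 7, 1, 5, 7, 7, 3, 2, 0, 2, 5, 2, 6, 8]
  | .x366 => [1, 0, 6, 5, 6, 6, 5, 6, 2, 1, 1, 2, 1, 3, 2, 6, 6, 3, 2, 1, 2]
  | .x367 => [7, 6, 7, 8, 1, 1, 7, 8, 6, 7, 6, 6, 7, 1, 0, 1, 1, 0, 1, 5, 6]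
  | .x368 => [5, 7, 8, 0, 7, 6, 0, 7, 8, 5, 7, 0, 2, 6, 6, 7, 6, 5, 6, 6]
  | .x369 => [5, 7, 8, 1, 5, 6, 7, 8, 1, 5, 6, 7, 6, 0, 6, 6, 0, 6]
  | .x370 => [8, 0, 2, 1, 2, 5, 7, 8, 0, 6, 5, 2, 5, 6, 6, 5, 1, 5]
  | .x371 => [7, 5, 2, 1, 7, 8, 2, 5, 2, 0, 2, 6, 5, 6, 5, 1]

/-- Relators that define generators, in order. -/
def defOrder : List (ℕ × Ly.Gen) := [(5, .c1), (6, .c2), (7, .c3), (8, .c4), (9, .c5), (28, .e), (44, .a1), (45, .a2), (46, .a3), (47, .a4), (48, .u), (49, .x23), (50, .x24), (51, .x25), (52, .x29), (53, .x47), (54, .x96), (55, .x129), (56, .x162), (57, .x163), (58, .x164), (59, .x165), (60, .x166), (61, .x167), (62, .x168), (63, .x169), (64, .x364), (65, .x365), (66, .x366), (67, .x367), (68, .x368), (69,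 .x369), (70, .x370), (71, .x371)]

/-- The reduced relators. -/
def relW : List (List ℕ) := [
  [0, 0, 0, 0, 0, 0, 0, 0],
  [1, 1, 1, 1, 1],
  [0, 1, 0, 1, 0, 1, 0, 1],
  [5, 5, 6, 0, 0, 1],
  [5, 6, 0, 1, 5, 6, 0, 1, 5, 6, 0, 1],
  [],
  [],
  [],
  [],
  [],
  [2, 2, 2, 2, 2],
  [7, 5, 7, 0, 2, 5, 2, 0, 7, 5, 7, 0, 2, 5, 2, 0, 7, 5, 7, 0, 2, 5, 2, 0, 7, 5, 7, 0, 2, 5, 2, 0, 7, 5, 7, 0, 2, 5, 2, 0],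
  [7, 5, 7, 0, 7, 5, 2, 0, 2, 5, 7, 0, 2, 5, 2, 0],
  [5, 7, 7, 0, 7, 5, 2, 0, 2, 5, 2, 0, 7, 5, 7, 0, 2, 5, 2, 0],
  [6, 7, 1, 5, 7, 0, 7, 5, 2, 0, 2, 6, 2, 1, 7, 5, 7, 0, 2, 5, 2, 0],
  [1, 7, 6, 5, 7, 0, 7, 5, 2, 0, 2, 1, 2, 6, 7, 5, 7, 0, 2, 5, 2, 0],
  [7, 6, 7, 1, 2, 6, 2, 1, 7, 5, 7, 0, 2, 5, 2, 0, 7, 5, 7, 0, 2, 5, 2, 0],
  [7, 1, 7, 6, 2, 1, 2, 6, 5, 7, 0, 7, 5, 2, 0, 2, 5, 7, 0, 7, 5, 2, 0, 2],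
  [5, 7, 0, 6, 7, 1, 5, 2, 0, 6, 2, 1, 7, 5, 7, 0, 2, 5, 2, 0],
  [5, 7, 0, 1, 7, 6, 5, 2, 0, 1, 2, 6],
  [6, 7, 1, 1, 7, 6, 6, 2, 1, 1, 2, 6, 7, 5, 7, 0, 2, 5, 2, 0],
  [5, 5, 2, 0, 0, 2, 2],
  [5, 6, 2, 1, 0, 1, 7, 6, 7, 6, 2, 2, 1],
  [5, 1, 2, 6, 0, 1, 7, 6, 7, 1, 7, 6, 6, 2, 1, 5, 2, 0, 7],
  [5, 7, 5, 7, 0, 2, 5, 2, 0, 7, 0, 7, 5, 2, 0, 2, 5, 7, 0, 7, 5, 2, 0, 2],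
  [6, 5, 2, 0, 1, 1, 2, 6, 2, 1, 2, 6, 6, 7, 1, 5, 7, 0],
  [6, 6, 2, 1, 2, 2, 1, 1, 7, 6, 7, 7],
  [6, 7, 5, 7, 0, 2, 5, 2, 0, 1, 5, 7, 0, 7, 5, 2, 0, 2],
  [],
  [6, 6, 5, 7, 0, 2, 5, 2, 0, 3, 2, 1, 0, 6, 3, 2, 3, 6, 6, 5, 7, 0, 2, 5, 2, 0, 3, 2, 1, 0, 6, 3, 2, 3],
  [8, 7, 8, 1, 5, 6, 7, 8, 5, 7, 0, 7, 5, 2, 0, 1, 1, 2, 6, 6, 5, 7, 0, 2, 5, 2, 0, 3, 2, 1, 0, 6, 3, 2, 3, 2, 6, 6, 7],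
  [8, 7, 8, 1, 5, 6, 7, 8, 5, 7, 0, 7, 5, 2, 0, 1, 2, 6, 5, 7, 0, 2, 5, 2, 0, 3, 2, 1, 0, 6, 3, 2, 3, 0, 1, 2, 6, 2, 5, 7, 6, 6],
  [8, 7, 8, 1, 5, 6, 7, 8, 5, 7, 0, 7, 5, 2, 0, 1, 1, 1, 2, 6, 6, 6, 5, 7, 0, 2, 5, 2, 0, 3, 2, 1, 0, 6, 3, 2, 3, 1, 7, 6, 6, 2, 6],
  [8, 7, 8, 1, 5, 6, 7, 8, 5, 7, 0, 7, 5, 2, 0, 1, 1, 7, 5, 7, 0, 2, 5, 2, 0, 6, 6, 5, 7, 0, 2, 5, 2, 0, 3, 2, 1, 0, 6, 3, 2, 3, 1, 2, 6, 7, 6, 2, 1, 7],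
  [6, 6, 5, 7, 0, 2, 5, 2, 0, 3, 2, 1, 0, 6, 3, 2, 3, 0, 0, 6, 6, 5, 7, 0, 2, 5, 2, 0, 3, 2, 1, 0, 6, 3, 2, 3, 1, 2, 6, 5, 7, 0, 7, 5, 2, 1, 5, 6, 6, 5],
  [8, 7, 8, 1, 5, 6, 7, 8, 5, 7, 0, 7, 5, 2, 0, 1, 5, 7, 0, 2, 5, 2, 0, 3, 2, 1, 0, 6, 3, 2, 3, 1, 2, 2, 6, 6, 2, 1, 7],
  [6, 6, 5, 7, 0, 2, 5, 2, 0, 3, 2, 1, 0, 6, 3, 2, 3, 0, 1, 1, 0, 6, 0, 6, 6, 5, 7, 0, 2, 5, 2, 0, 3, 2, 1, 0, 6, 3, 2, 3, 1, 2, 6, 5, 7, 0, 7, 5, 2, 5],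
  [6, 6, 5, 7, 0, 2, 5, 2, 0, 3, 2, 1, 0, 6, 3, 2, 3, 5, 2, 0, 6, 6, 5, 7, 0, 2, 5, 2, 0, 3, 2, 1, 0, 6, 3, 2, 3, 5, 7, 0, 6, 6, 5, 7, 0, 2, 5, 2, 0, 3, 2, 1, 0, 6, 3, 2, 3, 5, 2, 0, 1, 7, 6, 0, 6, 2, 1, 0, 0, 0],
  [7, 8, 1, 5, 6, 7, 8, 5, 7, 0, 7, 5, 2, 0, 1, 5, 2, 8, 7, 8, 1, 5, 6, 7, 8, 5, 7, 0, 7, 5, 2, 0, 1, 1, 5, 8, 7, 8, 1, 5, 6, 7, 8, 5, 7, 0, 7, 5, 2, 0, 1, 1, 5, 7, 5, 7, 0, 2, 5, 2, 0, 1, 2, 6, 2, 1, 0, 6, 6, 5],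
  [3, 3, 5, 5, 5, 5],
  [6, 8, 1, 3],
  [8, 0, 3, 5, 5, 5],
  [3, 7, 5, 7, 0, 2, 5, 2, 0, 3, 7, 5, 7, 0, 2, 5, 2, 0, 3, 7, 5, 7, 0, 2, 5, 2, 0, 3, 7, 5, 7, 0, 2, 5, 2, 0, 3, 7, 5, 7, 0, 2, 5, 2, 0],
  [3, 7, 5, 7, 0, 2, 5, 2, 0, 3, 5, 7, 0, 7, 5, 2, 0, 2, 3, 7, 5, 7, 0, 2, 5, 2, 5],
  [],
  [],
  [],
  [],
  [],
  [],
  [],
  [],
  [],
  [],
  [],
  [],
  [],
  [],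
  [],
  [],
  [],
  [],
  [],
  [],
  [],
  [],
  [],
  [],
  [],
  [],
  [],
  [],
  [9, 2, 4, 5, 6, 2, 5, 1, 2, 6, 0, 1, 0],
  [9, 5, 2, 0, 4, 6, 7, 6, 0, 7, 5, 1, 1],
  [9, 6, 2, 1, 4, 5, 6, 5, 7, 0, 1, 0],
  [9, 1, 2, 6, 4, 6, 5, 1, 7, 6, 0, 1],
  [9, 7, 5, 7, 0, 2, 5, 2, 0, 4, 2, 1, 1, 7, 5, 6, 7, 1, 0, 6, 6],
  [9, 0, 4, 0, 0, 0],
  [9, 1, 0, 6, 4, 0, 0, 1, 0, 6],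
  [9, 1, 1, 0, 6, 6, 4, 0, 1, 1, 5, 6, 6, 5],
  [4, 4, 5, 5],
  [6, 6, 0, 1, 1, 4, 6, 6, 0, 1, 1, 4, 6, 6, 0, 1, 1, 4, 0, 0],
  [7, 8, 5, 7, 5, 1, 7, 8, 4, 5, 3, 6, 7, 5, 1, 7, 8, 1, 7, 6, 5, 7, 0, 6, 0, 1, 0, 6, 4, 5, 7, 8, 0, 7, 6, 0, 7, 8, 5, 7, 0, 2, 6, 6, 7, 6, 5, 6, 6, 4],
  [9, 8, 9, 5, 7, 8, 1, 5, 6, 7, 8, 1, 5, 6, 7, 6, 0, 6, 6, 0, 6, 4, 3, 4, 0, 1, 5, 1, 1, 5, 1, 1, 7, 0, 2, 1, 2, 6, 3, 2, 6, 6, 3, 2, 1, 2],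
  [4, 1, 0, 6, 5, 6, 6, 5, 6, 2, 1, 1, 2, 1, 3, 2, 6, 6, 3, 2, 1, 2, 4, 0, 6, 6, 5, 2, 1, 7, 1, 5, 7, 7, 3, 2, 0, 2, 5, 2, 6, 8, 9, 7, 6, 7, 8, 1, 1, 7, 8, 6, 7, 6, 6, 7, 1, 0, 1, 1, 0, 1, 5, 6, 9, 8, 0, 2, 1, 2, 5, 7, 8, 0, 6, 5, 2, 5, 6, 6, 5, 1, 5],
  [4, 1, 3, 4, 1, 1, 5, 6, 5, 1, 1, 7, 0, 2, 5, 7, 3, 7, 1, 1, 5, 2, 1, 9, 8, 6, 9, 7, 5, 2, 1, 7, 8, 2, 5, 2, 0, 2, 6, 5, 6, 5, 1]]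

/-- The eighteen letters of the coset tables. -/
def letW : List (List ℕ) := [
  [0],
  [1],
  [2],
  [3],
  [6, 6, 5, 7, 0, 2, 5, 2, 0, 3, 2, 1, 0, 6, 3, 2, 3],
  [5, 2, 0],
  [6, 2, 1],
  [1, 2, 6],
  [7, 5, 7, 0, 2, 5, 2, 0],
  [5],
  [6],
  [7],
  [8],
  [8, 7, 8, 1, 5, 6, 7, 8, 5, 7, 0, 7, 5, 2, 0, 1, 1],
  [5, 7, 0],
  [6, 7, 1],
  [1, 7, 6],
  [5, 7, 0, 7, 5, 2, 0, 2]]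

/-- The letters of stage 1. -/
def ixOne : List ℕ := [2, 5, 6, 7, 8, 11, 14, 15, 16, 17]

/-- Witnesses for the relators of stage 1. -/
def witOne : List (List ℕ × ℕ) := [
  ([], 100),
  ([], 10),
  ([], 11),
  ([], 12),
  ([], 13),
  ([], 14),
  ([], 15),
  ([], 16),
  ([], 17),
  ([], 18),
  ([], 19),
  ([], 20),
  ([5], 10),
  ([6], 10),
  ([1], 10),
  ([], 100),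
  ([], 100),
  ([], 100),
  ([], 100),
  ([], 100),
  ([], 100),
  ([], 100),
  ([], 100),
  ([], 100),
  ([], 100)]

/-- The letters of stage 2. -/
def ixTwo : List ℕ := [0, 1, 2, 5, 6, 7, 8, 9, 10, 11, 14, 15, 16, 17]

/-- Witnesses for the relators of stage 2. -/
def witTwo : List (List ℕ × ℕ) := [
  ([], 0),
  ([], 1),
  ([], 2),
  ([], 3),
  ([], 4),
  ([], 100),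
  ([], 100),
  ([], 100),
  ([], 100),
  ([], 10),
  ([], 11),
  ([], 12),
  ([], 13),
  ([], 14),
  ([], 15),
  ([], 16),
  ([], 17),
  ([], 18),
  ([], 19),
  ([], 20),
  ([], 21),
  ([], 22),
  ([], 23),
  ([], 24),
  ([], 25),
  ([], 26),
  ([], 27),
  ([], 100),
  ([], 100),
  ([], 100),
  ([], 100),
  ([], 100),
  ([], 100),
  ([], 100),
  ([], 100),
  ([], 100),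
  ([], 100),
  ([], 100),
  ([], 100),
  ([], 100),
  ([], 100)]

/-- The letters of stage 3. -/
def ixThree : List ℕ := [0, 1, 2, 3, 4, 5, 6, 7, 8, 9, 10, 11, 12, 13, 14, 15, 16, 17]

/-- Witnesses for the relators of stage 3. -/
def witThree : List (List ℕ × ℕ) := [
  ([], 0),
  ([], 1),
  ([], 2),
  ([], 3),
  ([], 4),
  ([], 100),
  ([], 100),
  ([], 100),
  ([], 100),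
  ([], 10),
  ([], 11),
  ([], 12),
  ([], 13),
  ([], 14),
  ([], 15),
  ([], 16),
  ([], 17),
  ([], 18),
  ([], 19),
  ([], 20),
  ([], 21),
  ([], 22),
  ([], 23),
  ([], 24),
  ([], 25),
  ([], 26),
  ([], 27),
  ([], 100),
  ([], 29),
  ([], 30),
  ([], 31),
  ([], 32),
  ([], 33),
  ([], 34),
  ([], 35),
  ([], 36),
  ([], 37),
  ([], 38),
  ([], 39),
  ([], 40),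
  ([], 41),
  ([], 42),
  ([], 43),
  ([], 100),
  ([], 100),
  ([], 100),
  ([], 100),
  ([], 100),
  ([], 100),
  ([], 100),
  ([], 100),
  ([], 100),
  ([], 100),
  ([], 100),
  ([], 100),
  ([], 100),
  ([], 100),
  ([], 100),
  ([], 100),
  ([], 100),
  ([], 100)]

end CfsgLib.LyGTwo
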