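import Cfsg.Agent.Lib.LyGTwo.SparseCore
import Cfsg.Agent.Lib.LyGTwo.RepData
import Cfsg.Agent.Lib.LyGTwo.WordData

/-!
# The check of a relator in degree 111
-/

set_option autoImplicit false

namespace CfsgLib.LyGTwo

/-- The relators with positions in `[a, a + n)` evaluate to one. -/
noncomputable def repChk (a n : ℕ) : Bool :=
  ((relW.drop a).take n).all fun w =>
    (w.all fun g => Nat.blt g 10) && SF.beqL (SF.evalP 111 repAll w) (SF.idP 111)

end CfsgLib.LyGTwo
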