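import Mathlib.Data.Nat.Bitwise

/-!
Products of sparse by packed matrices modulo five.
-/

set_option autoImplicit false

namespace CfsgLib.LyGTwo.SF

/-- The width of a slot. -/
abbrev slotB : ℕ := 4294967296

/-- A packed row. -/
def pk : List ℕ → ℕ
  | [] => 0
  | a :: l => a + slotB * pk l

/-- Fourteen low bits in each slot. -/
def mask : ℕ → ℕ
  | 0 => 0
  | n + 1 => 16383 + slotB * mask n

/-- Reduction of all slots modulo five. -/
def red (n x : ℕ) : ℕ := x - 5 * (((x * 52429) >>> 18) &&& mask n)

/-- Dropping entries from the front. -/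
noncomputable def dropR (s : ℕ) : List ℕ → List ℕ :=
  Nat.rec (motive := fun _ => List ℕ → List ℕ) (fun Y => Y)
    (fun _ ih Y => List.rec (motive := fun _ => List ℕ) [] (fun _ t _ => ih t) Y) s

/-- A sparse row times a packed matrix. -/
noncomputable def dotP (r : List (ℕ × ℕ)) : List ℕ → ℕ :=
  List.rec (motive := fun _ => List ℕ → ℕ) (fun _ => 0)
    (fun x _ ih Y => List.rec (motive := fun _ => ℕ) 0 (fun y t _ => x.2 * y + ih t) (dropR x.1 Y)) r

/-- A sparse matrix times a packed matrix. -/
noncomputable def mulP (n : ℕ) (g : List (List (ℕ × ℕ))) (Y : List ℕ) : List ℕ :=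
  List.rec (motive := fun _ => List ℕ) [] (fun r _ ih => red n (dotP r Y) :: ih) g

/-- The packed identity. -/
def idP (n : ℕ) : List ℕ := (List.range n).map fun i => slotB ^ i

/-- The packed value of a word. -/
noncomputable def evalP (n : ℕ) (G : List (List (List (ℕ × ℕ)))) (w : List ℕ) : List ℕ :=
  List.rec (motive := fun _ => List ℕ) (idP n) (fun g _ Y => mulP n (G.getD g []) Y) w

/-- Equality of lists of numbers. -/
def beqL : List ℕ → List ℕ → Bool
  | [], [] => true
  | a :: l, b :: m => Nat.beq a b && beqL l m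
  | _, _ => false

end CfsgLib.LyGTwo.SF
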