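import Cfsg.Agent.Lib.LyGTwo.SparseSem

/-!
# Comparing two products
-/

set_option autoImplicit false

namespace CfsgLib.LyGTwo.SF

/-- The value of a word of letters, by matrices. -/
def wordMat (n : ℕ) (G : List (List (List (ℕ × ℕ)))) (w : List ℕ) : Matrix (Fin n) (Fin n) (ZMod 5) :=
  (w.map fun g => genMat n (G.getD g [])).prod

/-- Two words have equal values. -/
noncomputable def sameW (n : ℕ) (G : List (List (List (ℕ × ℕ)))) (G' : List (List (List (ℕ × ℕ)))) (w w' : List ℕ) : Bool :=
  (w.all fun g => Nat.blt g G.length) && (w'.all fun g => Nat.blt g G'.length) &&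
    beqL (evalP n G w) (evalP n G' w')

theorem sameW_sound {n : ℕ} {G G' : List (List (List (ℕ × ℕ)))}
    (hG : (G.all (okGen n)) = true) (hG' : (G'.all (okGen n)) = true)
    (hid : idP n = (idL n).map pk) {w w' : List ℕ} (h : sameW n G G' w w' = true) :
    wordMat n G w = wordMat n G' w' := by
  simp only [sameW, Bool.and_eq_true, List.all_eq_true, Nat.blt_eq] at h
  obtain ⟨⟨hw, hw'⟩, hb⟩ := h
  have hok : ∀ {H : List (List (List (ℕ × ℕ)))}, H.all (okGen n) = true → ∀ g, g < H.length →
      okGen n (H.getD g []) = true := fun hH g hg => by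
    rw [List.getD_eq_getElem _ _ hg]
    exact List.all_eq_true.1 hH _ (List.getElem_mem hg)
  obtain ⟨e1, e2, e3, e4⟩ := eval_spec G hid w fun g hg => hok hG g (hw g hg)
  obtain ⟨d1, d2, d3, d4⟩ := eval_spec G' hid w' fun g hg => hok hG' g (hw' g hg)
  have he := eq_of_beqL hb
  rw [e1, d1] at he
  rw [wordMat, wordMat, ← e4, ← d4, show evalL n G w = evalL n G' w' from ?_]
  refine List.ext_getElem (e3.trans d3.symm) fun i h1 h2 => ?_
  have hi : pk ((evalL n G w)[i]) = pk ((evalL n G' w')[i]) := by
    have := congrArg (fun l : List ℕ => l.getD i 0) he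
    rwa [List.getD_eq_getElem _ 0 (show i < ((evalL n G w).map pk).length by simpa using h1),
      List.getD_eq_getElem _ 0 (show i < ((evalL n G' w').map pk).length by simpa using h2),
      List.getElem_map, List.getElem_map] at this
  obtain ⟨l1, b1⟩ := e2 _ (List.getElem_mem h1)
  obtain ⟨l2, b2⟩ := d2 _ (List.getElem_mem h2)
  exact pk_inj (l1.trans l2.symm) b1 b2 hi

end CfsgLib.LyGTwo.SF
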