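import Cfsg.Agent.Lib.CosetCert.Basic

/-!
# Packed coset tables
-/

set_option autoImplicit false

namespace CfsgLib.LyGTwo

open CfsgLib.CosetCert

/-- A table of at most 4096 points, 256 rows to a chunk. -/
def lookT (ng : ℕ) (t : List ℕ) (i g : ℕ) : ℕ :=
  ((t.getD (i / 256) 0) >>> (12 * ((i % 256) * ng + g))) % 4096

/-- The parent and the last letter of the tree path of a point. -/
def lookP (p : List ℕ) (i : ℕ) : ℕ := ((p.getD (i / 256) 0) >>> (17 * (i % 256))) % 131072

/-- The tree path of a point, computed with fuel. -/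
def pathT (p : List ℕ) : ℕ → ℕ → List ℕ
  | 0, _ => []
  | f + 1, i => if i = 0 then [] else pathT p f (lookP p i % 4096) ++ [lookP p i / 4096]

/-- The edges of the tree, in the order of their ends. -/
def edgesOf : List ℕ → List (ℕ × ℕ)
  | [] => []
  | e :: l => (e % 4096, e / 4096) :: edgesOf l

/-- Entries of `w` bits each. -/
def entriesOf (w : ℕ) : List (ℕ × ℕ) → List ℕ
  | [] => []
  | (m, x) :: l => ((List.range m).map fun j => (x >>> (w * j)) % 2 ^ w) ++ entriesOf w l

/-- The deductions. -/
def stepsOf : List ℕ → List (ℕ × ℕ × ℕ)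
  | [] => []
  | e :: l => (e % 4096, (e / 4096) % 128, e / 524288) :: stepsOf l

end CfsgLib.LyGTwo
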